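import Mathlib
import Cfsg.Agent.Char.NormalAbelianSylow
import Cfsg.Agent.Char.DerivedLengthBound
import Cfsg.Agent.Char.Gallagher
import Cfsg.Agent.Char.RelDegree
import Cfsg.Agent.ProjExt.Criteria
import Cfsg.Agent.Fusion.SolvablePSolvable
import Cfsg.Agent.Blocks.NormalDefect.Degrees

/-!
# Divisors of character degrees
-/

set_option autoImplicit false
set_option linter.style.haveILetI false

namespace Cfsg.Agent.Palfy

open Cfsg.Agent.Char

universe u

/-- Some irreducible character degree is divisible by `n`. -/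
def DvdDeg (n : ℕ) (G : Type u) [Group G] : Prop :=
  ∃ χ : Cfsg.IrrCharacter G, n ∣ Cfsg.charDegree (χ : G → ℂ)

variable {G : Type u} [Group G] [Finite G]

theorem DvdDeg.of_dvd {m n : ℕ} (h : DvdDeg n G) (hmn : m ∣ n) : DvdDeg m G :=
  h.imp fun _ hχ => hmn.trans hχ

theorem DvdDeg.of_quotient {n : ℕ} (N : Subgroup G) [N.Normal] (h : DvdDeg n (G ⧸ N)) :
    DvdDeg n G := by
  obtain ⟨θ, hθ⟩ := h
  refine ⟨⟨_, isIrrCharacter_comp (QuotientGroup.mk' N) (QuotientGroup.mk'_surjective N) θ.2⟩, ?_⟩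
  simpa [Cfsg.charDegree] using hθ

omit [Finite G] in
theorem DvdDeg.of_equiv {H : Type u} [Group H] {n : ℕ} (e : G ≃* H) (h : DvdDeg n H) :
    DvdDeg n G := by
  obtain ⟨θ, hθ⟩ := h
  refine ⟨⟨_, isIrrCharacter_comp e.toMonoidHom e.surjective θ.2⟩, ?_⟩
  simpa [Cfsg.charDegree] using hθ

theorem dvdDeg_of_deg {χ : G → ℂ} (hχ : Cfsg.IsIrrCharacter G χ) {d n : ℕ} (hd : χ 1 = d)
    (hn : n ∣ d) : DvdDeg n G :=
  ⟨⟨χ, hχ⟩, by rwa [Blocks.charDegree_eq hd]⟩

/-- A normal abelian Sylow subgroup. -/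
theorem not_dvdDeg_of_sylow {s : ℕ} [Fact s.Prime] (S : Sylow s G) (hS : (S : Subgroup G).Normal)
    (hab : ∀ a ∈ (S : Subgroup G), ∀ b ∈ (S : Subgroup G), a * b = b * a) : ¬ DvdDeg s G := by
  rintro ⟨χ, hχ⟩
  haveI := hS
  exact S.not_dvd_index (hχ.trans (Blocks.NormalDefect.charDegree_dvd_index _ hab χ))

/-- The Itô–Michler theorem for solvable groups. -/
theorem sylow_of_not_dvdDeg [Group.IsSolvable G] {s : ℕ} [Fact s.Prime] (h : ¬ DvdDeg s G)
    (S : Sylow s G) : (S : Subgroup G).Normal ∧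
      ∀ a ∈ (S : Subgroup G), ∀ b ∈ (S : Subgroup G), a * b = b * a := by
  obtain ⟨P, hPn, hPc, hPp, hPi⟩ := Char.exists_normal_abelian_sylow _ G rfl
    (Fusion.isPSolvable_of_isSolvable (p := s) G) fun χ hχ => h ⟨χ, hχ⟩
  haveI := hPn
  have hP : (hPp.toSylow hPi : Subgroup G) = P := rfl
  haveI := (hPp.toSylow hPi).unique_of_normal hPn
  rw [Subsingleton.elim S (hPp.toSylow hPi), hP]
  exact ⟨hPn, hPc⟩

/-- The index of the inertia group times the degree divides a degree. -/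
theorem dvdDeg_inertia (N : Subgroup G) [N.Normal] {θ : N → ℂ} (hθ : Cfsg.IsIrrCharacter N θ)
    {d : ℕ} (hd : θ 1 = d) : DvdDeg ((inertia θ).index * d) G := by
  classical
  have := Fintype.ofFinite G
  have := Fintype.ofFinite N
  obtain ⟨χ, hχ⟩ := exists_over N ⟨θ, hθ⟩
  obtain ⟨e, he⟩ := classInner_isCharacter_eq_natCast
    (isCharacter_res N (IsIrr.isCharacter χ.2)) (IsIrr.isCharacter hθ)
  have h1 := degree_eq_of_clifford χ.2 hθ hχ
  change classInner (fun n : N => (χ : G → ℂ) n) θ = (e : ℂ) at he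
  rw [he, hd] at h1
  refine dvdDeg_of_deg χ.2 (d := e * (inertia θ).index * d) (by rw [h1]; push_cast; ring) ?_
  exact ⟨e, by ring⟩

/-- Characters over an extendible character. -/
theorem dvdDeg_of_extension (N : Subgroup G) [N.Normal] {θ : N → ℂ} (hθ : Cfsg.IsIrrCharacter N θ)
    {d : ℕ} (hd : θ 1 = d) {η : inertia θ → ℂ} (hη : Cfsg.IsIrrCharacter (inertia θ) η)
    (hres : ∀ (n : N) (h : (n : G) ∈ inertia θ), η ⟨n, h⟩ = θ n) {k : ℕ}
    (hk : DvdDeg k (inertia θ ⧸ N.subgroupOf (inertia θ))) :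
    DvdDeg ((inertia θ).index * (k * d)) G := by
  classical
  haveI := Fintype.ofFinite G
  haveI := Fintype.ofFinite N
  haveI := Fintype.ofFinite (inertia θ)
  let N' : Subgroup (inertia θ) := N.subgroupOf (inertia θ)
  haveI := Fintype.ofFinite N'
  have hle : N ≤ (inertia θ) := le_inertia (isClassFunction_of_isIrr hθ)
  obtain ⟨β, hβ⟩ := hk
  have hβc := isIrrCharacter_comp (QuotientGroup.mk' N') (QuotientGroup.mk'_surjective N') β.2
  have hker : ∀ n ∈ N', (fun g : (inertia θ) => (β : (inertia θ) ⧸ N' → ℂ) (QuotientGroup.mk' N' g)) n =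
      (fun g : (inertia θ) => (β : (inertia θ) ⧸ N' → ℂ) (QuotientGroup.mk' N' g)) 1 := fun n hn => by
    show (β : (inertia θ) ⧸ N' → ℂ) (QuotientGroup.mk' N' n) = (β : (inertia θ) ⧸ N' → ℂ) (QuotientGroup.mk' N' 1)
    rw [map_one, QuotientGroup.mk'_apply, (QuotientGroup.eq_one_iff n).2 hn]
  let eN : N' ≃* N := Subgroup.subgroupOfEquivOfLe hle
  have hresN : Cfsg.IsIrrCharacter N' (fun n : N' => η n) := by
    have : (fun n : N' => η n) = fun n => θ (eN n) := funext fun n => hres (eN n) (n : (inertia θ)).2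
    rw [this]
    exact (isIrrCharacter_comp_equiv eN).2 hθ
  have hψ := isIrr_mul_of_res_irr N' hη hresN hβc hker
  obtain ⟨b, hb0, hb⟩ := IsIrr.degree β.2
  rw [Blocks.charDegree_eq hb] at hβ
  have hrest : (fun n : N => ((fun g : (inertia θ) => (β : (inertia θ) ⧸ N' → ℂ) (QuotientGroup.mk' N' g)) * η)
      ⟨n, hle n.2⟩) = (b : ℂ) • θ := by
    funext n
    simp only [Pi.mul_apply, Pi.smul_apply, smul_eq_mul]
    rw [hres, QuotientGroup.mk'_apply,
      (QuotientGroup.eq_one_iff _).2 (show (⟨n, hle n.2⟩ : (inertia θ)) ∈ N' from n.2), hb]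
  have hirr := isIrr_ind_of_res N hθ hψ hb0 hrest
  refine dvdDeg_of_deg hirr (d := (inertia θ).index * (b * d)) ?_
    (Nat.mul_dvd_mul_left _ (Nat.mul_dvd_mul_right hβ d))
  rw [indFun_apply_one, Pi.mul_apply, map_one, hb,
    show η 1 = (d : ℂ) from (hres 1 (one_mem _)).trans hd]
  push_cast
  ring

/-- A linear character extends over a complement when it is invariant. -/
theorem exists_hom_extension {X : Type u} [Group X] (N C : Subgroup X) [hN : N.Normal]
    (hinf : ∀ a ∈ C, a ∈ N → a = 1) (hsup : ∀ x : X, ∃ c ∈ C, x * c⁻¹ ∈ N) (l : N →* ℂˣ)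
    (hinv : ∀ (g : X) (n : N), l ⟨g * n * g⁻¹, hN.conj_mem n n.2 g⟩ = l n) :
    ∃ μ : X →* ℂˣ, ∀ n : N, μ n = l n := by
  choose π hπC hπN using hsup
  have hπmul : ∀ x y, π (x * y) = π x * π y := fun x y => by
    refine mul_inv_eq_one.1 (hinf _ (C.mul_mem (hπC _) (C.inv_mem (C.mul_mem (hπC x) (hπC y)))) ?_)
    have h1 := N.mul_mem (hN.conj_mem _ (hπN y) x) (hπN x)
    have h2 := N.mul_mem (N.inv_mem (hπN (x * y))) h1
    rw [show (x * y * (π (x * y))⁻¹)⁻¹ * (x * (y * (π y)⁻¹) * x⁻¹ * (x * (π x)⁻¹)) =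
      π (x * y) * (π x * π y)⁻¹ by group] at h2
    exact h2
  refine ⟨MonoidHom.mk' (fun t => l ⟨t * (π t)⁻¹, hπN t⟩) fun s t => ?_, fun n => ?_⟩
  · have hst : (⟨s * t * (π (s * t))⁻¹, hπN _⟩ : N) =
        ⟨s * (t * (π t)⁻¹) * s⁻¹, hN.conj_mem _ (hπN t) s⟩ * ⟨s * (π s)⁻¹, hπN s⟩ :=
      Subtype.ext (by
        show s * t * (π (s * t))⁻¹ = _
        rw [hπmul, mul_inv_rev]
        show _ = s * (t * (π t)⁻¹) * s⁻¹ * (s * (π s)⁻¹)
        group)
    show l _ = l _ * l _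
    rw [hst, map_mul, mul_comm]
    congr 1
    exact hinv s ⟨t * (π t)⁻¹, hπN t⟩
  · show l _ = l n
    have h1 : π (n : X) = 1 := hinf _ (hπC _) (by
      have := N.mul_mem (N.inv_mem (hπN (n : X))) n.2
      simpa [mul_assoc] using this)
    exact congrArg l (Subtype.ext (show (n : X) * (π (n : X))⁻¹ = n by rw [h1, inv_one, mul_one]))

/-- Coprime extension. -/
theorem exists_coprime_extension {X : Type u} [Group X] [Finite X] (N : Subgroup X) [hN : N.Normal]
    {θ : N → ℂ} (hθ : Cfsg.IsIrrCharacter N θ) (hcop : (Nat.card N).Coprime N.index)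
    (hinv : ∀ (g : X) (n : N), θ ⟨g * n * g⁻¹, hN.conj_mem n n.2 g⟩ = θ n) :
    ∃ η : X → ℂ, Cfsg.IsIrrCharacter X η ∧ ∀ n : N, η n = θ n := by
  haveI := Fintype.ofFinite X
  haveI := Fintype.ofFinite N
  obtain ⟨C, hC⟩ := Subgroup.exists_right_complement'_of_coprime hcop
  obtain ⟨d, -, hd⟩ := IsIrr.degree hθ
  obtain ⟨ν, hν⟩ := ProjExt.exists_detChar_hom (IsIrr.isCharacter hθ)
  have hdet : ∀ (g : X) (n : N), ν ⟨g * n * g⁻¹, hN.conj_mem n n.2 g⟩ = ν n := by
    intro g n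
    refine Units.ext ?_
    let f : N →* N := (MulAut.conjNormal g : MulAut N).toMonoidHom
    have hf : (fun x : N => θ (f x)) = θ := funext fun x => by
      have e : f x = ⟨g * x * g⁻¹, hN.conj_mem x x.2 g⟩ := Subtype.ext rfl
      rw [e]; exact hinv g x
    have h1 := ProjExt.detChar_comp (IsIrr.isCharacter hθ) f
    rw [hf, hν] at h1
    exact (congrFun h1 n).symm
  obtain ⟨μ, hμ⟩ := exists_hom_extension N C
    (fun a ha haN => by
      have := hC.disjoint
      exact Subgroup.mem_bot.1 (this.le_bot (show a ∈ N ⊓ C from ⟨haN, ha⟩)))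
    (fun x => by
      obtain ⟨⟨a, c⟩, h⟩ := hC.2 x
      exact ⟨c, c.2, by
        rw [← h]
        show (a : X) * (c : X) * (c : X)⁻¹ ∈ N
        rw [mul_inv_cancel_right]
        exact a.2⟩) ν hdet
  refine ProjExt.extends_of_det N hθ hinv hd ?_ μ fun n => by rw [hμ, congrFun hν n]
  exact Nat.Coprime.coprime_dvd_right (IsIrr.degree_dvd_card hθ hd) hcop.symm

end Cfsg.Agent.Palfy
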