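import Mathlib
import Cfsg.Agent.Core.FPF
import Cfsg.Agent.Core.MinimalNormal
import Cfsg.Agent.Palfy.Deg

/-!
# Irreducible solvable groups in which every non-zero vector is fixed by a Sylow subgroup

If every non-trivial vector has a stabiliser containing a Sylow subgroup of the whole group as a
normal subgroup, for some odd prime, then every normal abelian subgroup acts without fixed points.
-/

set_option autoImplicit false
set_option linter.style.haveILetI false

namespace Cfsg.Agent.Palfy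

universe u

variable {H : Type u} [Group H] [Finite H] {V : Type u} [CommGroup V]

/-- Every non-trivial vector is fixed by a Sylow subgroup, normal in the stabiliser. -/
def Spread (t : ℕ) (φ : H →* MulAut V) : Prop :=
  ∀ v : V, v ≠ 1 → ∃ S : Sylow t H, (∀ x ∈ (S : Subgroup H), φ x v = v) ∧
    ∀ h : H, φ h v = v → ∀ x ∈ (S : Subgroup H), h * x * h⁻¹ ∈ (S : Subgroup H)

/-- The stabiliser of a vector. -/
def stb (φ : H →* MulAut V) (v : V) : Subgroup H where
  carrier := {h | φ h v = v}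
  one_mem' := by simp
  mul_mem' := fun {a b} (ha : φ a v = v) (hb : φ b v = v) => by
    show φ (a * b) v = v
    rw [map_mul, MulAut.mul_apply, hb, ha]
  inv_mem' := fun {a} (ha : φ a v = v) => by
    show φ a⁻¹ v = v
    conv_lhs => rw [← ha]
    rw [← MulAut.mul_apply, ← map_mul, inv_mul_cancel, map_one, MulAut.one_apply]

omit [Finite H] in
theorem mem_stb {φ : H →* MulAut V} {v : V} {h : H} : h ∈ stb φ v ↔ φ h v = v := Iff.rfl

variable {φ : H →* MulAut V} {t : ℕ}

omit [Finite H] in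
/-- A subgroup normalised elementwise. -/
theorem le_normalizer_of_forall {X S : Subgroup H}
    (h : ∀ x ∈ X, ∀ s ∈ S, x * s * x⁻¹ ∈ S) : X ≤ Subgroup.normalizer (S : Set H) := fun x hx => by
  rw [Subgroup.mem_normalizer_iff]
  refine fun s => ⟨fun hs => h x hx s hs, fun hs => ?_⟩
  have := h x⁻¹ (X.inv_mem hx) _ hs
  simpa [mul_assoc] using this

/-- A fixing `t`-subgroup lies in the distinguished Sylow subgroup. -/
theorem le_of_fix [Fact t.Prime] {v : V} {S : Sylow t H}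
    (hS : ∀ h : H, φ h v = v → ∀ x ∈ (S : Subgroup H), h * x * h⁻¹ ∈ (S : Subgroup H))
    {X : Subgroup H} (hX : IsPGroup t X) (hXv : ∀ x ∈ X, φ x v = v) : X ≤ S := by
  have h2 := hX.to_sup_of_normal_right' S.isPGroup'
    (le_normalizer_of_forall fun x hx => hS x (hXv x hx))
  exact (le_sup_left (b := (S : Subgroup H))).trans (S.is_maximal' h2 le_sup_right).le

theorem eq_of_fix [Fact t.Prime] {v : V} {S T : Sylow t H}
    (hS : ∀ h : H, φ h v = v → ∀ x ∈ (S : Subgroup H), h * x * h⁻¹ ∈ (S : Subgroup H))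
    (hT : ∀ x ∈ (T : Subgroup H), φ x v = v) : T = S :=
  Sylow.ext (T.is_maximal' S.isPGroup' (le_of_fix hS T.isPGroup' hT)).symm

/-- A normal nilpotent subgroup has order prime to `t`. -/
theorem not_dvd_of_nilpotent [Fact t.Prime] [Nontrivial V] (hfaith : Function.Injective φ)
    (hsp : Spread t φ) (N : Subgroup H) [hN : N.Normal] (hnil : Group.IsNilpotent N) :
    ¬ t ∣ Nat.card N := by
  intro hd
  obtain ⟨T⟩ : Nonempty (Sylow t N) := inferInstance
  have hTn : (T : Subgroup N).Normal := inferInstance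
  haveI hTc : (T : Subgroup N).Characteristic := T.characteristic_of_normal hTn
  let T' : Subgroup H := (T : Subgroup N).map N.subtype
  have hT'n : T'.Normal := inferInstance
  have hT' : IsPGroup t T' := T.isPGroup'.map _
  have hall : ∀ x ∈ T', φ x = 1 := by
    intro x hx
    refine MulEquiv.ext fun v => ?_
    rcases eq_or_ne v 1 with rfl | hv
    · rw [map_one, map_one]
    obtain ⟨S, hS, -⟩ := hsp v hv
    have h2 := hT'.to_sup_of_normal_left S.isPGroup'
    rw [MulAut.one_apply]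
    exact hS x ((S.is_maximal' h2 le_sup_right).le (le_sup_left (b := (S : Subgroup H)) hx))
  have hbot : (T : Subgroup N) = ⊥ := by
    refine (Subgroup.eq_bot_iff_forall _).2 fun x hx => Subtype.ext (hfaith ?_)
    rw [hall x ⟨x, hx, rfl⟩, OneMemClass.coe_one, map_one]
  have h1 := T.dvd_card_of_dvd_card hd
  rw [hbot, Subgroup.card_bot, Nat.dvd_one] at h1
  exact (Fact.out : t.Prime).ne_one h1

/-- The subgroup of vectors fixed by a subgroup. -/
def fixed (φ : H →* MulAut V) (K : Subgroup H) : Subgroup V where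
  carrier := {v | ∀ k ∈ K, φ k v = v}
  one_mem' := fun k _ => map_one _
  mul_mem' := fun {a b} ha hb k hk => by rw [map_mul, ha k hk, hb k hk]
  inv_mem' := fun {a} ha k hk => by rw [map_inv, ha k hk]

omit [Finite H] in
theorem mem_fixed {K : Subgroup H} {v : V} : v ∈ fixed φ K ↔ ∀ k ∈ K, φ k v = v := Iff.rfl

omit [Finite H] in
theorem fixed_conj {K K' : Subgroup H} {y : H} (h : ∀ k ∈ K', y⁻¹ * k * y ∈ K) {v : V}
    (hv : v ∈ fixed φ K) : φ y v ∈ fixed φ K' := fun k hk => by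
  conv_rhs => rw [← hv _ (h k hk)]
  rw [← MulAut.mul_apply, ← MulAut.mul_apply, ← map_mul, ← map_mul]
  congr 2
  group

/-- In the presence of an odd prime all normal abelian subgroups act without fixed points. -/
theorem fpf_of_abelian [Fact t.Prime] (ht2 : t ≠ 2) [Nontrivial V]
    (hfaith : Function.Injective φ)
    (hirr : ∀ W : Subgroup V, (∀ h : H, ∀ w ∈ W, φ h w ∈ W) → W = ⊥ ∨ W = ⊤)
    (hd : t ∣ Nat.card H) (hsp : Spread t φ) (U : Subgroup H) [hU : U.Normal]
    (hab : ∀ a ∈ U, ∀ b ∈ U, a * b = b * a) :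
    ∀ x ∈ U, x ≠ 1 → ∀ v : V, φ x v = v → v = 1 := by
  classical
  intro x₀ hx₀ hx₀1 v₀ hv₀
  by_contra hv₀1
  let M : Subgroup H → Prop := fun K => K ≤ U ∧ fixed φ K ≠ ⊥ ∧
    ∀ K' : Subgroup H, K' ≤ U → K ≤ K' → fixed φ K' ≠ ⊥ → K' = K
  obtain ⟨K₁, ⟨hK₁U, hK₁f, hK₁x⟩, hK₁m⟩ :=
    (Set.toFinite {K : Subgroup H | K ≤ U ∧ fixed φ K ≠ ⊥ ∧ x₀ ∈ K}).exists_maximal
      ⟨Subgroup.zpowers x₀, (Subgroup.zpowers_le).2 hx₀, fun h => hv₀1 (Subgroup.mem_bot.1 (h ▸
        show v₀ ∈ fixed φ (Subgroup.zpowers x₀) from fun k hk =>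
          ((Subgroup.zpowers_le).2 (show x₀ ∈ stb φ v₀ from hv₀)) hk)), Subgroup.mem_zpowers x₀⟩
  have hMK₁ : M K₁ := ⟨hK₁U, hK₁f, fun K' h1 h2 h3 =>
    le_antisymm (hK₁m (y := K') ⟨h1, h3, h2 hK₁x⟩ h2) h2⟩
  have hK₁ne : K₁ ≠ ⊥ := fun h => hx₀1 (Subgroup.mem_bot.1 (h ▸ hK₁x))
  -- conjugates
  let cjK : H → Subgroup H → Subgroup H := fun y K => K.map (MulAut.conj y).toMonoidHom
  have hmem : ∀ y K k, k ∈ cjK y K ↔ y⁻¹ * k * y ∈ K := fun y K k => by
    constructor
    · rintro ⟨a, ha, rfl⟩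
      simpa [mul_assoc] using ha
    · exact fun h => ⟨_, h, by simp [mul_assoc]⟩
  have hcjU : ∀ y K, K ≤ U → cjK y K ≤ U := fun y K h k hk => by
    have := hU.conj_mem _ (h ((hmem y K k).1 hk)) y
    simpa [mul_assoc] using this
  have hcjcj : ∀ y z K, cjK y (cjK z K) = cjK (y * z) K := fun y z K => by
    ext k
    rw [hmem, hmem, hmem]
    group
  have hcjone : ∀ K, cjK 1 K = K := fun K => by ext k; rw [hmem]; simp
  have hMcj : ∀ y K, M K → M (cjK y K) := by
    rintro y K ⟨h1, h2, h3⟩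
    refine ⟨hcjU y K h1, fun hbot => h2 ((Subgroup.eq_bot_iff_forall _).2 fun v hv => ?_),
      fun K' g1 g2 g3 => ?_⟩
    · have := hbot ▸ fixed_conj (K' := cjK y K) (fun k hk => (hmem y K k).1 hk) hv
      exact (φ y).injective ((Subgroup.mem_bot.1 this).trans (map_one _).symm)
    · have := h3 (cjK y⁻¹ K') (hcjU _ _ g1) (fun k hk => (hmem y⁻¹ K' k).2 (g2 ((hmem y K _).2 (by
          simpa [mul_assoc] using hk)))) fun hbot => g3 ((Subgroup.eq_bot_iff_forall _).2 fun v hv => by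
          have := hbot ▸ fixed_conj (K' := cjK y⁻¹ K') (fun k hk => (hmem y⁻¹ K' k).1 hk) hv
          exact (φ y⁻¹).injective ((Subgroup.mem_bot.1 this).trans (map_one _).symm))
      rw [← this, hcjcj, mul_inv_cancel, hcjone]
  -- the fixed points of a conjugate-closed family generate everything
  have hgen : (⨆ y : H, fixed φ (cjK y K₁)) = ⊤ := by
    refine (hirr _ fun h w hw => ?_).resolve_left fun hbot => hK₁f ?_
    · have hle : (⨆ y : H, fixed φ (cjK y K₁)) ≤
          (⨆ y : H, fixed φ (cjK y K₁)).comap (φ h).toMonoidHom := iSup_le fun y v hv => by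
        refine Subgroup.mem_iSup_of_mem (h * y) ?_
        refine fixed_conj (fun k hk => ?_) hv
        rw [hmem] at hk ⊢
        simpa [mul_assoc] using hk
      exact hle hw
    · rw [eq_bot_iff, ← hbot]
      exact le_iSup_of_le 1 (by rw [hcjone])
  -- two members
  obtain ⟨y₂, hy₂⟩ : ∃ y, cjK y K₁ ≠ K₁ := by
    by_contra! hall
    have : fixed φ K₁ = ⊤ := by
      rw [eq_top_iff, ← hgen]
      exact iSup_le fun y => by rw [hall y]
    refine hK₁ne ((Subgroup.eq_bot_iff_forall _).2 fun k hk => hfaith (MulEquiv.ext fun v => ?_))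
    rw [map_one, MulAut.one_apply]
    exact (this ▸ Subgroup.mem_top v : v ∈ fixed φ K₁) k hk
  have hdisj : ∀ K K', M K → M K' → K ≠ K' → ∀ v, v ∈ fixed φ K → v ∈ fixed φ K' → v = 1 := by
    intro K K' hK hK' hne v hv hv'
    by_contra h1
    have h2 : fixed φ (K ⊔ K') ≠ ⊥ := fun h => h1 (Subgroup.mem_bot.1 (h ▸
      show v ∈ fixed φ (K ⊔ K') from fun k hk =>
        (sup_le (fun k hk => hv k hk) (fun k hk => hv' k hk) : K ⊔ K' ≤ stb φ v) hk))
    exact hne ((hK.2.2 _ (sup_le hK.1 hK'.1) le_sup_left h2).symm.trans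
      (hK'.2.2 _ (sup_le hK.1 hK'.1) le_sup_right h2))
  have hUfix : ∀ K ≤ U, ∀ u ∈ U, ∀ v ∈ fixed φ K, φ u v ∈ fixed φ K := fun K hK u hu v hv =>
    fixed_conj (fun k hk => by rwa [mul_assoc, hab k (hK hk) u hu, inv_mul_cancel_left]) hv
  -- the pair lemma
  have hodd : ∀ y : H, (∃ k, y ^ t ^ k = 1) → ∃ m : ℕ, (y * y) ^ m = y := by
    rintro y ⟨k, hk⟩
    obtain ⟨j, hj⟩ : Odd (t ^ k) := ((Fact.out : t.Prime).odd_of_ne_two ht2).pow
    refine ⟨j + 1, ?_⟩
    rw [← pow_two, ← pow_mul, show 2 * (j + 1) = t ^ k + 1 by omega, pow_succ, hk, one_mul]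
  have hpair : ∀ K K', M K → M K' → K ≠ K' → ∀ a ∈ fixed φ K, a ≠ 1 → ∀ b ∈ fixed φ K', b ≠ 1 →
      ∀ (S : Sylow t H), (∀ x ∈ (S : Subgroup H), φ x (a * b) = a * b) →
      ∀ y ∈ (S : Subgroup H), φ y a = a ∧ φ y b = b := by
    intro K K' hK hK' hne a ha ha1 b hb hb1 S hS
    have key : ∀ K K', M K → M K' → K ≠ K' → ∀ a ∈ fixed φ K, a ≠ 1 → ∀ b ∈ fixed φ K',
        ∀ y : H, φ y (a * b) = a * b → cjK y K = K ∨ cjK y K = K' := by
      intro K K' hK hK' hne a ha ha1 b hb y hy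
      obtain ⟨k, hk, hka⟩ : ∃ k ∈ K', φ k a ≠ a := by
        by_contra! hall
        exact ha1 (hdisj K K' hK hK' hne a ha hall)
      have hc : φ k a * a⁻¹ ∈ fixed φ K := mul_mem (hUfix K hK.1 k (hK'.1 hk) a ha) (inv_mem ha)
      have hc' : φ k a * a⁻¹ = φ k (a * b) * (a * b)⁻¹ := by
        rw [map_mul, hb k hk, mul_inv_rev, mul_assoc, ← mul_assoc b, mul_inv_cancel, one_mul]
      have hu : y * k * y⁻¹ ∈ U := hU.conj_mem _ (hK'.1 hk) y
      have himg : φ y (φ k a * a⁻¹) = (φ (y * k * y⁻¹) a * a⁻¹) * (φ (y * k * y⁻¹) b * b⁻¹) := by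
        have hy' : φ (y * k * y⁻¹) (a * b) = φ y (φ k (a * b)) := by
          conv_lhs => rw [← hy]
          rw [← MulAut.mul_apply, ← map_mul, ← MulAut.mul_apply, ← map_mul, inv_mul_cancel_right]
        rw [hc', map_mul, map_inv, hy, ← hy', map_mul, mul_inv, mul_mul_mul_comm]
      set a' := φ (y * k * y⁻¹) a * a⁻¹
      set b' := φ (y * k * y⁻¹) b * b⁻¹
      have ha' : a' ∈ fixed φ K := mul_mem (hUfix K hK.1 _ hu a ha) (inv_mem ha)
      have hb' : b' ∈ fixed φ K' := mul_mem (hUfix K' hK'.1 _ hu b hb) (inv_mem hb)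
      have hK'' := hMcj y K hK
      have hfix : φ y (φ k a * a⁻¹) ∈ fixed φ (cjK y K) :=
        fixed_conj (fun z hz => (hmem y K z).1 hz) hc
      have hcomp : a' ∈ fixed φ (cjK y K) ∧ b' ∈ fixed φ (cjK y K) := by
        have : ∀ z ∈ cjK y K, φ z a' = a' ∧ φ z b' = b' := by
          intro z hz
          have h1 := hfix z hz
          rw [himg, map_mul] at h1
          have h2 : a'⁻¹ * φ z a' = b' * (φ z b')⁻¹ := by
            calc a'⁻¹ * φ z a' = a'⁻¹ * (φ z a' * φ z b') * (φ z b')⁻¹ := by group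
              _ = b' * (φ z b')⁻¹ := by rw [h1]; group
          have h3 := hdisj K K' hK hK' hne _
            (mul_mem (inv_mem ha') (hUfix K hK.1 z (hcjU y K hK.1 hz) _ ha'))
            (h2 ▸ mul_mem hb' (inv_mem (hUfix K' hK'.1 z (hcjU y K hK.1 hz) _ hb')))
          exact ⟨(inv_mul_eq_one.1 h3).symm, (mul_inv_eq_one.1 (h2 ▸ h3)).symm⟩
        exact ⟨fun z hz => (this z hz).1, fun z hz => (this z hz).2⟩
      by_cases h1 : a' = 1
      · refine Or.inr (by_contra fun h => ?_)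
        have h2 := hdisj _ _ hK'' hK' h b' hcomp.2 hb'
        rw [h1, h2, one_mul, ← map_one (φ y)] at himg
        exact hka (mul_inv_eq_one.1 ((φ y).injective himg))
      · exact Or.inl (by_contra fun h => h1 (hdisj _ _ hK'' hK h a' hcomp.1 ha'))
    intro y hy
    have hpow : ∃ k, y ^ t ^ k = 1 := by
      obtain ⟨k, hk⟩ := S.isPGroup' ⟨y, hy⟩
      exact ⟨k, by simpa using congrArg Subtype.val hk⟩
    obtain ⟨m, hm⟩ := hodd y hpow
    have hba : φ y (b * a) = b * a := by rw [mul_comm]; exact hS y hy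
    have h1 := key K K' hK hK' hne a ha ha1 b hb y (hS y hy)
    have h2 := key K' K hK' hK hne.symm b hb hb1 a ha y hba
    -- the square fixes both members
    have hcjinj : ∀ y K K', cjK y K = cjK y K' → K = K' := fun y K K' h => by
      rw [← hcjone K, ← inv_mul_cancel y, ← hcjcj, h, hcjcj, inv_mul_cancel, hcjone]
    have h3 : cjK (y * y) K = K := by
      rw [← hcjcj]
      rcases h1 with h1 | h1
      · rw [h1, h1]
      · rw [h1]
        rcases h2 with h2 | h2
        · exact absurd (hcjinj y K K' (h1.trans h2.symm)) hne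
        · exact h2
    have h4 : ∀ m : ℕ, cjK ((y * y) ^ m) K = K := fun m => by
      induction m with
      | zero => rw [pow_zero, hcjone]
      | succ m ih => rw [pow_succ, ← hcjcj, h3, ih]
    have hyK : cjK y K = K := hm ▸ h4 m
    have hyK' : cjK y K' = K' := h2.resolve_right fun h => hne (hcjinj y K K' (hyK.trans h.symm))
    have h5 : φ y a ∈ fixed φ K := fixed_conj (fun z hz => (hmem y K z).1 (hyK.symm ▸ hz)) ha
    have h6 : φ y b ∈ fixed φ K' := fixed_conj (fun z hz => (hmem y K' z).1 (hyK'.symm ▸ hz)) hb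
    have h7 : a⁻¹ * φ y a = b * (φ y b)⁻¹ := by
      calc a⁻¹ * φ y a = a⁻¹ * φ y (a * b) * (φ y b)⁻¹ := by rw [map_mul]; group
        _ = b * (φ y b)⁻¹ := by rw [hS y hy]; group
    have h8 := hdisj K K' hK hK' hne _ (mul_mem (inv_mem ha) h5) (h7 ▸ mul_mem hb (inv_mem h6))
    exact ⟨(inv_mul_eq_one.1 h8).symm, (mul_inv_eq_one.1 (h7 ▸ h8)).symm⟩
  -- a single Sylow subgroup for all
  have hsame : ∀ K K', M K → M K' → K ≠ K' → ∀ a ∈ fixed φ K, a ≠ 1 → ∀ b ∈ fixed φ K', b ≠ 1 →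
      ∀ (S : Sylow t H), (∀ x ∈ (S : Subgroup H), φ x a = a) →
      ∀ x ∈ (S : Subgroup H), φ x b = b := by
    intro K K' hK hK' hne a ha ha1 b hb hb1 S hS
    obtain ⟨R, hR, -⟩ := hsp (a * b) fun h => hb1 (hdisj K K' hK hK' hne b
      (by rw [← inv_eq_of_mul_eq_one_right h]; exact inv_mem ha) hb)
    obtain ⟨Sa, -, hSa⟩ := hsp a ha1
    have hRS : R = S := (eq_of_fix hSa fun x hx => (hpair K K' hK hK' hne a ha ha1 b hb hb1 R hR x hx).1).trans
      (eq_of_fix hSa hS).symm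
    intro x hx
    exact (hpair K K' hK hK' hne a ha ha1 b hb hb1 R hR x (hRS ▸ hx)).2
  have hM₂ := hMcj y₂ K₁ hMK₁
  obtain ⟨a, ha, ha1⟩ := (fixed φ K₁).bot_or_exists_ne_one.resolve_left hK₁f
  obtain ⟨b, hb, hb1⟩ := (fixed φ (cjK y₂ K₁)).bot_or_exists_ne_one.resolve_left hM₂.2.1
  obtain ⟨S, hS, -⟩ := hsp a ha1
  have hSb := hsame _ _ hMK₁ hM₂ (Ne.symm hy₂) a ha ha1 b hb hb1 S hS
  have hall : (⨆ y : H, fixed φ (cjK y K₁)) ≤ fixed φ S := iSup_le fun y c hc => by
    rcases eq_or_ne c 1 with rfl | hc1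
    · exact one_mem _
    by_cases h : cjK y K₁ = K₁
    · exact hsame _ _ hM₂ hMK₁ hy₂ b hb hb1 c (h ▸ hc) hc1 S hSb
    · exact hsame _ _ hMK₁ (hMcj y K₁ hMK₁) (Ne.symm h) a ha ha1 c hc hc1 S hS
  rw [hgen, top_le_iff] at hall
  have hbot : (S : Subgroup H) = ⊥ := (Subgroup.eq_bot_iff_forall _).2 fun x hx =>
    hfaith (MulEquiv.ext fun v => by
      rw [map_one, MulAut.one_apply]
      exact (hall ▸ Subgroup.mem_top v : v ∈ fixed φ S) x hx)
  have h1 := S.dvd_card_of_dvd_card hd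
  rw [hbot, Subgroup.card_bot, Nat.dvd_one] at h1
  exact (Fact.out : t.Prime).ne_one h1

end Cfsg.Agent.Palfy
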