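import Mathlib
import Cfsg.Agent.Palfy.Spread

/-!
# Sylow subgroups centralising a chief factor above a cyclic subgroup without fixed points
-/

set_option autoImplicit false
set_option linter.style.haveILetI false

namespace Cfsg.Agent.Palfy

universe u

variable {H : Type u} [Group H] [Finite H] {V : Type u} [CommGroup V] [Finite V]

/-- A normal subgroup of class two over a cyclic fixed point free subgroup. -/
structure Ctx (φ : H →* MulAut V) (a s : ℕ) (U E : Subgroup H) : Prop where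
  normU : U.Normal
  normE : E.Normal
  le : U ≤ E
  ne : E ≠ U
  cyc : IsCyclic U
  fpf : ∀ x ∈ U, x ≠ 1 → ∀ v : V, φ x v = v → v = 1
  central : ∀ u ∈ U, ∀ e ∈ E, u * e = e * u
  comm : ∀ e ∈ E, ∀ f ∈ E, e * f * e⁻¹ * f⁻¹ ∈ U
  center : ∀ e ∈ E, (∀ f ∈ E, e * f = f * e) → e ∈ U
  powU : ∀ e ∈ E, e ^ s ∈ U
  chief : ∀ X : Subgroup H, X.Normal → U ≤ X → X ≤ E → X = U ∨ X = E
  hs : s.Prime
  ha : a.Prime
  notdvd : ¬ a ∣ Nat.card E
  act : ∀ x : H, (∃ k : ℕ, x ^ a ^ k = 1) → ∀ u ∈ U, x * u = u * x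

variable {φ : H →* MulAut V} {a s : ℕ} {U E : Subgroup H}

/-- Conjugating by an element which centralises the commutator value. -/
theorem Ctx.mul_pow2 (h : Ctx φ a s U E) {e f : H} (he : e ∈ E) (hf : f ∈ E) :
    ∀ n : ℕ, (e * f) ^ n = e ^ n * f ^ n * (f * e * f⁻¹ * e⁻¹) ^ (n.choose 2) := by
  have hc := h.comm f hf e he
  set c := f * e * f⁻¹ * e⁻¹
  have hcen : ∀ g ∈ E, Commute c g := fun g hg => h.central c hc g hg
  have hfe : ∀ n : ℕ, f ^ n * e = e * f ^ n * c ^ n := fun n => by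
    induction n with
    | zero => simp
    | succ n ih =>
      calc f ^ (n + 1) * e = f ^ n * (f * e) := by rw [pow_succ, mul_assoc]
        _ = f ^ n * (c * e * f) := by simp only [c]; group
        _ = f ^ n * (e * c * f) := by rw [(hcen e he).eq]
        _ = f ^ n * e * (c * f) := by simp only [mul_assoc]
        _ = e * f ^ n * c ^ n * (f * c) := by rw [ih, (hcen f hf).eq]
        _ = e * f ^ n * (c ^ n * f) * c := by simp only [mul_assoc]
        _ = e * f ^ n * (f * c ^ n) * c := by rw [((hcen f hf).pow_left n).eq]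
        _ = e * f ^ (n + 1) * c ^ (n + 1) := by rw [pow_succ f, pow_succ c]; simp only [mul_assoc]
  intro n
  induction n with
  | zero => simp
  | succ n ih =>
    have hn : (n + 1).choose 2 = n.choose 2 + n := by
      rw [Nat.choose_succ_succ, Nat.choose_one_right, add_comm]
    calc (e * f) ^ (n + 1) = e ^ n * f ^ n * (c ^ n.choose 2 * (e * f)) := by
          rw [pow_succ, ih]; simp only [mul_assoc]
      _ = e ^ n * (f ^ n * e) * f * c ^ n.choose 2 := by
          rw [((hcen (e * f) (mul_mem he hf)).pow_left _).eq]; simp only [mul_assoc]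
      _ = e ^ n * (e * f ^ n) * (c ^ n * f) * c ^ n.choose 2 := by
          rw [hfe]; simp only [mul_assoc]
      _ = e ^ n * (e * f ^ n) * (f * c ^ n) * c ^ n.choose 2 := by
          rw [((hcen f hf).pow_left n).eq]
      _ = e ^ (n + 1) * f ^ (n + 1) * c ^ (n + 1).choose 2 := by
          rw [hn, add_comm (n.choose 2), pow_add c, pow_succ e, pow_succ f]; simp only [mul_assoc]

theorem Ctx.comm_pow (h : Ctx φ a s U E) {e f : H} (he : e ∈ E) (hf : f ∈ E) :
    (e * f * e⁻¹ * f⁻¹) ^ s = 1 := by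
  have hc := h.comm e he f hf
  set c := e * f * e⁻¹ * f⁻¹
  have hcf : Commute c f := h.central c hc f hf
  have h1 : (e * f * e⁻¹) ^ s = c ^ s * f ^ s := by
    rw [show e * f * e⁻¹ = c * f by simp only [c]; group]
    exact hcf.mul_pow s
  rw [conj_pow] at h1
  have h2 := h.central _ (h.powU f hf) e he
  rw [← h2, mul_inv_cancel_right] at h1
  exact right_eq_mul.1 h1

theorem Ctx.exists_comm_ne (h : Ctx φ a s U E) :
    ∃ e ∈ E, ∃ f ∈ E, e * f * e⁻¹ * f⁻¹ ≠ 1 := by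
  by_contra! hall
  refine h.ne (le_antisymm (fun e he => h.center e he fun f hf => ?_) h.le)
  have := hall e he f hf
  rwa [mul_inv_eq_one, mul_inv_eq_iff_eq_mul] at this

/-- An element of order `s` in the cyclic subgroup. -/
theorem Ctx.exists_z (h : Ctx φ a s U E) : ∃ z ∈ U, z ^ s = 1 ∧ z ≠ 1 := by
  obtain ⟨e, he, f, hf, hne⟩ := h.exists_comm_ne
  exact ⟨_, h.comm e he f hf, h.comm_pow he hf, hne⟩

/-- The elements of exponent `s` in the cyclic subgroup. -/
theorem Ctx.card_root_le (h : Ctx φ a s U E) : Nat.card {u : U // u ^ s = 1} ≤ s := by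
  classical
  haveI := h.cyc
  haveI := Fintype.ofFinite U
  rw [Nat.card_eq_fintype_card, Fintype.card_subtype]
  exact IsCyclic.card_pow_eq_one_le h.hs.pos

/-- Unique subgroup of order `s`. -/
theorem Ctx.mem_zpowers_z (h : Ctx φ a s U E) {z u : H} (hz : z ∈ U) (hzs : z ^ s = 1) (hz1 : z ≠ 1)
    (hu : u ∈ U) (hus : u ^ s = 1) : ∃ i : ℕ, u = z ^ i := by
  classical
  haveI := Fact.mk h.hs
  have hord : orderOf z = s := orderOf_eq_prime hzs hz1
  let F : Fin s → {u : U // u ^ s = 1} := fun i => ⟨⟨z ^ (i : ℕ), pow_mem hz _⟩, Subtype.ext (by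
    rw [SubgroupClass.coe_pow, ← pow_mul, mul_comm, pow_mul, hzs, one_pow, OneMemClass.coe_one])⟩
  have hinj : Function.Injective F := fun i j e => by
    have e' : z ^ (i : ℕ) = z ^ (j : ℕ) := congrArg (fun t : {u : U // u ^ s = 1} => ((t.1 : U) : H)) e
    exact Fin.ext (pow_injOn_Iio_orderOf (Set.mem_Iio.2 (hord ▸ i.2)) (Set.mem_Iio.2 (hord ▸ j.2)) e')
  obtain ⟨i, hi⟩ := (hinj.bijective_of_nat_card_le (by rw [Nat.card_fin]; exact h.card_root_le)).2
    ⟨⟨u, hu⟩, Subtype.ext hus⟩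
  exact ⟨i, (congrArg (fun t : {u : U // u ^ s = 1} => ((t.1 : U) : H)) hi).symm⟩

/-- Either every class has a representative of order dividing `s`, or we are in the exceptional
two-primary situation. -/
theorem Ctx.lifts (h : Ctx φ a s U E) :
    (∀ e ∈ E, ∃ u ∈ U, (e * u) ^ s = 1) ∨
      (s = 2 ∧ ∃ z ∈ U, z ^ 2 = 1 ∧ z ≠ 1 ∧ (∀ u ∈ U, u ^ 2 ≠ z) ∧
        ∀ e ∈ E, ∃ u ∈ U, (e * u) ^ 2 = 1 ∨ (e * u) ^ 2 = z) := by
  classical
  haveI := h.normU
  haveI := h.normE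
  haveI := h.cyc
  letI : CommGroup U := IsCyclic.commGroup
  obtain ⟨z, hz, hzs, hz1⟩ := h.exists_z
  let Us : Subgroup U := (powMonoidHom s : U →* U).range
  have hidx : Us.index ≤ s := by
    have h1 := Subgroup.card_mul_index Us
    have h2 := Subgroup.card_mul_index (powMonoidHom s : U →* U).ker
    rw [Subgroup.index_ker] at h2
    have hk : Nat.card (powMonoidHom s : U →* U).ker ≤ s := h.card_root_le
    nlinarith [Nat.card_pos (α := Us)]
  have hsqz : ∀ e ∈ E, ∀ u ∈ U, (e * u) ^ s = e ^ s * u ^ s := fun e he u hu =>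
    Commute.mul_pow (h.central u hu e he).symm s
  by_cases hcase : ∀ c : H, c ∈ U → c ^ s = 1 → ∃ u ∈ U, u ^ s = c ^ (s.choose 2)
  · refine Or.inl ?_
    let K : Subgroup H :=
      { carrier := {e | e ∈ E ∧ ∃ u ∈ U, u ^ s = e ^ s}
        one_mem' := ⟨one_mem _, 1, one_mem _, by simp⟩
        mul_mem' := fun {e f} ⟨he, u, hu, hue⟩ ⟨hf, v, hv, hvf⟩ => by
          refine ⟨mul_mem he hf, ?_⟩
          obtain ⟨w, hw, hwc⟩ := hcase _ (h.comm f hf e he) (h.comm_pow hf he)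
          refine ⟨u * v * w, mul_mem (mul_mem hu hv) hw, ?_⟩
          rw [(Commute.mul_left (h.central u hu w (h.le hw)) (h.central v hv w (h.le hw))).mul_pow,
            (Commute.mul_pow (h.central u hu v (h.le hv)) s), hue, hvf, hwc, h.mul_pow2 he hf]
        inv_mem' := fun {e} ⟨he, u, hu, hue⟩ =>
          ⟨inv_mem he, u⁻¹, inv_mem hu, by rw [inv_pow, inv_pow, hue]⟩ }
    have hKn : K.Normal := ⟨fun e ⟨he, u, hu, hue⟩ g =>
      ⟨h.normE.conj_mem e he g, g * u * g⁻¹, h.normU.conj_mem u hu g, by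
        rw [conj_pow, conj_pow, hue]⟩⟩
    rcases h.chief K hKn (fun u hu => ⟨h.le hu, u, hu, rfl⟩) (fun e he => he.1) with hK | hK
    · exfalso
      have hind : ∀ e ∈ E, ∀ f ∈ E, ∀ w : U, (e ^ s) = (f ^ s) * (w : H) ^ s → f⁻¹ * e ∈ U := by
        intro e he f hf w hw
        rw [← hK]
        refine ⟨mul_mem (inv_mem hf) he, ?_⟩
        obtain ⟨v, hv, hvc⟩ := hcase _ (h.comm e he f⁻¹ (inv_mem hf)) (h.comm_pow he (inv_mem hf))
        refine ⟨(w : H) * v, mul_mem w.2 hv, ?_⟩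
        rw [h.mul_pow2 (inv_mem hf) he, ← hvc, inv_pow, hw, inv_mul_cancel_left,
          Commute.mul_pow (h.central w w.2 v (h.le hv)) s]
      let U' := U.subgroupOf E
      let F : E ⧸ U' → U ⧸ Us := Quotient.map' (fun e : E => (⟨(e : H) ^ s, h.powU e e.2⟩ : U))
        fun e f hef => by
          rw [QuotientGroup.leftRel_apply] at hef ⊢
          have hu : (e : H)⁻¹ * f ∈ U := hef
          refine ⟨⟨_, hu⟩, Subtype.ext ?_⟩
          show ((e : H)⁻¹ * f) ^ s = ((e : H) ^ s)⁻¹ * (f : H) ^ s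
          rw [eq_inv_mul_iff_mul_eq, ← hsqz e e.2 _ hu, mul_inv_cancel_left]
      have hinj : Function.Injective F := by
        intro q₁ q₂
        refine Quotient.inductionOn₂' q₁ q₂ fun e f hef => ?_
        have h1 := QuotientGroup.eq.1 hef
        obtain ⟨w, hw⟩ := h1
        have hw' : (w : H) ^ s = ((e : H) ^ s)⁻¹ * (f : H) ^ s := congrArg Subtype.val hw
        refine QuotientGroup.eq.2 (hind f f.2 e e.2 w ?_)
        rw [hw', mul_inv_cancel_left]
      haveI : U'.Normal := inferInstance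
      have hle := Nat.card_le_card_of_injective F hinj
      rw [← Subgroup.index_eq_card, ← Subgroup.index_eq_card] at hle
      obtain ⟨e₀, he₀, he₀U⟩ := SetLike.exists_of_lt (lt_of_le_of_ne h.le (Ne.symm h.ne))
      haveI := Fact.mk h.hs
      have hord : ((⟨e₀, he₀⟩ : E) : E ⧸ U') ≠ 1 := fun e' =>
        he₀U ((QuotientGroup.eq_one_iff (⟨e₀, he₀⟩ : E)).1 e')
      have hord' : orderOf ((⟨e₀, he₀⟩ : E) : E ⧸ U') = s := orderOf_eq_prime (by
        rw [← QuotientGroup.mk_pow, QuotientGroup.eq_one_iff]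
        exact h.powU e₀ he₀) hord
      have htop : Subgroup.zpowers ((⟨e₀, he₀⟩ : E) : E ⧸ U') = ⊤ :=
        Subgroup.eq_top_of_le_card _ (by
          rw [Nat.card_zpowers, hord', ← Subgroup.index_eq_card]
          omega)
      have hrep : ∀ e ∈ E, ∃ i : ℤ, ∃ u ∈ U, e = e₀ ^ i * u := fun e he => by
        obtain ⟨i, hi⟩ := Subgroup.mem_zpowers_iff.1 (htop ▸ Subgroup.mem_top ((⟨e, he⟩ : E) : E ⧸ U'))
        rw [← QuotientGroup.mk_zpow, QuotientGroup.eq] at hi
        exact ⟨i, (e₀ ^ i)⁻¹ * e, hi, by group⟩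
      obtain ⟨e, he, f, hf, hne⟩ := h.exists_comm_ne
      obtain ⟨i, u, hu, rfl⟩ := hrep e he
      obtain ⟨j, v, hv, rfl⟩ := hrep f hf
      refine hne ?_
      have : Commute (e₀ ^ i * u) (e₀ ^ j * v) :=
        Commute.mul_left
          (((Commute.refl e₀).zpow_zpow i j).mul_right ((h.central v hv _ (zpow_mem he₀ i)).symm))
          (h.central u hu _ hf)
      rw [this.eq]
      group
    · intro e he
      obtain ⟨-, u, hu, hue⟩ : e ∈ K := hK.symm ▸ he
      refine ⟨u⁻¹, inv_mem hu, ?_⟩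
      rw [hsqz e he _ (inv_mem hu), inv_pow, hue, mul_inv_cancel]
  · push Not at hcase
    obtain ⟨c, hc, hcs, hcn⟩ := hcase
    have hs2 : s = 2 := by
      by_contra hne
      refine hcn 1 (one_mem _) ?_
      obtain ⟨j, hj⟩ : s ∣ s.choose 2 :=
        h.hs.dvd_choose_self two_ne_zero (lt_of_le_of_ne h.hs.two_le (Ne.symm hne))
      rw [hj, pow_mul, hcs, one_pow, one_pow]
    subst hs2
    have hc1 : c ≠ 1 := fun e => hcn 1 (one_mem _) (by simp [e])
    have hnc : ∀ u ∈ U, u ^ 2 ≠ c := fun u hu e => hcn u hu (by rw [e, Nat.choose_self, pow_one])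
    refine Or.inr ⟨rfl, c, hc, hcs, hc1, hnc, fun e he => ?_⟩
    have hcU : (⟨c, hc⟩ : U) ∉ Us := by
      rintro ⟨w, hw⟩
      exact hnc w w.2 (congrArg Subtype.val hw)
    by_cases heU : (⟨e ^ 2, h.powU e he⟩ : U) ∈ Us
    · obtain ⟨w, hw⟩ := heU
      have hw' : (w : H) ^ 2 = e ^ 2 := congrArg Subtype.val hw
      exact ⟨(w : H)⁻¹, inv_mem w.2, Or.inl (by rw [hsqz e he _ (inv_mem w.2), inv_pow, hw', mul_inv_cancel])⟩
    · have hne1 : Us.index ≠ 1 := fun h1 => hcU (Subgroup.index_eq_one.1 h1 ▸ Subgroup.mem_top _)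
      have hne0 : Us.index ≠ 0 := Subgroup.index_ne_zero_of_finite
      obtain ⟨w, hw⟩ := (Subgroup.mul_mem_iff_of_index_two (by omega) (a := (⟨c, hc⟩ : U))
        (b := ⟨e ^ 2, h.powU e he⟩)).2 (iff_of_false hcU heU)
      have hw' : (w : H) ^ 2 = c * e ^ 2 := congrArg Subtype.val hw
      refine ⟨(w : H)⁻¹, inv_mem w.2, Or.inr ?_⟩
      rw [hsqz e he _ (inv_mem w.2), inv_pow, hw', mul_inv_rev, mul_inv_cancel_left]
      exact inv_eq_of_mul_eq_one_right (by rw [← pow_two, hcs])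

/-- An elementary abelian subgroup avoiding `U` which fixes a vector. -/
def Fam (φ : H →* MulAut V) (s : ℕ) (U E A : Subgroup H) : Prop :=
  A ≤ E ∧ (∀ x ∈ A, x ^ s = 1) ∧ (∀ x ∈ A, ∀ y ∈ A, x * y = y * x) ∧ (∀ x ∈ A, x ∈ U → x = 1) ∧
    fixed φ A ≠ ⊥

/-- A maximal member, absorbing the commuting elements of exponent `s`. -/
theorem Ctx.exists_max (h : Ctx φ a s U E) [Nontrivial V] :
    ∃ A, Fam φ s U E A ∧ ∀ g ∈ E, g ^ s = 1 → (∀ x ∈ A, g * x = x * g) → g ∈ A ⊔ U := by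
  classical
  have hbot : Fam φ s U E ⊥ := by
    refine ⟨bot_le, fun x hx => by rw [Subgroup.mem_bot] at hx; simp [hx],
      fun x hx y hy => by rw [Subgroup.mem_bot] at hx hy; simp [hx, hy],
      fun x hx _ => Subgroup.mem_bot.1 hx, fun h0 => ?_⟩
    obtain ⟨v, hv⟩ := exists_ne (1 : V)
    exact hv (Subgroup.mem_bot.1 (h0 ▸ show v ∈ fixed φ ⊥ from fun k hk => by
      rw [Subgroup.mem_bot] at hk
      simp [hk]))
  obtain ⟨A, hA, hmax⟩ := (Set.toFinite {A | Fam φ s U E A}).exists_maximal ⟨⊥, hbot⟩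
  refine ⟨A, hA, fun g hg hgs hgc => ?_⟩
  obtain ⟨hAE, hApow, hAab, hAU, hAfix⟩ := hA
  by_contra hgn
  obtain ⟨z, hz, hzs, hz1⟩ := h.exists_z
  haveI := Fact.mk h.hs
  have hzg : Commute z g := h.central z hz g hg
  let B : Subgroup H := Subgroup.closure ({z, g} : Set H)
  have hgenset : ∀ x ∈ ({z, g} : Set H), x ∈ E ∧ ∀ k ∈ A, x * k = k * x := by
    rintro x (rfl | rfl)
    · exact ⟨h.le hz, fun k hk => h.central x hz k (hAE hk)⟩
    · exact ⟨hg, hgc⟩
  haveI : IsMulCommutative B := Subgroup.isMulCommutative_closure (by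
    rintro x (rfl | rfl) y (rfl | rfl)
    exacts [rfl, hzg, hzg.symm, rfl])
  have hBcen : ∀ b ∈ B, ∀ k ∈ A, b * k = k * b := fun b hb => by
    induction hb using Subgroup.closure_induction with
    | mem x hx => exact (hgenset x hx).2
    | one => simp
    | mul x y _ _ hx hy =>
      exact fun k hk => ((show Commute x k from hx k hk).mul_left (hy k hk)).eq
    | inv x _ hx => exact fun k hk => ((show Commute x k from hx k hk).inv_left).eq
  have hBE : B ≤ E := (Subgroup.closure_le E).2 fun x hx => (hgenset x hx).1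
  have hBfix : ∀ b ∈ B, ∀ v ∈ fixed φ A, φ b v ∈ fixed φ A := fun b hb v hv =>
    fixed_conj (fun k hk => by rwa [mul_assoc, ← hBcen b hb k hk, inv_mul_cancel_left]) hv
  let F : Subgroup V := fixed φ A
  haveI : Nontrivial F := (Subgroup.nontrivial_iff_ne_bot F).2 hAfix
  let ρ : B →* MulAut F :=
    { toFun := fun b =>
        { toFun := fun v => ⟨φ b v, hBfix b b.2 v v.2⟩
          invFun := fun v => ⟨φ (b : H)⁻¹ v, hBfix _ (inv_mem b.2) v v.2⟩
          left_inv := fun v => Subtype.ext (by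
            show φ (b : H)⁻¹ (φ b v) = v
            rw [← MulAut.mul_apply, ← map_mul, inv_mul_cancel, map_one, MulAut.one_apply])
          right_inv := fun v => Subtype.ext (by
            show φ b (φ (b : H)⁻¹ v) = v
            rw [← MulAut.mul_apply, ← map_mul, mul_inv_cancel, map_one, MulAut.one_apply])
          map_mul' := fun x y => Subtype.ext (map_mul (φ b) (x : V) y) }
      map_one' := MulEquiv.ext fun v => Subtype.ext (by simp)
      map_mul' := fun x y => MulEquiv.ext fun v => Subtype.ext (by simp [MulAut.mul_apply]) }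
  have hex : ∃ b : B, b ≠ 1 ∧ ∃ v : F, v ≠ 1 ∧ ρ b v = v := by
    by_contra! hall
    have hf : Core.IsFPF ρ := fun b hb v hv => by
      by_contra hv1
      exact hall b hb v hv1 hv
    haveI := hf.isCyclic_of_comm inferInstance
    have hg1 : g ≠ 1 := fun e => hgn (e ▸ one_mem _)
    have hgz := Fusion.mem_zpowers_of_orderOf_dvd (A := B) inferInstance
      (Subgroup.subset_closure (Or.inr rfl)) (Subgroup.subset_closure (Or.inl rfl))
      (dvd_of_eq ((orderOf_eq_prime hgs hg1).trans (orderOf_eq_prime hzs hz1).symm))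
    exact hgn (Subgroup.mem_sup_right ((Subgroup.zpowers_le).2 hz hgz))
  obtain ⟨⟨b, hb⟩, hb1, v, hv1, hbv⟩ := hex
  have hb0 : b ≠ 1 := fun e => hb1 (Subtype.ext e)
  -- the fixing element lies outside `U`
  have hbU : b ∉ U := fun hbU => hv1 (Subtype.ext (h.fpf b hbU hb0 (v : V) (congrArg Subtype.val hbv)))
  have hBmem : ∀ x ∈ B, ∃ m n : ℕ, x = z ^ m * g ^ n := by
    intro x hx
    induction hx using Subgroup.closure_induction with
    | mem x hx =>
      rcases hx with rfl | rfl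
      exacts [⟨1, 0, by simp⟩, ⟨0, 1, by simp⟩]
    | one => exact ⟨0, 0, by simp⟩
    | mul x y _ _ hx hy =>
      obtain ⟨m, n, rfl⟩ := hx
      obtain ⟨m', n', rfl⟩ := hy
      refine ⟨m + m', n + n', ?_⟩
      rw [pow_add, pow_add, mul_assoc, ← mul_assoc (g ^ n), ← (hzg.pow_pow m' n).eq]
      simp only [mul_assoc]
    | inv x _ hx =>
      obtain ⟨m, n, rfl⟩ := hx
      have hinv : ∀ (y : H) (k : ℕ), y ^ s = 1 → (y ^ k)⁻¹ = y ^ (k * (s - 1)) := fun y k hy =>
        inv_eq_of_mul_eq_one_right (by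
          rw [← pow_add, show k + k * (s - 1) = s * k by
            conv_lhs => arg 1; rw [← mul_one k]
            rw [← mul_add, Nat.add_sub_cancel' h.hs.one_le, mul_comm],
            pow_mul, hy, one_pow])
      refine ⟨m * (s - 1), n * (s - 1), ?_⟩
      rw [mul_inv_rev, hinv z m hzs, hinv g n hgs, (hzg.pow_pow _ _).eq]
  have hbs : b ^ s = 1 := by
    obtain ⟨m, n, rfl⟩ := hBmem b hb
    rw [(hzg.pow_pow m n).mul_pow, ← pow_mul, ← pow_mul, mul_comm m, mul_comm n, pow_mul, pow_mul,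
      hzs, hgs, one_pow, one_pow, one_mul]
  have hnot : b ∉ A ⊔ U := by
    intro hbmem
    obtain ⟨m, n, hbmn⟩ := hBmem b hb
    by_cases hn : s ∣ n
    · obtain ⟨j, rfl⟩ := hn
      rw [pow_mul, hgs, one_pow, mul_one] at hbmn
      exact hbU (hbmn ▸ pow_mem hz m)
    obtain ⟨j, -, hj⟩ := Nat.exists_mul_mod_eq_one_of_coprime
      ((h.hs.coprime_iff_not_dvd.2 hn).symm) h.hs.one_lt
    have hgn' : g ^ n ∈ A ⊔ U := by
      rw [show g ^ n = (z ^ m)⁻¹ * b by rw [hbmn]; group]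
      exact mul_mem (Subgroup.mem_sup_right (inv_mem (pow_mem hz m))) hbmem
    have := pow_mem hgn' j
    rw [← pow_mul, pow_eq_pow_mod (n * j) hgs, hj, pow_one] at this
    exact hgn this
  -- and generates, with `A`, a larger member
  let A' : Subgroup H := A ⊔ Subgroup.zpowers b
  have hmem : ∀ x ∈ A', ∃ y ∈ A, ∃ i : ℕ, x = y * b ^ i := by
    intro x hx
    have hn : Subgroup.zpowers b ≤ Subgroup.normalizer (A : Set H) :=
      le_normalizer_of_forall fun c hc k hk => by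
        have : Commute b k := hBcen b hb k hk
        obtain ⟨i, rfl⟩ := Subgroup.mem_zpowers_iff.1 hc
        rw [(this.zpow_left i).eq, mul_inv_cancel_right]
        exact hk
    have hx' : x ∈ (↑(A ⊔ Subgroup.zpowers b) : Set H) := hx
    rw [Subgroup.coe_mul_of_right_le_normalizer_left _ _ hn] at hx'
    obtain ⟨y, hy, c, hc, rfl⟩ := hx'
    obtain ⟨i, rfl⟩ := (isOfFinOrder_of_finite b).mem_powers_iff_mem_zpowers.2 hc
    exact ⟨y, hy, i, rfl⟩
  have hbc : ∀ y ∈ A, ∀ i : ℕ, Commute y (b ^ i) := fun y hy i =>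
    ((show Commute b y from hBcen b hb y hy).symm).pow_right i
  have hA' : Fam φ s U E A' := by
    refine ⟨sup_le hAE ((Subgroup.zpowers_le).2 (hBE hb)), fun x hx => ?_, fun x hx y hy => ?_,
      fun x hx hxU => ?_, fun h0 => hv1 (Subtype.ext (Subgroup.mem_bot.1 (h0 ▸ ?_)))⟩
    · obtain ⟨y, hy, i, rfl⟩ := hmem x hx
      rw [(hbc y hy i).mul_pow, hApow y hy, ← pow_mul, mul_comm i, pow_mul, hbs, one_pow, one_mul]
    · obtain ⟨x', hx', i, rfl⟩ := hmem x hx
      obtain ⟨y', hy', j, rfl⟩ := hmem y hy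
      exact (((show Commute x' y' from hAab x' hx' y' hy').mul_right (hbc x' hx' j)).mul_left
        ((hbc y' hy' i).symm.mul_right ((Commute.refl b).pow_pow i j))).eq
    · obtain ⟨y, hy, i, rfl⟩ := hmem x hx
      by_cases hi : s ∣ i
      · obtain ⟨k, rfl⟩ := hi
        rw [pow_mul, hbs, one_pow, mul_one] at hxU ⊢
        exact hAU y hy hxU
      exfalso
      -- otherwise `b` would lie in `A ⊔ U`, and so would `g`
      obtain ⟨k, -, hk⟩ := Nat.exists_mul_mod_eq_one_of_coprime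
        ((h.hs.coprime_iff_not_dvd.2 hi).symm) h.hs.one_lt
      have hbi : b ^ i ∈ A ⊔ U := by
        rw [show b ^ i = y⁻¹ * (y * b ^ i) by group]
        exact mul_mem (Subgroup.mem_sup_left (inv_mem hy)) (Subgroup.mem_sup_right hxU)
      have hbmem : b ∈ A ⊔ U := by
        have := pow_mem hbi k
        rwa [← pow_mul, pow_eq_pow_mod (i * k) hbs, hk, pow_one] at this
      exact hnot hbmem
    · have hle : A' ≤ stb φ (v : V) := sup_le (fun k hk => v.2 k hk)
        ((Subgroup.zpowers_le).2 (congrArg Subtype.val hbv))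
      exact fun k hk => hle hk
  have hble := hmax (y := A') hA' le_sup_left (Subgroup.mem_sup_right (Subgroup.mem_zpowers b))
  exact hnot (Subgroup.mem_sup_left hble)

theorem Ctx.comm_mul (h : Ctx φ a s U E) {e f g : H} (he : e ∈ E) (hf : f ∈ E) (hg : g ∈ E) :
    e * (f * g) * e⁻¹ * (f * g)⁻¹ = (e * f * e⁻¹ * f⁻¹) * (e * g * e⁻¹ * g⁻¹) := by
  calc e * (f * g) * e⁻¹ * (f * g)⁻¹
      = (e * f * e⁻¹) * ((e * g * e⁻¹ * g⁻¹) * f⁻¹) := by group
    _ = (e * f * e⁻¹) * (f⁻¹ * (e * g * e⁻¹ * g⁻¹)) := by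
        rw [h.central _ (h.comm e he g hg) f⁻¹ (inv_mem hf)]
    _ = _ := by group

theorem Ctx.comm_mul_left (h : Ctx φ a s U E) {e d f : H} (he : e ∈ E) (hd : d ∈ E) (hf : f ∈ E) :
    e * d * f * (e * d)⁻¹ * f⁻¹ = (e * f * e⁻¹ * f⁻¹) * (d * f * d⁻¹ * f⁻¹) := by
  have hc := h.comm d hd f hf
  calc e * d * f * (e * d)⁻¹ * f⁻¹
      = e * (d * f * d⁻¹ * f⁻¹) * (f * e⁻¹ * f⁻¹) := by group
    _ = (d * f * d⁻¹ * f⁻¹) * e * (f * e⁻¹ * f⁻¹) := by rw [h.central _ hc e he]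
    _ = (d * f * d⁻¹ * f⁻¹) * (e * f * e⁻¹ * f⁻¹) := by group
    _ = _ := h.central _ hc _ (h.le (h.comm e he f hf))

/-- An element of `a`-power order stabilising a chain centralises. -/
theorem Ctx.chain (h : Ctx φ a s U E) {x e d : H} (hx : ∃ k : ℕ, x ^ a ^ k = 1) (hd : d ∈ E)
    (hxd : x * d = d * x) (he : x * e * x⁻¹ = e * d) : x * e = e * x := by
  obtain ⟨k, hk⟩ := hx
  have hn : ∀ n : ℕ, x ^ n * e * (x ^ n)⁻¹ = e * d ^ n := fun n => by
    induction n with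
    | zero => simp
    | succ n ih =>
      calc x ^ (n + 1) * e * (x ^ (n + 1))⁻¹ = x * (x ^ n * e * (x ^ n)⁻¹) * x⁻¹ := by
            rw [pow_succ']; group
        _ = (x * e * x⁻¹) * (x * d ^ n * x⁻¹) := by rw [ih]; group
        _ = e * d ^ (n + 1) := by
            rw [he, ((show Commute x d from hxd).pow_right n).eq, mul_inv_cancel_right, pow_succ',
              mul_assoc]
  have h1 := hn (a ^ k)
  rw [hk, one_mul, inv_one, mul_one] at h1
  have h2 := Nat.dvd_gcd (orderOf_dvd_of_pow_eq_one (left_eq_mul.1 h1))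
    (Subgroup.orderOf_dvd_natCard E hd)
  rw [(Nat.Coprime.pow_left k (h.ha.coprime_iff_not_dvd.2 h.notdvd)), Nat.dvd_one,
    orderOf_eq_one_iff] at h2
  rw [h2, mul_one] at he
  exact mul_inv_eq_iff_eq_mul.1 he

/-- The displacement of an element commutes with the fixed elements. -/
theorem Ctx.diff_comm (h : Ctx φ a s U E) {x e al : H} (hx : ∃ k : ℕ, x ^ a ^ k = 1) (he : e ∈ E)
    (hal : al ∈ E) (hxal : x * al = al * x) :
    e⁻¹ * (x * e * x⁻¹) * al = al * (e⁻¹ * (x * e * x⁻¹)) := by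
  have hd : e⁻¹ * (x * e * x⁻¹) ∈ E := mul_mem (inv_mem he) (h.normE.conj_mem e he x)
  have h1 : x * al * x⁻¹ = al := mul_inv_eq_iff_eq_mul.2 hxal
  have h2 : x * (e * al * e⁻¹ * al⁻¹) * x⁻¹ = e * al * e⁻¹ * al⁻¹ :=
    mul_inv_eq_iff_eq_mul.2 (h.act x hx _ (h.comm e he al hal))
  have h3 : x * (e * al * e⁻¹ * al⁻¹) * x⁻¹ =
      (x * e * x⁻¹) * (x * al * x⁻¹) * (x * e * x⁻¹)⁻¹ * (x * al * x⁻¹)⁻¹ := by group
  rw [h2, h1, show x * e * x⁻¹ = e * (e⁻¹ * (x * e * x⁻¹)) by group, h.comm_mul_left he hd hal,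
    left_eq_mul, mul_inv_eq_one, mul_inv_eq_iff_eq_mul] at h3
  exact h3

/-- A Sylow subgroup centralising the given member. -/
theorem Ctx.exists_sylow (h : Ctx φ a s U E) (hsp : Spread a φ) {A : Subgroup H}
    (hA : Fam φ s U E A) : ∃ S : Sylow a H, ∀ x ∈ (S : Subgroup H), ∀ al ∈ A, x * al = al * x := by
  haveI := Fact.mk h.ha
  obtain ⟨v, hv, hv1⟩ := (fixed φ A).bot_or_exists_ne_one.resolve_left hA.2.2.2.2
  obtain ⟨S, hS, hSn⟩ := hsp v hv1
  refine ⟨S, fun x hx al hal => ?_⟩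
  have h1 : x * (al * x⁻¹ * al⁻¹) ∈ (S : Subgroup H) :=
    mul_mem hx (hSn al (hv al hal) x⁻¹ (inv_mem hx))
  have h2 : x * (al * x⁻¹ * al⁻¹) ∈ E := by
    rw [show x * (al * x⁻¹ * al⁻¹) = (x * al * x⁻¹) * al⁻¹ by group]
    exact mul_mem (h.normE.conj_mem al (hA.1 hal) x) (inv_mem (hA.1 hal))
  obtain ⟨k, hk⟩ := S.isPGroup' ⟨_, h1⟩
  have h3 := Nat.dvd_gcd (orderOf_dvd_of_pow_eq_one
    (show (x * (al * x⁻¹ * al⁻¹)) ^ a ^ k = 1 by simpa using congrArg Subtype.val hk))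
    (Subgroup.orderOf_dvd_natCard E h2)
  rw [(Nat.Coprime.pow_left k (h.ha.coprime_iff_not_dvd.2 h.notdvd)), Nat.dvd_one,
    orderOf_eq_one_iff, ← mul_assoc, ← mul_assoc, mul_inv_eq_one, mul_inv_eq_iff_eq_mul] at h3
  exact h3

/-- The exceptional configuration. -/
structure Exc (φ : H →* MulAut V) (s : ℕ) (U E A : Subgroup H) (S : Sylow 3 H) (x g : H) : Prop where
  fam : Fam φ s U E A
  s_eq : s = 2
  z : ∃ z ∈ U, z ^ 2 = 1 ∧ z ≠ 1 ∧ ∀ u ∈ U, u ^ 2 ≠ z
  cenS : ∀ y ∈ (S : Subgroup H), ∀ al ∈ A, y * al = al * y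
  x_mem : x ∈ (S : Subgroup H)
  g_mem : g ∈ E
  g_cen : ∀ al ∈ A, g * al = al * g
  moved : g⁻¹ * (x * g * x⁻¹) ∉ A ⊔ U
  triangle : g * (x * g * x⁻¹) * (x * (x * g * x⁻¹) * x⁻¹) ∈ A ⊔ U
  classes : ∀ k ∈ E, (∀ al ∈ A, k * al = al * k) → k ∈ A ⊔ U ∨ g * k ∈ A ⊔ U ∨
    x * g * x⁻¹ * k ∈ A ⊔ U ∨ g * (x * g * x⁻¹) * k ∈ A ⊔ U

/-- All elements of `a`-power order centralise the chief factor, apart from one configuration. -/
theorem Ctx.centralize (h : Ctx φ a s U E) [Nontrivial V] (hsp : Spread a φ) :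
    (∀ x : H, (∃ k : ℕ, x ^ a ^ k = 1) → ∀ e ∈ E, x * e = e * x) ∨
      (a = 3 ∧ ∃ (A : Subgroup H) (S : Sylow 3 H) (x g : H), Exc φ s U E A S x g) := by
  classical
  haveI := Fact.mk h.ha
  haveI := h.normE
  obtain ⟨A, hA, habs⟩ := h.exists_max
  obtain ⟨S, hS⟩ := h.exists_sylow hsp hA
  have hpow : ∀ {y : H}, y ∈ (S : Subgroup H) → ∃ k : ℕ, y ^ a ^ k = 1 := fun {y} hy => by
    obtain ⟨k, hk⟩ := S.isPGroup' ⟨y, hy⟩
    exact ⟨k, by simpa using congrArg Subtype.val hk⟩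
  set B := A ⊔ U with hB
  have hBE : B ≤ E := sup_le hA.1 h.le
  have hxB : ∀ {y : H}, y ∈ (S : Subgroup H) → ∀ b ∈ B, y * b = b * y := fun {y} hy => by
    have hle : B ≤ Subgroup.centralizer ({y} : Set H) := sup_le
      (fun al hal => Subgroup.mem_centralizer_singleton_iff.2 (hS y hy al hal).symm)
      (fun u hu => Subgroup.mem_centralizer_singleton_iff.2 (h.act y (hpow hy) u hu).symm)
    exact fun b hb => (Subgroup.mem_centralizer_singleton_iff.1 (hle hb)).symm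
  have hUA : ∀ u ∈ U, ∀ al ∈ A, u * al = al * u := fun u hu al hal => h.central u hu al (hA.1 hal)
  by_cases hfix : ∀ x ∈ (S : Subgroup H), ∀ g ∈ E, (∀ al ∈ A, g * al = al * g) →
      g⁻¹ * (x * g * x⁻¹) ∈ B
  · refine Or.inl ?_
    have hSE : ∀ x ∈ (S : Subgroup H), ∀ e ∈ E, x * e = e * x := by
      intro x hx
      have hA' : ∀ g ∈ E, (∀ al ∈ A, g * al = al * g) → x * g = g * x := fun g hg hgc =>
        h.chain (hpow hx) (hBE (hfix x hx g hg hgc)) (hxB hx _ (hfix x hx g hg hgc))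
          (by group)
      intro e he
      have hd : e⁻¹ * (x * e * x⁻¹) ∈ E := mul_mem (inv_mem he) (h.normE.conj_mem e he x)
      refine h.chain (hpow hx) hd (hA' _ hd fun al hal => ?_) (by group)
      exact h.diff_comm (hpow hx) he (hA.1 hal) (hS x hx al hal)
    intro x hx e he
    obtain ⟨k, hk⟩ := hx
    have hp : IsPGroup a (Subgroup.zpowers x) := fun y => by
      obtain ⟨i, hi⟩ := Subgroup.mem_zpowers_iff.1 y.2
      refine ⟨k, Subtype.ext ?_⟩
      rw [SubgroupClass.coe_pow, ← hi, ← zpow_natCast, ← zpow_mul, mul_comm, zpow_mul,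
        zpow_natCast, hk, one_zpow, OneMemClass.coe_one]
    obtain ⟨T, hT⟩ := hp.exists_le_sylow
    obtain ⟨y, hy⟩ := MulAction.exists_smul_eq H S T
    have hxT : x ∈ ((y • S : Sylow a H) : Subgroup H) := by
      rw [hy]; exact hT (Subgroup.mem_zpowers x)
    rw [Sylow.coe_subgroup_smul] at hxT
    obtain ⟨w, hw, rfl⟩ := hxT
    have := hSE w hw (y⁻¹ * e * y) (by simpa using h.normE.conj_mem e he y⁻¹)
    show y * w * y⁻¹ * e = e * (y * w * y⁻¹)
    calc y * w * y⁻¹ * e = y * (w * (y⁻¹ * e * y)) * y⁻¹ := by group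
      _ = y * (y⁻¹ * e * y * w) * y⁻¹ := by rw [this]
      _ = e * (y * w * y⁻¹) := by group
  refine Or.inr ?_
  push Not at hfix
  obtain ⟨x, hx, g, hg, hgc, hgx⟩ := hfix
  rcases h.lifts with hl | ⟨hs2, z, hz, hz2, hz1, hzn, hl⟩
  · exfalso
    obtain ⟨u, hu, hus⟩ := hl g hg
    have hguB : g * u ∈ B := habs _ (mul_mem hg (h.le hu)) hus fun al hal =>
      ((show Commute g al from hgc al hal).mul_left (hUA u hu al hal)).eq
    have hgB : g ∈ B := by
      simpa using mul_mem hguB (inv_mem (Subgroup.mem_sup_right hu : u ∈ B))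
    refine hgx ?_
    rw [hxB hx g hgB, mul_inv_cancel_right, inv_mul_cancel]
    exact one_mem _
  subst hs2
  have ha2 : a ≠ 2 := by
    rintro rfl
    refine h.notdvd ?_
    rw [← orderOf_eq_prime hz2 hz1]
    exact Subgroup.orderOf_dvd_natCard E (h.le hz)
  -- two non-trivial classes with non-trivial product do not commute
  let Ab : Subgroup H := E ⊓ Subgroup.centralizer (A : Set H)
  have hAb : ∀ k, k ∈ Ab ↔ k ∈ E ∧ ∀ al ∈ A, k * al = al * k := fun k =>
    and_congr_right fun _ => ⟨fun hh al hal => (hh al hal).symm, fun hh al hal => (hh al hal).symm⟩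
  have hBU : U ≤ B := le_sup_right
  have hsq : ∀ k ∈ E, k * k ∈ B := fun k hk => hBU (by rw [← pow_two]; exact h.powU k hk)
  have hne : ∀ p ∈ Ab, ∀ q ∈ Ab, p ∉ B → q ∉ B → p * q ∉ B → p * q * p⁻¹ * q⁻¹ = z := by
    intro p hp q hq hpB hqB hpqB
    have hcz := h.comm p ((hAb p).1 hp).1 q ((hAb q).1 hq).1
    obtain ⟨i, hi⟩ := h.mem_zpowers_z hz hz2 hz1 hcz (h.comm_pow ((hAb p).1 hp).1 ((hAb q).1 hq).1)
    rw [hi]
    rcases Nat.even_or_odd i with ⟨j, rfl⟩ | ⟨j, rfl⟩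
    · exfalso
      have hcomm : Commute p q := by
        rw [← two_mul, pow_mul, hz2, one_pow, mul_inv_eq_one, mul_inv_eq_iff_eq_mul] at hi
        exact hi
      obtain ⟨u, hu, hup⟩ := hl p ((hAb p).1 hp).1
      obtain ⟨v, hv, hvq⟩ := hl q ((hAb q).1 hq).1
      have habs' : ∀ k ∈ Ab, ∀ w ∈ U, (k * w) ^ 2 = 1 → k ∈ B := fun k hk w hw hkw => by
        have := habs _ (mul_mem ((hAb k).1 hk).1 (h.le hw)) hkw fun al hal =>
          ((show Commute k al from ((hAb k).1 hk).2 al hal).mul_left (hUA w hw al hal)).eq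
        simpa using mul_mem this (inv_mem (hBU hw))
      have hp' : (p * u) ^ 2 = z := hup.resolve_left fun e => hpB (habs' p hp u hu e)
      have hq' : (q * v) ^ 2 = z := hvq.resolve_left fun e => hqB (habs' q hq v hv e)
      refine hpqB (habs' _ (mul_mem hp hq) (u * v) (mul_mem hu hv) ?_)
      have hc : Commute (p * u) (q * v) := Commute.mul_left
        (hcomm.mul_right (h.central v hv p ((hAb p).1 hp).1).symm)
        (h.central u hu _ (mul_mem ((hAb q).1 hq).1 (h.le hv)))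
      rw [show p * q * (u * v) = (p * u) * (q * v) by
        rw [mul_assoc p q, ← mul_assoc q u, ← h.central u hu q ((hAb q).1 hq).1]; simp only [mul_assoc],
        hc.mul_pow, hp', hq', ← pow_two, hz2]
    · rw [pow_succ, pow_mul, hz2, one_pow, one_mul]
  have htriple : ∀ p ∈ Ab, ∀ q ∈ Ab, p ∉ B → q ∉ B → p * q ∉ B →
      ∀ k ∈ Ab, k ∈ B ∨ p * k ∈ B ∨ q * k ∈ B ∨ p * q * k ∈ B := by
    intro p hp q hq hpB hqB hpqB k hk
    by_contra! hcon
    obtain ⟨hkB, hpk, hqk, hpqk⟩ := hcon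
    have h1 := hne p hp (q * k) (mul_mem hq hk) hpB hqk (by rwa [← mul_assoc])
    rw [h.comm_mul ((hAb p).1 hp).1 ((hAb q).1 hq).1 ((hAb k).1 hk).1, hne p hp q hq hpB hqB hpqB,
      hne p hp k hk hpB hkB hpk, ← pow_two, hz2] at h1
    exact hz1 h1.symm
  -- the orbit of `g`
  have hconjB : ∀ {y : H}, y ∈ (S : Subgroup H) → ∀ b, y * b * y⁻¹ ∈ B ↔ b ∈ B := fun {y} hy b => by
    constructor
    · intro hb
      have := hxB hy _ hb
      rw [show b = y⁻¹ * (y * b * y⁻¹) * y by group]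
      rw [mul_assoc, ← this, inv_mul_cancel_left]
      exact hb
    · intro hb
      rwa [hxB hy b hb, mul_inv_cancel_right]
  let st : Subgroup H :=
    { carrier := {y | y ∈ (S : Subgroup H) ∧ g⁻¹ * (y * g * y⁻¹) ∈ B}
      one_mem' := ⟨one_mem _, by simp⟩
      mul_mem' := fun {y w} hy hw => ⟨mul_mem hy.1 hw.1, by
        rw [show g⁻¹ * (y * w * g * (y * w)⁻¹) =
          g⁻¹ * (y * g * y⁻¹) * (y * (g⁻¹ * (w * g * w⁻¹)) * y⁻¹) by group]
        exact mul_mem hy.2 ((hconjB hy.1 _).2 hw.2)⟩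
      inv_mem' := fun {y} hy => ⟨inv_mem hy.1, (hconjB hy.1 _).1 (by
        rw [show y * (g⁻¹ * (y⁻¹ * g * y⁻¹⁻¹)) * y⁻¹ = (g⁻¹ * (y * g * y⁻¹))⁻¹ by group]
        exact inv_mem hy.2)⟩ }
  have hxst : x ∉ st := fun hh => hgx hh.2
  obtain ⟨k, hk⟩ := hpow hx
  have hgen : ∀ d : ℕ, d.Coprime a → x ^ d ∈ st → False := fun d hd hh => by
    obtain ⟨m, hm⟩ := exists_pow_eq_self_of_coprime
      (Nat.Coprime.coprime_dvd_right (orderOf_dvd_of_pow_eq_one hk) (hd.pow_right k))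
    exact hxst (hm ▸ pow_mem hh m)
  set gx := x * g * x⁻¹ with hgxdef
  set gxx := x * gx * x⁻¹ with hgxxdef
  have hgAb : g ∈ Ab := (hAb g).2 ⟨hg, hgc⟩
  have hmem : ∀ w ∈ Ab, x * w * x⁻¹ ∈ Ab := fun w hw => (hAb _).2 ⟨h.normE.conj_mem w ((hAb w).1 hw).1 x,
    fun al hal => by
      have h1 := hS x hx al hal
      calc x * w * x⁻¹ * al = x * (w * al) * x⁻¹ := by
            rw [mul_assoc _ x⁻¹, ← (show Commute x al from h1).inv_left.symm.eq]; group
        _ = x * (al * w) * x⁻¹ := by rw [((hAb w).1 hw).2 al hal]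
        _ = al * (x * w * x⁻¹) := by rw [← mul_assoc x al, h1]; group⟩
  have hgxAb : gx ∈ Ab := hmem g hgAb
  have hgxxAb : gxx ∈ Ab := hmem gx hgxAb
  have hgB : g ∉ B := fun hh => hgx (by
    show g⁻¹ * gx ∈ B
    exact mul_mem (inv_mem hh) ((hconjB hx g).2 hh))
  have hgxB : gx ∉ B := fun hh => hgB ((hconjB hx g).1 hh)
  have hswap : ∀ w, g * w ∈ B → g⁻¹ * w ∈ B := fun w hw => by
    rw [show g⁻¹ * w = (g * g)⁻¹ * (g * w) by group]
    exact mul_mem (inv_mem (hsq g hg)) hw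
  have hggx : g * gx ∉ B := fun hh => hgx (hswap _ hh)
  have hgxgxx : gx * gxx ∉ B := fun hh => hggx ((hconjB hx _).1 (by
    rwa [show x * (g * gx) * x⁻¹ = gx * gxx by simp only [gx, gxx]; group]))
  have hggxx : g * gxx ∉ B := fun hh => hgen 2 (Nat.coprime_two_left.2 (h.ha.odd_of_ne_two ha2))
    ⟨pow_mem hx 2, by
      rw [show x ^ 2 * g * (x ^ 2)⁻¹ = gxx by simp only [gx, gxx, pow_two]; group]
      exact hswap _ hh⟩
  have hgxxB : gxx ∉ B := fun hh => hgxB ((hconjB hx gx).1 hh)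
  have hprod : g * gx * gxx ∈ B := by
    rcases htriple g hgAb gx hgxAb hgB hgxB hggx gxx hgxxAb with h1 | h1 | h1 | h1
    exacts [absurd h1 hgxxB, absurd h1 hggxx, absurd h1 hgxgxx, h1]
  have ha3 : a = 3 := by
    by_contra hne3
    refine hgen 3 (((Nat.coprime_primes Nat.prime_three h.ha).2 (Ne.symm hne3))) ⟨pow_mem hx 3, ?_⟩
    set gxxx := x * gxx * x⁻¹
    rw [show x ^ 3 * g * (x ^ 3)⁻¹ = gxxx by simp only [gxxx, gxx, gx, pow_succ, pow_zero, one_mul]; group]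
    refine hswap _ ?_
    have h2 : gx * gxx * gxxx ∈ B := by
      rw [show gx * gxx * gxxx = x * (g * gx * gxx) * x⁻¹ by simp only [gx, gxx, gxxx]; group]
      exact (hconjB hx _).2 hprod
    have h3 := mul_mem hprod h2
    have hhk : gx * gxx ∈ E := mul_mem ((hAb _).1 hgxAb).1 ((hAb _).1 hgxxAb).1
    have h4 : (gx * gxx) * (gx * gxx) ∈ U := by rw [← pow_two]; exact h.powU _ hhk
    have hl4 : gxxx ∈ E := h.normE.conj_mem _ ((hAb _).1 hgxxAb).1 x
    rw [show g * gx * gxx * (gx * gxx * gxxx) = g * ((gx * gxx) * (gx * gxx) * gxxx) by group,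
      h.central _ h4 _ hl4, ← mul_assoc] at h3
    have h5 := mul_mem h3 (inv_mem (hBU h4))
    rwa [mul_inv_cancel_right] at h5
  subst ha3
  exact ⟨rfl, A, S, x, g, ⟨hA, rfl, ⟨z, hz, hz2, hz1, hzn⟩, hS, hx, hg, hgc, hgx, hprod,
    fun k hk hkc => htriple g hgAb gx hgxAb hgB hgxB hggx k ((hAb k).2 ⟨hk, hkc⟩)⟩⟩

end Cfsg.Agent.Palfy
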