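import Mathlib
import Cfsg.Agent.Core.MinimalNormal
import Cfsg.Agent.Core.FPF
import Cfsg.Agent.CharNoDiv.Tools

/-!
# Solvable irreducible symplectic groups in characteristic two with a reflection of order three

An element of order three whose commutator space has at most four elements forces, in a solvable
irreducible group preserving a non-degenerate alternating pairing, a non-trivial normal subgroup
which is a three-group.
-/

set_option autoImplicit false
set_option linter.style.haveILetI false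

namespace Cfsg.Agent.Palfy

universe u v

/-- The subgroup of points fixed by a set of automorphisms. -/
def fixBy {W : Type u} [Group W] (K : Set (MulAut W)) : Subgroup W where
  carrier := {w | ∀ k ∈ K, k w = w}
  one_mem' := fun k _ => map_one k
  mul_mem' := fun {a b} ha hb k hk => by rw [map_mul, ha k hk, hb k hk]
  inv_mem' := fun {a} ha k hk => by rw [map_inv, ha k hk]

theorem mem_fixBy {W : Type u} [Group W] {K : Set (MulAut W)} {w : W} :
    w ∈ fixBy K ↔ ∀ k ∈ K, k w = w := Iff.rfl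

theorem fixBy_apply {W : Type u} [Group W] {K : Set (MulAut W)} {h : MulAut W}
    (hh : ∀ k ∈ K, h⁻¹ * k * h ∈ K) {w : W} (hw : w ∈ fixBy K) : h w ∈ fixBy K := fun k hk => by
  have h1 := hw _ (hh k hk)
  rw [MulAut.mul_apply, MulAut.mul_apply] at h1
  have h2 := congrArg (⇑h) h1
  rwa [← MulAut.mul_apply, mul_inv_cancel, MulAut.one_apply] at h2

/-- A group of prime power order fixes every point of an invariant set with fewer points. -/
theorem fix_of_small {W : Type u} [Group W] (S : Subgroup W) [Finite S] {y : MulAut W} {l : ℕ}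
    (hl : l.Prime) (hy : y ^ l = 1) (hinv : ∀ w ∈ S, y w ∈ S) (hcard : Nat.card S ≤ l) :
    ∀ w ∈ S, y w = w := by
  intro w hw
  by_contra hne
  have hpow : ∀ i : ℕ, (y ^ i) w ∈ S := fun i => by
    induction i with
    | zero => simpa
    | succ i ih => rw [pow_succ', MulAut.mul_apply]; exact hinv _ ih
  have hinj : ∀ i j : Fin l, (y ^ (i : ℕ)) w = (y ^ (j : ℕ)) w → i = j := by
    intro i j e
    by_contra hij
    wlog hlt : (i : ℕ) < j generalizing i j
    · exact this j i e.symm (Ne.symm hij) (by omega)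
    obtain ⟨d, hd⟩ := Nat.exists_eq_add_of_le hlt.le
    have e' : (y ^ (i : ℕ)) ((y ^ d) w) = (y ^ (i : ℕ)) w := by
      rw [← MulAut.mul_apply, ← pow_add, ← hd, e]
    have hdw := (y ^ (i : ℕ)).injective e'
    have hd0 : ¬ l ∣ d := fun h => by
      have := Nat.le_of_dvd (by omega) h
      omega
    obtain ⟨m, -, hm⟩ := Nat.exists_mul_mod_eq_one_of_coprime
      ((hl.coprime_iff_not_dvd.2 hd0).symm) hl.one_lt
    have h2 : ∀ m : ℕ, (y ^ (d * m)) w = w := fun m => by
      induction m with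
      | zero => simp
      | succ m ih => rw [Nat.mul_succ, pow_add, MulAut.mul_apply, hdw, ih]
    refine hne ?_
    have h3 := h2 m
    rwa [pow_eq_pow_mod (d * m) hy, hm, pow_one] at h3
  have h1 : (⟨1, S.one_mem⟩ : S) ∉ Set.range (fun i : Fin l => (⟨_, hpow i⟩ : S)) := by
    rintro ⟨i, hi⟩
    have : w = 1 := (y ^ (i : ℕ)).injective (by rw [map_one]; exact congrArg Subtype.val hi)
    exact hne (by rw [this, map_one])
  have h2 := Finite.card_range_le (fun i : Fin l => (⟨_, hpow i⟩ : S))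
  have h3 : Nat.card (Set.range fun i : Fin l => (⟨_, hpow i⟩ : S)) = l := by
    rw [Nat.card_range_of_injective fun i j e => hinj i j (congrArg Subtype.val e),
      Nat.card_fin]
  have h4 : Nat.card (Set.range fun i : Fin l => (⟨_, hpow i⟩ : S)) < Nat.card S := by
    rw [Nat.card_coe_set_eq, ← Set.ncard_univ]
    exact Set.ncard_lt_ncard (Set.ssubset_univ_iff.2 fun e => h1 (e ▸ Set.mem_univ _))
  omega

/-- An elementary abelian group of order eight has no non-degenerate alternating pairing. -/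
theorem no_pairing_eight {S C : Type u} [CommGroup S] [Group C] (h8 : Nat.card S = 8)
    (h2 : ∀ s : S, s * s = 1) (f : S → S → C) (ε : C) (hval : ∀ a b, f a b = 1 ∨ f a b = ε)
    (hε : ε * ε = 1)
    (hleft : ∀ a a' b, f (a * a') b = f a b * f a' b)
    (hright : ∀ a b b', f a (b * b') = f a b * f a b') (halt : ∀ a, f a a = 1)
    (hnd : ∀ a, (∀ b, f a b = 1) → a = 1) : False := by
  classical
  haveI : Finite S := Nat.finite_of_card_ne_zero (by omega)
  let ker : S → Subgroup S := fun a => (MonoidHom.mk' (f a) (hright a)).ker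
  have hker : ∀ a b, b ∈ ker a ↔ f a b = 1 := fun a b => Iff.rfl
  have hidx : ∀ a, (ker a).index ≤ 2 := by
    intro a
    rw [Subgroup.index_ker, ← SetLike.coe_sort_coe, Nat.card_coe_set_eq]
    refine le_trans (Set.ncard_le_ncard ?_ (Set.toFinite ({1, ε} : Set C))) ?_
    · rintro _ ⟨b, rfl⟩
      exact hval a b
    · exact le_trans (Set.ncard_insert_le _ _) (by simp)
  have hfour : ∀ a, a ≠ 1 → Nat.card (ker a) = 4 := by
    intro a ha
    have h1 := (ker a).card_mul_index
    rw [h8] at h1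
    have h3 : (ker a).index ≠ 1 := fun h => ha (hnd a fun b => by
      rw [← hker, Subgroup.index_eq_one.1 h]; exact Subgroup.mem_top b)
    have h4 : (ker a).index ≠ 0 := Subgroup.index_ne_zero_of_finite
    have := hidx a
    have : (ker a).index = 2 := by omega
    rw [this] at h1
    omega
  have hsymm : ∀ a b, f a b = 1 → f b a = 1 := fun a b h => by
    have := halt (a * b)
    rw [hleft, hright, hright, halt, halt, h, one_mul, mul_one, one_mul] at this
    exact this
  have hsq : ∀ {a b : S}, a * b = 1 → a = b := fun {a b} h => by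
    calc a = a * (b * b) := by rw [h2, mul_one]
      _ = b := by rw [← mul_assoc, h, one_mul]
  obtain ⟨e, he⟩ : ∃ e : S, e ≠ 1 := by
    by_contra! h
    have : Subsingleton S := ⟨fun a b => (h a).trans (h b).symm⟩
    rw [Nat.card_of_subsingleton (1 : S)] at h8
    omega
  have hee : e ∈ ker e := halt e
  obtain ⟨e2, he2, he2e⟩ : ∃ e2 ∈ ker e, e2 ∉ Subgroup.zpowers e := by
    by_contra! h
    have h1 := Subgroup.card_le_of_le (K := Subgroup.zpowers e) h
    rw [hfour e he, Nat.card_zpowers, orderOf_eq_prime (p := 2) (by rw [pow_two, h2]) he] at h1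
    omega
  have he21 : e2 ≠ 1 := fun h => he2e (h ▸ one_mem _)
  have hne : e2 ≠ e := fun h => he2e (h ▸ Subgroup.mem_zpowers e)
  have hprod : e * e2 ≠ 1 := fun h => hne (hsq h).symm
  -- the kernel of `e` is generated by `e` and `e2`
  have hgen : ∀ a ∈ ker e, a = 1 ∨ a = e ∨ a = e2 ∨ a = e * e2 := by
    intro a ha
    have hsub : ({1, e, e2, e * e2} : Set S) ⊆ (ker e : Set S) := by
      rintro y (rfl | rfl | rfl | rfl)
      exacts [one_mem _, hee, he2, mul_mem hee he2]
    have h4 : ({1, e, e2, e * e2} : Set S).ncard = 4 := by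
      rw [Set.ncard_insert_of_notMem, Set.ncard_insert_of_notMem, Set.ncard_pair]
      · intro h
        exact he (by simpa using h)
      · simp only [Set.mem_insert_iff, Set.mem_singleton_iff, not_or]
        exact ⟨hne.symm, fun h => he21 (by simpa using h)⟩
      · simp only [Set.mem_insert_iff, Set.mem_singleton_iff, not_or]
        exact ⟨he.symm, he21.symm, hprod.symm⟩
    have := Set.eq_of_subset_of_ncard_le hsub (by
      rw [h4, ← Nat.card_coe_set_eq, SetLike.coe_sort_coe, hfour e he]) (Set.toFinite _)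
    have ha' : a ∈ ({1, e, e2, e * e2} : Set S) := this ▸ ha
    simpa using ha'
  have hle : ∀ a, a ≠ 1 → a ∈ ker e → a ∈ ker e2 → ker a = ker e := by
    intro a ha h1 h2'
    refine (Subgroup.eq_of_le_of_card_ge (fun y hy => ?_) (by rw [hfour a ha, hfour e he])).symm
    rw [hker]
    have hae : f a e = 1 := hsymm _ _ h1
    have hae2 : f a e2 = 1 := hsymm _ _ h2'
    rcases hgen y hy with rfl | rfl | rfl | rfl
    · exact (MonoidHom.mk' (f a) (hright a)).map_one
    · exact hae
    · exact hae2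
    · rw [hright, hae, hae2, one_mul]
  have hk2 : ker e2 = ker e := hle e2 he21 he2 (halt e2)
  have hk12 : ker (e * e2) = ker e := hle _ hprod (mul_mem hee he2) (hk2 ▸ mul_mem hee he2)
  obtain ⟨c, hc⟩ : ∃ c, c ∉ ker e := by
    by_contra! h
    have := hfour e he
    rw [(Subgroup.eq_top_iff' _).2 h, Subgroup.card_top, h8] at this
    omega
  refine hc ?_
  have h3 : c ∉ ker e2 := hk2 ▸ hc
  rw [hker] at h3
  rw [← hk12, hker, hleft, (hval e c).resolve_left hc, (hval e2 c).resolve_left h3, hε]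

set_option maxHeartbeats 1000000 in
/-- The main statement. -/
theorem no_reflection_three {W : Type u} [CommGroup W] [Finite W] [Nontrivial W]
    (hW2 : ∀ w : W, w * w = 1) (H : Subgroup (MulAut W)) [Group.IsSolvable H]
    (hirr : ∀ U : Subgroup W, (∀ h ∈ H, ∀ w ∈ U, h w ∈ U) → U = ⊥ ∨ U = ⊤)
    {C : Type u} [Group C] (f : W → W → C) (ε : C) (hval : ∀ a b, f a b = 1 ∨ f a b = ε)
    (hε : ε * ε = 1)
    (hleft : ∀ a a' b, f (a * a') b = f a b * f a' b)
    (hright : ∀ a b b', f a (b * b') = f a b * f a b') (halt : ∀ a, f a a = 1)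
    (hnd : ∀ a, (∀ b, f a b = 1) → a = 1) (hinvf : ∀ h ∈ H, ∀ a b, f (h a) (h b) = f a b)
    (hO3 : ∀ N : Subgroup H, N.Normal → IsPGroup 3 N → N = ⊥)
    (x : MulAut W) (hxH : x ∈ H) (hx3 : x ^ 3 = 1) (hx1 : x ≠ 1)
    (I : Subgroup W) (hI : ∀ w, x w * w ∈ I) (hI4 : Nat.card I ≤ 4) : False := by
  classical
  haveI : Nontrivial H := ⟨⟨⟨x, hxH⟩, 1, fun e => hx1 (congrArg Subtype.val e)⟩⟩
  obtain ⟨N, hN⟩ := Core.exists_isMinNormal (G := H)
  haveI := hN.normal
  haveI : IsMulCommutative N := hN.isMulCommutative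
  obtain ⟨l, hl, hNl⟩ := hN.exists_prime_pow_eq_one
  haveI := Fact.mk hl
  let NS : Set (MulAut W) := Set.range fun n : N => ((n : H) : MulAut W)
  have hNpow : ∀ y ∈ NS, y ^ l = 1 := by
    rintro _ ⟨n, rfl⟩
    exact congrArg Subtype.val (hNl n n.2)
  have hfixN : fixBy NS = ⊥ := by
    refine (hirr (fixBy NS) fun h hh w hw => fixBy_apply ?_ hw).resolve_right fun htop => ?_
    · rintro _ ⟨n, rfl⟩
      exact ⟨⟨(⟨h, hh⟩ : H)⁻¹ * n * ⟨h, hh⟩, by
        simpa using hN.normal.conj_mem n n.2 (⟨h, hh⟩ : H)⁻¹⟩, rfl⟩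
    · refine hN.ne_bot ((Subgroup.eq_bot_iff_forall N).2 fun n hn => Subtype.ext ?_)
      exact MulEquiv.ext fun w => (htop ▸ Subgroup.mem_top w : w ∈ fixBy NS) _ ⟨⟨n, hn⟩, rfl⟩
  -- `l` is neither two nor three
  have hl3 : l ≠ 3 := fun e => hN.ne_bot (hO3 N hN.normal
    (e ▸ fun n => ⟨1, Subtype.ext (by rw [pow_one]; exact hNl n n.2)⟩))
  have hl2 : l ≠ 2 := by
    rintro rfl
    have hNp : IsPGroup 2 N := fun n => ⟨1, Subtype.ext (by rw [pow_one]; exact hNl n n.2)⟩
    letI : MulAction N W := MulAction.compHom W (H.subtype.comp N.subtype)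
    have hdvd : 2 ∣ Nat.card W := by
      obtain ⟨w, hw⟩ := exists_ne (1 : W)
      have := orderOf_dvd_natCard w
      rwa [orderOf_eq_prime (p := 2) (by rw [pow_two, hW2]) hw] at this
    obtain ⟨w, hw, hw1⟩ := hNp.exists_fixed_point_of_prime_dvd_card_of_fixed_point W hdvd
      (a := (1 : W)) fun n => map_one ((n : H) : MulAut W)
    have : w ∈ fixBy NS := by
      rintro _ ⟨n, rfl⟩
      exact hw n
    rw [hfixN, Subgroup.mem_bot] at this
    exact hw1 this.symm
  have hl5 : 5 ≤ l := by
    have := hl.two_le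
    rcases Nat.lt_or_ge l 5 with h | h
    · interval_cases l <;> first | omega | exact absurd hl (by norm_num)
    · exact h
  have hxx : ∀ w, x w = w → x w * w = 1 := fun w h => by rw [h, hW2]
  -- `x` does not centralise `N`
  have hnc : ∃ y ∈ NS, x * y * x⁻¹ ≠ y := by
    by_contra! hall
    have hI1 : ∀ w, x w * w ∈ fixBy NS := by
      intro w y hy
      have hinv : ∀ w' ∈ Subgroup.closure (Set.range fun w => x w * w),
          y w' ∈ Subgroup.closure (Set.range fun w => x w * w) := by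
        intro w' hw'
        induction hw' using Subgroup.closure_induction with
        | mem a ha =>
          obtain ⟨b, rfl⟩ := ha
          refine Subgroup.subset_closure ⟨y b, ?_⟩
          show x (y b) * y b = y (x b * b)
          rw [map_mul, ← MulAut.mul_apply _ x y, ← MulAut.mul_apply _ y x,
            show x * y = y * x from mul_inv_eq_iff_eq_mul.1 (hall y hy)]
        | one => rw [map_one]; exact one_mem _
        | mul a b _ _ ha hb => rw [map_mul]; exact mul_mem ha hb
        | inv a _ ha => rw [map_inv]; exact inv_mem ha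
      refine fix_of_small _ hl (hNpow y hy) hinv ?_ _ (Subgroup.subset_closure ⟨w, rfl⟩)
      refine le_trans (Nat.card_le_card_of_injective (Subgroup.inclusion
        ((Subgroup.closure_le I).2 (Set.range_subset_iff.2 hI))) (Subgroup.inclusion_injective _)) ?_
      omega
    refine hx1 (MulEquiv.ext fun w => ?_)
    have := hI1 w
    rw [hfixN, Subgroup.mem_bot] at this
    rw [MulAut.one_apply, eq_inv_of_mul_eq_one_left this,
      inv_eq_of_mul_eq_one_right (hW2 w)]
  -- the commutator map of `x` on `N`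
  let xH : H := ⟨x, hxH⟩
  have hNcomm : ∀ a b : N, ((a : H) * (b : H)) = (b : H) * (a : H) := fun a b => by
    open scoped IsMulCommutative in exact congrArg Subtype.val (mul_comm a b)
  let c : N →* N :=
    MonoidHom.mk' (fun n => ⟨xH * n * xH⁻¹, hN.normal.conj_mem n n.2 xH⟩ * n⁻¹) fun a b => by
      refine Subtype.ext ?_
      show xH * ((a : H) * b) * xH⁻¹ * ((a : H) * b)⁻¹ =
        xH * (a : H) * xH⁻¹ * (a : H)⁻¹ * (xH * (b : H) * xH⁻¹ * (b : H)⁻¹)
      have h1 := hNcomm (a⁻¹) ⟨xH * b * xH⁻¹ * (b : H)⁻¹,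
        mul_mem (hN.normal.conj_mem b b.2 xH) (inv_mem b.2)⟩
      simp only [Subgroup.coe_inv] at h1
      rw [mul_assoc (xH * (a : H) * xH⁻¹), h1]
      group
  let Y : Subgroup N := c.range
  have hYne : Y ≠ ⊥ := by
    intro hY
    obtain ⟨_, ⟨n, rfl⟩, hn⟩ := hnc
    have h1 : c n ∈ Y := ⟨n, rfl⟩
    rw [hY, Subgroup.mem_bot] at h1
    refine hn ?_
    have h2 : (⟨xH * n * xH⁻¹, hN.normal.conj_mem n n.2 xH⟩ : N) = n := mul_inv_eq_one.1 h1
    exact congrArg (fun t : N => ((t : H) : MulAut W)) h2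
  have hcinj : ∀ y ∈ Y, c y = 1 → y = 1 := by
    rintro _ ⟨m, rfl⟩ h
    set u : H := ((c m : N) : H) with hu
    let γ : MulAut H := MulAut.conj xH
    have h1 : γ u = u := congrArg Subtype.val (mul_inv_eq_one.1 h)
    have h2 : γ m = u * m := by
      show xH * (m : H) * xH⁻¹ = (xH * (m : H) * xH⁻¹ * (m : H)⁻¹) * m
      group
    have h3 : γ (γ (γ m)) = m := by
      have h33 : xH * xH * xH = 1 := by
        refine Subtype.ext ?_
        show x * x * x = 1
        rw [← pow_two, ← pow_succ, hx3]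
      show xH * (xH * (xH * (m : H) * xH⁻¹) * xH⁻¹) * xH⁻¹ = m
      calc _ = xH * xH * xH * (m : H) * (xH * xH * xH)⁻¹ := by group
        _ = m := by rw [h33, one_mul, inv_one, mul_one]
    have h4 : u * (u * u) = 1 := by
      rw [h2, map_mul, h1, h2, map_mul, map_mul, h1, h2] at h3
      refine mul_right_cancel (b := (m : H)) ?_
      rw [one_mul]
      simpa only [mul_assoc] using h3
    have h5 : (c m) ^ 3 = 1 := Subtype.ext (by
      rw [SubgroupClass.coe_pow, pow_succ', pow_two]; exact h4)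
    have h6 : (c m) ^ l = 1 := Subtype.ext (hNl _ (c m).2)
    have := Nat.dvd_gcd (orderOf_dvd_of_pow_eq_one h5) (orderOf_dvd_of_pow_eq_one h6)
    rw [(Nat.coprime_primes Nat.prime_three hl).2 (Ne.symm hl3), Nat.dvd_one] at this
    exact orderOf_eq_one_iff.1 this
  have hYx : ∀ n ∈ Y, (⟨xH * n * xH⁻¹, hN.normal.conj_mem n n.2 xH⟩ : N) ∈ Y := by
    intro n hn
    have h1 : c n * n ∈ Y := mul_mem ⟨n, rfl⟩ hn
    simpa [c] using h1
  haveI : Finite H := inferInstance
  have hcsurj : ∀ z ∈ Y, ∃ y ∈ Y, c y = z := by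
    let cY : Y →* Y := (c.comp Y.subtype).codRestrict Y fun y => ⟨y, rfl⟩
    have hinj : Function.Injective cY := (injective_iff_map_eq_one cY).2 fun y hy =>
      Subtype.ext (hcinj y y.2 (congrArg Subtype.val hy))
    intro z hz
    obtain ⟨y, hy⟩ := (Finite.injective_iff_surjective.1 hinj) ⟨z, hz⟩
    exact ⟨y, y.2, congrArg Subtype.val hy⟩
  let au : N → MulAut W := fun n => ((n : H) : MulAut W)
  let fx : Subgroup N → Subgroup W := fun K => fixBy (au '' K)
  have hanti : ∀ {K K' : Subgroup N}, K ≤ K' → fx K' ≤ fx K := fun h w hw k hk =>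
    hw k (Set.image_mono h hk)
  have haucomm : ∀ a b : N, ∀ w, au a (au b w) = au b (au a w) := fun a b w => by
    open scoped IsMulCommutative in
    exact congrArg (fun t : N => ((t : H) : MulAut W) w) (mul_comm a b)
  obtain ⟨K, ⟨hKY, hK⟩, hKmax⟩ := (Set.toFinite {K : Subgroup N | K ≤ Y ∧ ¬ fx K ≤ fx Y}).exists_maximal
    ⟨⊥, bot_le, fun h => hYne ((Subgroup.eq_bot_iff_forall Y).2 fun y hy =>
      Subtype.ext (Subtype.ext (MulEquiv.ext fun w =>
        (h (show w ∈ fx ⊥ by
          rintro _ ⟨k, hk, rfl⟩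
          rw [SetLike.mem_coe, Subgroup.mem_bot] at hk
          simp [au, hk]) _ ⟨y, hy, rfl⟩))))⟩
  -- the projection onto the fixed points of `Y`
  haveI : Fintype Y := Fintype.ofFinite _
  let P : W → W := fun w => ∏ y : Y, au y w
  have hPmul : ∀ a b, P (a * b) = P a * P b := fun a b => by
    simp [P, Finset.prod_mul_distrib]
  have hauone : au 1 = 1 := rfl
  have haumul : ∀ a b : N, au (a * b) = au a * au b := fun a b => rfl
  have hPfix : ∀ w, P w ∈ fx Y := by
    rintro w _ ⟨y, hy, rfl⟩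
    simp only [P, map_prod]
    refine Fintype.prod_equiv (Equiv.mulLeft (⟨y, hy⟩ : Y)) _ _ fun z => ?_
    rw [Equiv.coe_mulLeft, Subgroup.coe_mul, haumul, MulAut.mul_apply]
  have hYodd : Odd (Fintype.card Y) := by
    have : IsPGroup l Y := fun y => ⟨1, Subtype.ext (Subtype.ext (by
      rw [pow_one]; exact hNl _ (y : N).2))⟩
    obtain ⟨k, hk⟩ := IsPGroup.iff_card.1 this
    rw [← Nat.card_eq_fintype_card, hk]
    exact (hl.odd_of_ne_two hl2).pow
  have hpowodd : ∀ (w : W) (n : ℕ), Odd n → w ^ n = w := fun w n hn => by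
    obtain ⟨k, rfl⟩ := hn
    rw [pow_succ, pow_mul, pow_two, hW2, one_pow, one_mul]
  have hPid : ∀ w ∈ fx Y, P w = w := fun w hw => by
    simp only [P]
    rw [Finset.prod_congr rfl fun (y : Y) _ => hw (au y) ⟨(y : N), y.2, rfl⟩, Finset.prod_const,
      Finset.card_univ]
    exact hpowodd w _ hYodd
  have hPK : ∀ (a : N) w, P (au a w) = au a (P w) := fun a w => by
    simp only [P, map_prod]
    exact Finset.prod_congr rfl fun y _ => haucomm _ _ _
  let S : Subgroup W :=
    { carrier := {w | w ∈ fx K ∧ P w = 1}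
      one_mem' := ⟨one_mem _, by simp [P]⟩
      mul_mem' := fun {a b} ha hb => ⟨mul_mem ha.1 hb.1, by rw [hPmul, ha.2, hb.2, one_mul]⟩
      inv_mem' := fun {a} ha => by
        rw [inv_eq_of_mul_eq_one_right (hW2 a)]; exact ha }
  have hsplit : ∀ w ∈ fx K, w * P w ∈ S := fun w hw =>
    ⟨mul_mem hw (hanti hKY (hPfix w)), by rw [hPmul, hPid _ (hPfix w), hW2]⟩
  have hSY : ∀ s ∈ S, s ∈ fx Y → s = 1 := fun s hs h => by rw [← hPid s h, hs.2]
  have hfree : ∀ z ∈ Y, z ∉ K → ∀ s ∈ S, au z s = s → s = 1 := by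
    intro z hz hzK s hs hzs
    refine hSY s hs ?_
    by_contra hsY
    let st : Subgroup N :=
      { carrier := {n | au n s = s}
        one_mem' := rfl
        mul_mem' := fun {a b} ha hb => by
          show au (a * b) s = s
          rw [haumul, MulAut.mul_apply, hb, ha]
        inv_mem' := fun {a} ha => by
          show (au a)⁻¹ s = s
          conv_lhs => rw [← show au a s = s from ha]
          rw [← MulAut.mul_apply, inv_mul_cancel, MulAut.one_apply] }
    have hle : K ⊔ Subgroup.zpowers z ≤ st :=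
      sup_le (fun k hk => hs.1 _ ⟨k, hk, rfl⟩) ((Subgroup.zpowers_le).2 hzs)
    refine hzK ((hKmax (y := K ⊔ Subgroup.zpowers z) ⟨sup_le hKY ((Subgroup.zpowers_le).2 hz),
      fun h => hsY (h ?_)⟩ le_sup_left) (Subgroup.mem_sup_right (Subgroup.mem_zpowers z)))
    rintro _ ⟨k, hk, rfl⟩
    exact hle hk
  obtain ⟨s₀, hs₀, hs₀1⟩ : ∃ s ∈ S, s ≠ 1 := by
    obtain ⟨w, hw, hwY⟩ := SetLike.not_le_iff_exists.1 hK
    refine ⟨_, hsplit w hw, fun h => hwY ?_⟩
    rw [eq_inv_of_mul_eq_one_left h]
    exact inv_mem (hPfix w)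
  have hKneY : K ≠ Y := fun e => hK (e ▸ le_rfl)
  obtain ⟨z₀, hz₀, hz₀K⟩ := SetLike.exists_of_lt (lt_of_le_of_ne hKY hKneY)
  have hSinv : ∀ n : N, ∀ s ∈ S, au n s ∈ S := fun n s hs => by
    refine ⟨?_, by rw [hPK, hs.2, map_one]⟩
    rintro _ ⟨k, hk, rfl⟩
    rw [haucomm, hs.1 _ ⟨k, hk, rfl⟩]
  -- conjugation by `x`
  let cx : N → N := fun n => ⟨xH * n * xH⁻¹, hN.normal.conj_mem n n.2 xH⟩
  have hcx : ∀ n : N, au (cx n) = x * au n * x⁻¹ := fun n => rfl
  have hcxw : ∀ (n : N) w, au (cx n) (x w) = x (au n w) := fun n w => by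
    rw [hcx, MulAut.mul_apply, MulAut.mul_apply, ← MulAut.mul_apply _ x⁻¹ x, inv_mul_cancel,
      MulAut.one_apply]
  have hxinjS : (∃ s ∈ S, s ≠ 1 ∧ x s = s) ∨ ∀ s ∈ S, x s * s = 1 → s = 1 := by
    by_cases h : ∃ s ∈ S, s ≠ 1 ∧ x s = s
    · exact Or.inl h
    · refine Or.inr fun s hs h1 => ?_
      by_contra h2
      exact h ⟨s, hs, h2, by rw [eq_inv_of_mul_eq_one_left h1,
        inv_eq_of_mul_eq_one_right (hW2 s)]⟩
  have hSle : ∀ T : Subgroup W, T ≤ S → (∀ s ∈ T, x s * s = 1 → s = 1) → Nat.card T ≤ 4 := by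
    intro T _ hT
    refine le_trans (Nat.card_le_card_of_injective (fun s : T => (⟨x s * s, hI s⟩ : I)) ?_) hI4
    intro a b e
    have e' : x a * a = x b * b := congrArg Subtype.val e
    have h1 := hT _ (mul_mem a.2 b.2) (by
      rw [map_mul, mul_mul_mul_comm, e', hW2])
    exact Subtype.ext (by
      calc (a : W) = a * ((b : W) * b) := by rw [hW2, mul_one]
        _ = b := by rw [← mul_assoc, h1, one_mul])
  have hxK : ∀ k ∈ K, cx k ∈ K := by
    intro k hk
    by_contra hk'
    have hxfix : ∀ s ∈ S, x s * s = 1 → s = 1 := fun s hs h => by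
      have hxs : x s = s := by rw [eq_inv_of_mul_eq_one_left h, inv_eq_of_mul_eq_one_right (hW2 s)]
      refine hfree (cx k) (hYx k (hKY hk)) hk' s hs ?_
      conv_lhs => rw [← hxs]
      rw [hcxw, hs.1 _ ⟨k, hk, rfl⟩, hxs]
    have h4 := hSle S le_rfl hxfix
    exact hs₀1 (hfree z₀ hz₀ hz₀K s₀ hs₀
      (fix_of_small S hl (hNpow _ ⟨z₀, rfl⟩) (hSinv z₀) (by omega) s₀ hs₀))
  have hcxbij : ∀ (T : Subgroup N), (∀ n ∈ T, cx n ∈ T) → ∀ m ∈ T, ∃ n ∈ T, cx n = m := by
    intro T hT m hm
    have hinj : Function.Injective (fun n : T => (⟨cx n, hT n n.2⟩ : T)) := fun a b e => by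
      have : xH * ((a : N) : H) * xH⁻¹ = xH * ((b : N) : H) * xH⁻¹ :=
        congrArg (fun t : T => ((t : N) : H)) e
      simpa using this
    obtain ⟨n, hn⟩ := (Finite.injective_iff_surjective.1 hinj) ⟨m, hm⟩
    exact ⟨n, n.2, congrArg Subtype.val hn⟩
  have hxS : ∀ s ∈ S, x s ∈ S := fun s hs => by
    refine ⟨?_, ?_⟩
    · rintro _ ⟨k, hk, rfl⟩
      obtain ⟨k', hk', rfl⟩ := hcxbij K hxK k hk
      rw [hcxw, hs.1 _ ⟨k', hk', rfl⟩]
    · have hinj : Function.Injective (fun n : Y => (⟨cx n, hYx n n.2⟩ : Y)) := fun a b e => by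
        have : xH * ((a : N) : H) * xH⁻¹ = xH * ((b : N) : H) * xH⁻¹ :=
          congrArg (fun t : Y => ((t : N) : H)) e
        simpa using this
      have : P (x s) = x (P s) := by
        simp only [P, map_prod]
        symm
        refine Fintype.prod_bijective _ (Finite.injective_iff_bijective.1 hinj) _ _ fun y => ?_
        exact (hcxw _ s).symm
      rw [this, hs.2, map_one]
  have hxxx : ∀ w : W, x (x (x w)) = w := fun w => by
    have := congrArg (fun t : MulAut W => t w) hx3
    simpa [pow_succ, MulAut.mul_apply] using this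
  -- the fixed points in `S`
  let Sx : Subgroup W := S ⊓ fixBy {x}
  have hSx : ∀ s, s ∈ Sx ↔ s ∈ S ∧ x s = s := fun s => by
    simp [Sx, mem_fixBy]
  obtain ⟨y₀, hy₀, hcy⟩ := hcsurj z₀ hz₀
  have hmeet : ∀ a ∈ Sx, au y₀ a ∈ Sx → a = 1 := by
    intro a ha hb
    obtain ⟨haS, hax⟩ := (hSx a).1 ha
    obtain ⟨-, hbx⟩ := (hSx _).1 hb
    refine hfree z₀ hz₀ hz₀K a haS ?_
    rw [← hcy, show c y₀ = cx y₀ * y₀⁻¹ from rfl, haumul, MulAut.mul_apply]
    have h1 : au (cx y₀) a = au y₀ a := by
      conv_lhs => rw [← hax]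
      rw [hcxw, hbx]
    have h2 : au y₀⁻¹ a = au (y₀⁻¹) a := rfl
    rw [haucomm, h1, ← MulAut.mul_apply, ← haumul, inv_mul_cancel, hauone, MulAut.one_apply]
  have hsq : Nat.card Sx * Nat.card Sx ≤ Nat.card S := by
    rw [← Nat.card_prod]
    refine Nat.card_le_card_of_injective
      (fun t : Sx × Sx => (⟨(t.1 : W) * au y₀ t.2, mul_mem t.1.2.1 (hSinv y₀ _ t.2.2.1)⟩ : S)) ?_
    rintro ⟨a, b⟩ ⟨a', b'⟩ e
    have e' : (a : W) * au y₀ b = a' * au y₀ b' := congrArg Subtype.val e
    have h1 : au y₀ ((b : W) * b') = (a : W) * a' := by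
      rw [map_mul]
      calc au y₀ b * au y₀ b'
          = ((a : W) * a) * au y₀ b * au y₀ b' := by rw [hW2, one_mul]
        _ = a * a' * (au y₀ b' * au y₀ b') := by rw [mul_assoc (a : W) a, e']; simp only [mul_assoc]
        _ = a * a' := by rw [hW2, mul_one]
    have h2 := hmeet _ (mul_mem b.2 b'.2) (h1 ▸ mul_mem a.2 a'.2)
    have hbb : (b : W) = b' := by rw [eq_inv_of_mul_eq_one_left h2, inv_eq_of_mul_eq_one_right (hW2 _)]
    rw [hbb] at e'
    exact Prod.ext (Subtype.ext (mul_right_cancel e')) (Subtype.ext hbb)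
  have hSle16 : Nat.card S ≤ Nat.card Sx * 4 := by
    let D : S →* I :=
      { toFun := fun s => ⟨x s * s, hI s⟩
        map_one' := Subtype.ext (by simp)
        map_mul' := fun a b => Subtype.ext (by
          show x ((a : W) * b) * ((a : W) * b) = _
          rw [map_mul]; exact mul_mul_mul_comm _ _ _ _) }
    rw [← Subgroup.card_mul_index D.ker, Subgroup.index_ker]
    refine Nat.mul_le_mul (Nat.card_le_card_of_injective (fun s : D.ker =>
      (⟨((s : S) : W), (hSx _).2 ⟨s.1.2, ?_⟩⟩ : Sx)) fun a b e => Subtype.ext (Subtype.ext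
        (congrArg (fun t : Sx => (t : W)) e))) (le_trans (Subgroup.card_le_card_group _) hI4)
    have : x ((s : S) : W) * ((s : S) : W) = 1 := congrArg Subtype.val s.2
    rw [eq_inv_of_mul_eq_one_left this, inv_eq_of_mul_eq_one_right (hW2 _)]
  have hS16 : Nat.card S ≤ 16 := by
    have : Nat.card Sx * Nat.card Sx ≤ Nat.card Sx * 4 := hsq.trans hSle16
    have := Nat.le_of_mul_le_mul_left this Nat.card_pos
    nlinarith
  -- the order of the acting quotient
  let r : Y →* MulAut S :=
    { toFun := fun y =>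
        { toFun := fun s => ⟨au y s, hSinv _ _ s.2⟩
          invFun := fun s => ⟨au (y : N)⁻¹ s, hSinv _ _ s.2⟩
          left_inv := fun s => Subtype.ext (by
            show au (y : N)⁻¹ (au y s) = s
            rw [← MulAut.mul_apply, ← haumul, inv_mul_cancel, hauone, MulAut.one_apply])
          right_inv := fun s => Subtype.ext (by
            show au y (au (y : N)⁻¹ s) = s
            rw [← MulAut.mul_apply, ← haumul, mul_inv_cancel, hauone, MulAut.one_apply])
          map_mul' := fun a b => Subtype.ext (map_mul (au y) (a : W) b) }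
      map_one' := MulEquiv.ext fun s => Subtype.ext rfl
      map_mul' := fun a b => MulEquiv.ext fun s => Subtype.ext rfl }
  have hrK : ∀ y : Y, r y ≠ 1 → (y : N) ∉ K := fun y h hk => h (MulEquiv.ext fun s =>
    Subtype.ext (s.2.1 _ ⟨y, hk, rfl⟩))
  have hdvd : Nat.card r.range ∣ Nat.card S - 1 := by
    refine CharNoDiv.card_dvd_pred (o := (1 : S)) (fun u s => (u : MulAut S) s) (fun s => rfl)
      (fun u v s => rfl) (fun u => map_one (u : MulAut S)) ?_
    rintro ⟨_, y, rfl⟩ s hs h
    by_contra hne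
    exact hs (Subtype.ext (hfree y y.2 (hrK y fun e => hne (Subtype.ext e)) s s.2
      (congrArg Subtype.val h)))
  have hz₀r : r ⟨z₀, hz₀⟩ ≠ 1 := fun h => hs₀1 (hfree z₀ hz₀ hz₀K s₀ hs₀
    (congrArg (fun t : MulAut S => ((t ⟨s₀, hs₀⟩ : S) : W)) h))
  have hrp : IsPGroup l r.range := by
    rintro ⟨_, y, rfl⟩
    refine ⟨1, Subtype.ext ?_⟩
    show r y ^ l ^ 1 = 1
    rw [pow_one, ← map_pow, show y ^ l = 1 from Subtype.ext (Subtype.ext (hNl _ (y : N).2)), map_one]
  obtain ⟨k, hk⟩ := IsPGroup.iff_card.1 hrp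
  have hk0 : k ≠ 0 := by
    rintro rfl
    have := (Nat.card_eq_one_iff_unique.1 (hk.trans (pow_zero l))).1
    exact hz₀r (congrArg Subtype.val (Subsingleton.elim (⟨_, ⟨z₀, hz₀⟩, rfl⟩ : r.range) 1))
  obtain ⟨d, hd⟩ : ∃ d, Nat.card S = 2 ^ d := by
    refine IsPGroup.iff_card.1 fun s => ⟨1, Subtype.ext ?_⟩
    rw [pow_one, SubgroupClass.coe_pow, pow_two, hW2]
    rfl
  have hd4 : d ≤ 4 := by
    by_contra h
    have := Nat.pow_le_pow_right (show 2 ≥ 1 by norm_num) (show 5 ≤ d by omega)
    omega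
  have hd0 : d ≠ 0 := by
    rintro rfl
    have := (Nat.card_eq_one_iff_unique.1 (hd.trans (pow_zero 2))).1
    exact hs₀1 (congrArg Subtype.val (Subsingleton.elim (⟨s₀, hs₀⟩ : S) 1))
  have hlk : l ^ k ∣ 2 ^ d - 1 := hd ▸ hk ▸ hdvd
  have hkl : k = 1 ∧ (l = 5 ∧ d = 4 ∨ l = 7 ∧ d = 3) := by
    have hl1 : l ∣ 2 ^ d - 1 := (dvd_pow_self l hk0).trans hlk
    have hk1 : ∀ m : ℕ, l ^ k ∣ m → 0 < m → m < l * l → k = 1 := fun m hm hm0 hlt => by
      by_contra h
      have := Nat.le_of_dvd hm0 ((pow_dvd_pow l (show 2 ≤ k by omega)).trans hm)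
      rw [pow_two] at this
      omega
    have hll : 25 ≤ l * l := Nat.mul_le_mul hl5 hl5
    have hle := Nat.le_of_dvd (by
      have := Nat.pow_le_pow_right (show 2 ≥ 1 by norm_num) (show 1 ≤ d by omega)
      omega) hl1
    have h7 : Nat.Prime 7 := by norm_num
    have h5 : Nat.Prime 5 := by norm_num
    have h3 : Nat.Prime 3 := by norm_num
    obtain rfl | rfl | rfl | rfl : d = 1 ∨ d = 2 ∨ d = 3 ∨ d = 4 := by omega
    · simp at hle; omega
    · simp at hle; omega
    · exact ⟨hk1 7 hlk (by norm_num) (by omega),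
        Or.inr ⟨(Nat.prime_dvd_prime_iff_eq hl h7).1 hl1, rfl⟩⟩
    · refine ⟨hk1 15 hlk (by norm_num) (by omega), Or.inl ⟨?_, rfl⟩⟩
      rcases hl.dvd_mul.1 (show l ∣ 3 * 5 from hl1) with h | h
      · have := (Nat.prime_dvd_prime_iff_eq hl h3).1 h; omega
      · exact (Nat.prime_dvd_prime_iff_eq hl h5).1 h
  obtain ⟨rfl, hcase⟩ := hkl
  rw [pow_one] at hk
  rcases hcase with ⟨rfl, -⟩ | ⟨rfl, rfl⟩
  · -- the quotient of order five is centralised by `x`
    have hgen : ∀ y : Y, ∃ i : ℕ, r y = r ⟨y₀, hy₀⟩ ^ i := by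
      intro y
      have hy₀r : r ⟨y₀, hy₀⟩ ≠ 1 := by
        intro h
        have hmemK : (y₀ : N) ∈ K := by
          by_contra hn
          exact hs₀1 (hfree y₀ hy₀ hn s₀ hs₀
            (congrArg (fun t : MulAut S => ((t ⟨s₀, hs₀⟩ : S) : W)) h))
        refine hz₀K (hcy ▸ ?_)
        show cx y₀ * y₀⁻¹ ∈ K
        exact mul_mem (hxK _ hmemK) (inv_mem hmemK)
      haveI : Fact (Nat.card r.range).Prime := ⟨hk ▸ hl⟩
      have htop := (Subgroup.eq_bot_or_eq_top_of_prime_card
        (Subgroup.zpowers (⟨_, ⟨y₀, hy₀⟩, rfl⟩ : r.range))).resolve_left fun h =>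
          hy₀r (congrArg Subtype.val (Subgroup.zpowers_eq_bot.1 h))
      obtain ⟨i, hi⟩ := (mem_zpowers_iff_mem_range_orderOf.1
        (htop ▸ Subgroup.mem_top (⟨_, y, rfl⟩ : r.range))) |> Finset.mem_image.1
      exact ⟨i, (congrArg Subtype.val hi.2).symm⟩
    obtain ⟨i, hi⟩ := hgen ⟨cx y₀, hYx y₀ hy₀⟩
    let xS : MulAut S :=
      { toFun := fun s => ⟨x s, hxS _ s.2⟩
        invFun := fun s => ⟨x (x s), hxS _ (hxS _ s.2)⟩
        left_inv := fun s => Subtype.ext (by
          show x (x (x s)) = s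
          exact hxxx s)
        right_inv := fun s => Subtype.ext (by
          show x (x (x s)) = s
          exact hxxx s)
        map_mul' := fun a b => Subtype.ext (map_mul x (a : W) b) }
    have hrx : ∀ y : Y, r ⟨cx y, hYx y y.2⟩ = xS * r y * xS⁻¹ := fun y => by
      rw [eq_mul_inv_iff_mul_eq]
      exact MulEquiv.ext fun s => Subtype.ext (hcxw _ _)
    set g := r ⟨y₀, hy₀⟩ with hg
    have h1 : xS * g * xS⁻¹ = g ^ i := (hrx _).symm.trans hi
    have hxS3 : xS ^ 3 = 1 := MulEquiv.ext fun s => Subtype.ext (by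
      show (x (x (x s)) : W) = s
      exact hxxx s)
    have h2 : g ^ (i ^ 3) = g := by
      let γ : MulAut (MulAut S) := MulAut.conj xS
      have hγ : γ g = g ^ i := h1
      have hγ3 : γ (γ (γ g)) = g := by
        have e := congrArg (fun t => t * g * t⁻¹) hxS3
        simp only [one_mul, inv_one, mul_one] at e
        refine Eq.trans ?_ e
        show xS * (xS * (xS * g * xS⁻¹) * xS⁻¹) * xS⁻¹ = xS ^ 3 * g * (xS ^ 3)⁻¹
        simp only [pow_succ, pow_zero, one_mul, mul_inv_rev, mul_assoc]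
      rw [hγ, map_pow, hγ, map_pow, map_pow, hγ, ← pow_mul, ← pow_mul] at hγ3
      rw [pow_succ, pow_two]
      convert hγ3 using 2
      ring
    have hg1 : g ≠ 1 := fun h => by
      have : xS * g * xS⁻¹ * g⁻¹ = 1 := by rw [h]; group
      rw [← hrx, ← map_inv, ← map_mul] at this
      exact hz₀r (by convert this using 2; exact Subtype.ext hcy.symm)
    have hg5 : g ^ 5 = 1 := by
      rw [hg, ← map_pow, show (⟨y₀, hy₀⟩ : Y) ^ 5 = 1 from
        Subtype.ext (Subtype.ext (hNl _ y₀.2)), map_one]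
    have hord : orderOf g = 5 := orderOf_eq_prime (p := 5) hg5 hg1
    have h3 : i ^ 3 % 5 = 1 := by
      have := pow_eq_pow_iff_modEq.1 (h2.trans (pow_one g).symm)
      rw [hord] at this
      exact this
    have h4 : i % 5 = 1 := by
      rw [Nat.pow_mod] at h3
      have : i % 5 < 5 := Nat.mod_lt _ (by norm_num)
      have key : ∀ j : ℕ, j < 5 → j ^ 3 % 5 = 1 → j = 1 := by decide
      exact key _ this h3
    have h5 : xS * g * xS⁻¹ * g⁻¹ = 1 := by
      rw [h1, pow_eq_pow_mod i hg5, h4, pow_one, mul_inv_cancel]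
    rw [← hrx, ← map_inv, ← map_mul] at h5
    exact hz₀r (by convert h5 using 2; exact Subtype.ext hcy.symm)
  · -- order eight is not a non-degenerate pairing
    have hfS : ∀ s ∈ S, (∀ t ∈ S, f s t = 1) → s = 1 := by
      intro s hs hst
      have hf1 : ∀ a, f a 1 = 1 := fun a => by
        have := hright a 1 1
        rw [one_mul] at this
        exact left_eq_mul.1 this
      have hsq1 : ∀ a b, f a b ^ 2 = 1 := fun a b => by
        rcases hval a b with h | h <;> rw [h, pow_two]
        · rw [one_mul]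
        · exact hε
      have hodd1 : ∀ a b n, Odd n → f a b ^ n = f a b := fun a b n hn => by
        obtain ⟨j, rfl⟩ := hn
        rw [pow_succ, pow_mul, hsq1, one_pow, one_mul]
      have hfn : ∀ (a b : W) (n : ℕ), f a (b ^ n) = f a b ^ n := fun a b n => by
        induction n with
        | zero => rw [pow_zero, pow_zero, hf1]
        | succ n ih => rw [pow_succ, pow_succ, hright, ih]
      refine hnd s fun w => ?_
      haveI : Fintype K := Fintype.ofFinite _
      have hKodd : Odd (Fintype.card K) := by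
        obtain ⟨j, hj⟩ := IsPGroup.iff_card.1 (show IsPGroup 7 K from
          fun y => ⟨1, Subtype.ext (Subtype.ext (by rw [pow_one]; exact hNl _ (y : N).2))⟩)
        rw [← Nat.card_eq_fintype_card, hj]
        exact (show Odd 7 by decide).pow
      let w' : W := ∏ k : K, au k w
      have hw'K : w' ∈ fx K := by
        rintro _ ⟨y, hy, rfl⟩
        simp only [w', map_prod]
        refine Fintype.prod_equiv (Equiv.mulLeft (⟨y, hy⟩ : K)) _ _ fun z => ?_
        rw [Equiv.coe_mulLeft, Subgroup.coe_mul, haumul, MulAut.mul_apply]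
      have hauH : ∀ n : N, au n ∈ H := fun n => (n : H).2
      have hprod : ∀ {T : Type u} [Fintype T] (a : W) (g : T → W) (v : C),
          (∀ t, f a (g t) = v) → f a (∏ t, g t) = v ^ Fintype.card T := by
        intro T _ a g v hg
        have hstep : ∀ F : Finset T, f a (∏ t ∈ F, g t) = v ^ F.card := fun F => by
          induction F using Finset.induction with
          | empty => rw [Finset.prod_empty, hf1, Finset.card_empty, pow_zero]
          | insert t F ht ih =>
            rw [Finset.prod_insert ht, hright, ih, hg, Finset.card_insert_of_notMem ht, pow_succ']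
        exact hstep Finset.univ
      have hfw : f s w' = f s w := by
        rw [hprod s _ (f s w) fun k => ?_, hodd1 _ _ _ hKodd]
        conv_lhs => rw [← hs.1 _ ⟨k, k.2, rfl⟩]
        exact hinvf _ (hauH _) _ _
      have hsFix : f s (P w') = 1 := by
        have hc := hPfix w'
        have hkey : f (P s) (P w') = f s (P w') ^ Fintype.card Y := by
          have hone : f 1 (P w') = 1 := by
            have := hleft 1 1 (P w')
            rw [one_mul] at this
            exact left_eq_mul.1 this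
          have hstep : ∀ F : Finset Y, f (∏ y ∈ F, au y s) (P w') = f s (P w') ^ F.card := fun F => by
            induction F using Finset.induction with
            | empty => rw [Finset.prod_empty, hone, Finset.card_empty, pow_zero]
            | insert t F ht ih =>
              rw [Finset.prod_insert ht, hleft, ih, Finset.card_insert_of_notMem ht, pow_succ']
              congr 1
              conv_lhs => rw [← hc (au (t : N)) ⟨(t : N), t.2, rfl⟩]
              exact hinvf _ (hauH _) _ _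
          exact hstep Finset.univ
        rw [hs.2, hodd1 _ _ _ hYodd] at hkey
        rw [← hkey]
        have := hleft 1 1 (P w')
        rw [one_mul] at this
        exact left_eq_mul.1 this
      rw [← hfw, show w' = P w' * (w' * P w') by
        rw [mul_comm w' (P w'), ← mul_assoc, hW2, one_mul], hright, hsFix,
        hst _ (hsplit w' hw'K), one_mul]
    exact no_pairing_eight (S := S) hd (fun s => Subtype.ext (hW2 s)) (fun a b => f a b) ε
      (fun a b => hval a b) hε (fun a a' b => hleft a a' b) (fun a b b' => hright a b b')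
      (fun a => halt a) fun a h => Subtype.ext (hfS a a.2 fun t ht => h ⟨t, ht⟩)

end Cfsg.Agent.Palfy
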