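import Mathlib
import Cfsg.Agent.Palfy.Central
import Cfsg.Agent.Palfy.Reflect

/-!
# Two primes with spreading Sylow subgroups give a character degree divisible by both
-/

set_option autoImplicit false
set_option linter.style.haveILetI false

namespace Cfsg.Agent.Palfy

open Cfsg.Agent.Char

universe u

/-- A cyclic group has an injective linear character. -/
theorem exists_injective_hom {U : Type u} [Group U] [Finite U] (hU : IsCyclic U) :
    ∃ l : U →* ℂˣ, Function.Injective l := by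
  obtain ⟨g, hg⟩ := hU.exists_generator
  set n := Nat.card U with hn
  have hn0 : n ≠ 0 := Nat.card_pos.ne'
  have hord : orderOf g = n := orderOf_eq_card_of_forall_mem_zpowers hg
  have hp := Complex.isPrimitiveRoot_exp n hn0
  let ζ : ℂˣ := Units.mk0 _ (hp.ne_zero hn0)
  have hζo : orderOf ζ = n := by
    rw [← orderOf_units]
    exact hp.eq_orderOf.symm
  refine ⟨monoidHomOfForallMemZpowers hg (g' := ζ) (by rw [hζo, hord]),
    (injective_iff_map_eq_one _).2 fun x hx => ?_⟩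
  obtain ⟨i, rfl⟩ := Subgroup.mem_zpowers_iff.1 (hg x)
  rw [map_zpow, monoidHomOfForallMemZpowers_apply_gen, ← orderOf_dvd_iff_zpow_eq_one, hζo] at hx
  rw [← orderOf_dvd_iff_zpow_eq_one, hord]
  exact hx

variable {H : Type u} [Group H] [Finite H] {V : Type u} [CommGroup V] [Finite V]
variable {φ : H →* MulAut V} {U E A : Subgroup H} {S : Sylow 3 H} {x g : H}

/-- Elements fixing a linear character which is faithful up to a square centralise `U`. -/
theorem centralise_of_fourth (h : Ctx φ 3 2 U E) {z : H} (hz : z ∈ U) (hz2 : z ^ 2 = 1)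
    (hz1 : z ≠ 1) (hzn : ∀ u ∈ U, u ^ 2 ≠ z) {y : H}
    (hy : ∀ u ∈ U, (y * u * y⁻¹) ^ 4 = u ^ 4) : ∀ u ∈ U, y * u * y⁻¹ = u := by
  haveI := h.normU
  haveI := h.cyc
  letI : CommGroup U := IsCyclic.commGroup
  have hroot : ∀ w ∈ U, w ^ 2 = 1 → w = 1 ∨ w = z := fun w hw hw2 => by
    obtain ⟨i, rfl⟩ := h.mem_zpowers_z hz hz2 hz1 hw hw2
    rcases Nat.even_or_odd i with ⟨j, rfl⟩ | ⟨j, rfl⟩
    · exact Or.inl (by rw [← two_mul, pow_mul, hz2, one_pow])
    · exact Or.inr (by rw [pow_succ, pow_mul, hz2, one_pow, one_mul])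
  have hyU : ∀ u ∈ U, y * u * y⁻¹ ∈ U := fun u hu => h.normU.conj_mem u hu y
  have hcomm : ∀ u ∈ U, ∀ v ∈ U, Commute u v := fun u hu v hv => h.central u hu v (h.le hv)
  have hsqfix : ∀ v ∈ U, y * v ^ 2 * y⁻¹ = v ^ 2 := by
    intro v hv
    rw [← conj_pow]
    set w := y * v * y⁻¹ * v⁻¹ with hw
    have hwU : w ∈ U := mul_mem (hyU v hv) (inv_mem hv)
    have hyv : y * v * y⁻¹ = w * v := by rw [hw, inv_mul_cancel_right]
    have hw4 : w ^ 4 = 1 := by
      have h1 := hy v hv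
      rw [hyv, (hcomm w hwU v hv).mul_pow] at h1
      exact right_eq_mul.1 h1.symm
    have hw2 : w ^ 2 = 1 := by
      rcases hroot (w ^ 2) (pow_mem hwU 2) (by rw [← pow_mul]; exact hw4) with h1 | h1
      · exact h1
      · exact absurd h1 (hzn w hwU)
    rw [hyv, (hcomm w hwU v hv).mul_pow, hw2, one_mul]
  have hyz : y * z * y⁻¹ = z := by
    refine (hroot _ (hyU z hz) (by rw [conj_pow, hz2, mul_one, mul_inv_cancel])).resolve_left
      fun e => hz1 ?_
    rwa [mul_inv_eq_one, mul_eq_left] at e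
  intro u hu
  -- every element is a square or `z` times a square
  let Us : Subgroup U := (powMonoidHom 2 : U →* U).range
  have hidx : Us.index ≤ 2 := by
    have h1 := Subgroup.card_mul_index Us
    have h2 := Subgroup.card_mul_index (powMonoidHom 2 : U →* U).ker
    rw [Subgroup.index_ker] at h2
    have hk : Nat.card (powMonoidHom 2 : U →* U).ker ≤ 2 := h.card_root_le
    nlinarith [Nat.card_pos (α := Us)]
  have hzUs : (⟨z, hz⟩ : U) ∉ Us := fun ⟨w, hw⟩ => hzn w w.2 (congrArg Subtype.val hw)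
  by_cases huUs : (⟨u, hu⟩ : U) ∈ Us
  · obtain ⟨v, hv⟩ := huUs
    have hv' : (v : H) ^ 2 = u := congrArg Subtype.val hv
    rw [← hv']
    exact hsqfix v v.2
  · have hne1 : Us.index ≠ 1 := fun h1 => hzUs (Subgroup.index_eq_one.1 h1 ▸ Subgroup.mem_top _)
    have hne0 : Us.index ≠ 0 := Subgroup.index_ne_zero_of_finite
    obtain ⟨v, hv⟩ := (Subgroup.mul_mem_iff_of_index_two (by omega) (a := (⟨z, hz⟩ : U))
      (b := ⟨u, hu⟩)).2 (iff_of_false hzUs huUs)
    have hv' : (v : H) ^ 2 = z * u := congrArg Subtype.val hv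
    have hu' : u = z * (v : H) ^ 2 := by rw [hv', ← mul_assoc, ← pow_two, hz2, one_mul]
    rw [hu', ← conj_mul, hyz, hsqfix v v.2]

/-- The exceptional configuration without elements of order two outside `U`. -/
theorem exc_bot (h : Ctx φ 3 2 U E) (he : Exc φ 2 U E A S x g) (hA : A = ⊥) {b : ℕ}
    (hb : b.Prime) (hb3 : b ≠ 3) (hbi : b ∣ (Subgroup.centralizer (U : Set H)).index) :
    DvdDeg (3 * b) H := by
  classical
  haveI := h.normU
  haveI := h.normE
  haveI := h.cyc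
  obtain ⟨z, hz, hz2, hz1, hzn⟩ := he.z
  obtain ⟨l, hl⟩ := exists_injective_hom h.cyc
  have hAU : A ⊔ U = U := by rw [hA, bot_sup_eq]
  let L0 : E →* ℂˣ := MonoidHom.mk' (fun e => l ⟨(e : H) ^ 2, h.powU e e.2⟩ ^ 2) fun e f => by
    have hc := h.comm f f.2 e e.2
    have he2 : (⟨((e * f : E) : H) ^ 2, h.powU _ (e * f).2⟩ : U) =
        ⟨(e : H) ^ 2, h.powU e e.2⟩ * ⟨(f : H) ^ 2, h.powU f f.2⟩ *
          ⟨(f : H) * e * (f : H)⁻¹ * (e : H)⁻¹, hc⟩ := Subtype.ext (by
      show ((e : H) * f) ^ 2 = _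
      rw [h.mul_pow2 e.2 f.2, Nat.choose_self, pow_one]
      rfl)
    have hc2 : l ⟨(f : H) * e * (f : H)⁻¹ * (e : H)⁻¹, hc⟩ ^ 2 = 1 := by
      rw [← map_pow, ← map_one l]
      exact congrArg l (Subtype.ext (h.comm_pow f.2 e.2))
    rw [he2, map_mul, map_mul, mul_pow, mul_pow, hc2, mul_one]
  -- a non-trivial character trivial on `U`
  let U' := U.subgroupOf E
  letI : CommGroup (E ⧸ U') :=
    { (inferInstance : Group (E ⧸ U')) with
      mul_comm := fun p q => Quotient.inductionOn₂' p q fun e f => by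
        refine QuotientGroup.eq.2 ?_
        show (((e * f : E) : H))⁻¹ * ((f * e : E) : H) ∈ U
        push_cast
        rw [show ((e : H) * f)⁻¹ * (f * e) = (f : H)⁻¹ * (e : H)⁻¹ * (f : H)⁻¹⁻¹ * (e : H)⁻¹⁻¹ by
          group]
        exact h.comm _ (inv_mem f.2) _ (inv_mem e.2) }
  obtain ⟨e₀, he₀, he₀U⟩ := SetLike.exists_of_lt (lt_of_le_of_ne h.le (Ne.symm h.ne))
  obtain ⟨μ, hμ⟩ := CommGroup.exists_apply_ne_one_of_hasEnoughRootsOfUnity (E ⧸ U') ℂ
    (a := ((⟨e₀, he₀⟩ : E) : E ⧸ U')) fun e =>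
      he₀U ((QuotientGroup.eq_one_iff (⟨e₀, he₀⟩ : E)).1 e)
  let m : E →* ℂˣ := μ.comp (QuotientGroup.mk' U')
  have hmU : ∀ u : E, (u : H) ∈ U → m u = 1 := fun u hu => by
    show μ (QuotientGroup.mk' U' u) = 1
    rw [QuotientGroup.mk'_apply, (QuotientGroup.eq_one_iff u).2 hu, map_one]
  let L : E →* ℂˣ := MonoidHom.mk' (fun e => L0 e * m e) fun e f => by
    rw [map_mul, map_mul]; exact mul_mul_mul_comm _ _ _ _
  set I := inertia (RelDeg.lf E L) with hI
  have hfix : ∀ y ∈ I, ∀ e : E, L ⟨y * e * y⁻¹, h.normE.conj_mem e e.2 y⟩ = L e := fun y hy e =>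
    Units.ext (congrFun (mem_inertia.1 hy) e)
  have hIC : I ≤ Subgroup.centralizer (U : Set H) := by
    intro y hy u hu
    have key : ∀ w ∈ U, (y * w * y⁻¹) ^ 4 = w ^ 4 := by
      intro w hw
      have hw' : y * w * y⁻¹ ∈ U := h.normU.conj_mem w hw y
      have h1 := hfix y hy ⟨w, h.le hw⟩
      change L0 _ * m _ = L0 _ * m _ at h1
      rw [hmU ⟨w, h.le hw⟩ hw, hmU ⟨_, h.normE.conj_mem w (h.le hw) y⟩ hw', mul_one, mul_one] at h1
      change l _ ^ 2 = l _ ^ 2 at h1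
      rw [← map_pow, ← map_pow] at h1
      have h2 := congrArg (fun t : U => (t : H)) (hl h1)
      simp only [SubgroupClass.coe_pow] at h2
      rw [← pow_mul, ← pow_mul] at h2
      exact h2
    exact (mul_inv_eq_iff_eq_mul.1 (centralise_of_fourth h hz hz2 hz1 hzn key u hu)).symm
  have h3 : 3 ∣ I.index := by
    by_contra hn
    obtain ⟨T⟩ : Nonempty (Sylow 3 I) := inferInstance
    have hTi : ¬ 3 ∣ ((T : Subgroup I).map I.subtype).index := by
      rw [Subgroup.index_map_subtype]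
      exact fun hd => ((Nat.prime_three.dvd_mul).1 hd).elim T.not_dvd_index hn
    haveI : Fact (Nat.Prime 3) := ⟨Nat.prime_three⟩
    obtain ⟨y, hy⟩ := MulAction.exists_smul_eq H S ((T.isPGroup'.map I.subtype).toSylow hTi)
    have hx' : y * x * y⁻¹ ∈ ((y • S : Sylow 3 H) : Subgroup H) := by
      rw [Sylow.coe_subgroup_smul]
      exact ⟨x, he.x_mem, rfl⟩
    rw [hy] at hx'
    obtain ⟨⟨w, hwI⟩, -, hwx⟩ := hx'
    set x' := y * x * y⁻¹ with hx'def
    have hwx' : w = x' := hwx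
    subst hwx'
    obtain ⟨k, hk⟩ := S.isPGroup' ⟨x, he.x_mem⟩
    have hx'pow : ∃ k : ℕ, x' ^ 3 ^ k = 1 := ⟨k, by
      rw [hx'def, conj_pow, show x ^ 3 ^ k = 1 by simpa using congrArg Subtype.val hk, mul_one,
        mul_inv_cancel]⟩
    -- `m` is fixed
    have hm : ∀ e : E, m ⟨x' * e * x'⁻¹, h.normE.conj_mem e e.2 x'⟩ = m e := by
      intro e
      have h1 := hfix x' hwI e
      change L0 _ * m _ = L0 _ * m _ at h1
      have h2 : L0 ⟨x' * e * x'⁻¹, h.normE.conj_mem e e.2 x'⟩ = L0 e := by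
        show l _ ^ 2 = l _ ^ 2
        congr 2
        refine Subtype.ext ?_
        show (x' * (e : H) * x'⁻¹) ^ 2 = (e : H) ^ 2
        rw [conj_pow]
        exact mul_inv_eq_iff_eq_mul.2 (h.act x' hx'pow _ (h.powU e e.2))
      rw [h2] at h1
      exact mul_left_cancel h1
    have hcj : ∀ w ∈ E, y * w * y⁻¹ ∈ E := fun w hw => h.normE.conj_mem w hw y
    have hgx : x * g * x⁻¹ ∈ E := h.normE.conj_mem g he.g_mem x
    have hgxx : x * (x * g * x⁻¹) * x⁻¹ ∈ E := h.normE.conj_mem _ hgx x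
    let my : (w : H) → w ∈ E → ℂˣ := fun w hw => m ⟨y * w * y⁻¹, hcj w hw⟩
    have hmy : ∀ (v w : H) (hv : v ∈ E) (hw : w ∈ E), my (v * w) (mul_mem hv hw) = my v hv * my w hw :=
      fun v w hv hw => by
        show m _ = m _ * m _
        rw [← map_mul]
        exact congrArg m (Subtype.ext (by show y * (v * w) * y⁻¹ = y * v * y⁻¹ * (y * w * y⁻¹); group))
    have hmyU : ∀ (v : H) (hv : v ∈ E), v ∈ U → my v hv = 1 := fun v hv hvU =>
      hmU _ (h.normU.conj_mem v hvU y)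
    have hmyx : ∀ (v : H) (hv : v ∈ E), my (x * v * x⁻¹) (h.normE.conj_mem v hv x) = my v hv := by
      intro v hv
      refine Eq.trans ?_ (hm ⟨y * v * y⁻¹, hcj v hv⟩)
      exact congrArg m (Subtype.ext (by
        show y * (x * v * x⁻¹) * y⁻¹ = x' * (y * v * y⁻¹) * x'⁻¹
        rw [hx'def]; group))
    have e1 := hmyx g he.g_mem
    have e2 := hmyx _ hgx
    have hgg : my g he.g_mem * my g he.g_mem = 1 := by
      rw [← hmy g g he.g_mem he.g_mem]
      exact hmyU (g * g) (mul_mem he.g_mem he.g_mem) (by rw [← pow_two]; exact h.powU g he.g_mem)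
    have hg1 : my g he.g_mem = 1 := by
      have h1 := hmyU _ (mul_mem (mul_mem he.g_mem hgx) hgxx) (hAU ▸ he.triangle)
      rw [hmy _ _ (mul_mem he.g_mem hgx) hgxx, hmy _ _ he.g_mem hgx, e2, e1, hgg, one_mul] at h1
      exact h1
    refine hμ ?_
    show m ⟨e₀, he₀⟩ = 1
    have hk₀ : y⁻¹ * e₀ * y ∈ E := by simpa using h.normE.conj_mem e₀ he₀ y⁻¹
    have hval : my (y⁻¹ * e₀ * y) hk₀ = m ⟨e₀, he₀⟩ :=
      congrArg m (Subtype.ext (by show y * (y⁻¹ * e₀ * y) * y⁻¹ = e₀; group))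
    rw [← hval]
    have hgx1 : my _ hgx = 1 := e1.trans hg1
    rcases he.classes _ hk₀ (fun al hal => by
      rw [hA, Subgroup.mem_bot] at hal; rw [hal, mul_one, one_mul]) with c | c | c | c <;>
      rw [hAU] at c
    · exact hmyU _ hk₀ c
    · have h1 := hmyU _ (mul_mem he.g_mem hk₀) c
      rwa [hmy _ _ he.g_mem hk₀, hg1, one_mul] at h1
    · have h1 := hmyU _ (mul_mem hgx hk₀) c
      rwa [hmy _ _ hgx hk₀, hgx1, one_mul] at h1
    · have h1 := hmyU _ (mul_mem (mul_mem he.g_mem hgx) hk₀) c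
      rwa [hmy _ _ (mul_mem he.g_mem hgx) hk₀, hmy _ _ he.g_mem hgx, hg1, hgx1, one_mul, one_mul] at h1
  refine (dvdDeg_inertia E (θ := RelDeg.lf E L) (isIrrCharacter_hom L) (d := 1)
    (by simp [RelDeg.lf])).of_dvd ?_
  rw [mul_one]
  exact ((Nat.coprime_primes Nat.prime_three hb).2 (Ne.symm hb3)).mul_dvd_of_dvd_of_dvd h3
    (hbi.trans (Subgroup.index_dvd_of_le hIC))

set_option maxHeartbeats 1000000 in
/-- The exceptional configuration with elements of order two outside `U`. -/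
theorem exc_ne_bot [Group.IsSolvable H] (h : Ctx φ 3 2 U E) (he : Exc φ 2 U E A S x g)
    (hA : A ≠ ⊥) : False := by
  classical
  haveI := h.normU
  haveI := h.normE
  haveI : Fact (Nat.Prime 3) := ⟨Nat.prime_three⟩
  obtain ⟨z, hz, hz2, hz1, -⟩ := he.z
  obtain ⟨hAE, -, -, hAU, -⟩ := he.fam
  let U' := U.subgroupOf E
  letI : CommGroup (E ⧸ U') :=
    { (inferInstance : Group (E ⧸ U')) with
      mul_comm := fun p q => Quotient.inductionOn₂' p q fun e f => by
        refine QuotientGroup.eq.2 ?_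
        show (((e * f : E) : H))⁻¹ * ((f * e : E) : H) ∈ U
        push_cast
        rw [show ((e : H) * f)⁻¹ * (f * e) = (f : H)⁻¹ * (e : H)⁻¹ * (f : H)⁻¹⁻¹ * (e : H)⁻¹⁻¹ by
          group]
        exact h.comm _ (inv_mem f.2) _ (inv_mem e.2) }
  let mk : E →* E ⧸ U' := QuotientGroup.mk' U'
  have hmk1 : ∀ e : E, mk e = 1 ↔ (e : H) ∈ U := fun e => QuotientGroup.eq_one_iff e
  have hsurj : Function.Surjective mk := QuotientGroup.mk'_surjective U'
  haveI : Nontrivial (E ⧸ U') := by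
    obtain ⟨e₀, he₀, he₀U⟩ := SetLike.exists_of_lt (lt_of_le_of_ne h.le (Ne.symm h.ne))
    exact ⟨⟨mk ⟨e₀, he₀⟩, 1, fun e => he₀U ((hmk1 _).1 e)⟩⟩
  have hW2 : ∀ w : E ⧸ U', w * w = 1 := fun w => by
    obtain ⟨e, rfl⟩ := hsurj w
    rw [← map_mul, hmk1, Subgroup.coe_mul, ← pow_two]
    exact h.powU e e.2
  let cj : H → (E ⧸ U' →* E ⧸ U') := fun y => QuotientGroup.map U' U'
    (MulAut.conjNormal y : MulAut E).toMonoidHom fun e he' => h.normU.conj_mem _ he' y
  have hcj : ∀ (y : H) (e : E), cj y (mk e) = mk (MulAut.conjNormal y e) := fun y e => rfl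
  have hcjmul : ∀ (y w : H) (v : E ⧸ U'), cj (y * w) v = cj y (cj w v) := fun y w v => by
    obtain ⟨e, rfl⟩ := hsurj v
    rw [hcj, hcj, hcj, map_mul, MulAut.mul_apply]
  have hcjone : ∀ v : E ⧸ U', cj 1 v = v := fun v => by
    obtain ⟨e, rfl⟩ := hsurj v
    rw [hcj, map_one, MulAut.one_apply]
  let ψ : H →* MulAut (E ⧸ U') :=
    MonoidHom.mk' (fun y =>
      { toFun := cj y
        invFun := cj y⁻¹
        left_inv := fun v => by rw [← hcjmul, inv_mul_cancel, hcjone]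
        right_inv := fun v => by rw [← hcjmul, mul_inv_cancel, hcjone]
        map_mul' := map_mul (cj y) }) fun y w => MulEquiv.ext fun v => hcjmul y w v
  have hψ : ∀ (y : H) (e : E), ψ y (mk e) = mk ⟨y * e * y⁻¹, h.normE.conj_mem e e.2 y⟩ :=
    fun y e => rfl
  -- the pairing
  let f : E ⧸ U' → E ⧸ U' → H := fun p q => Quotient.liftOn₂' p q
    (fun e e' : E => (e : H) * e' * (e : H)⁻¹ * (e' : H)⁻¹) (fun e e' d d' hed hed' => by
      rw [QuotientGroup.leftRel_apply] at hed hed'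
      have hu : (e : H)⁻¹ * d ∈ U := hed
      have hu' : (e' : H)⁻¹ * d' ∈ U := hed'
      rw [show (d : H) = e * ((e : H)⁻¹ * d) by group, show (d' : H) = e' * ((e' : H)⁻¹ * d') by group]
      generalize (e : H)⁻¹ * d = u at hu ⊢
      generalize (e' : H)⁻¹ * d' = u' at hu' ⊢
      have h1 : (e : H) * u' * (e : H)⁻¹ * u'⁻¹ = 1 := by
        rw [← h.central u' hu' e e.2]; group
      have h2 : ∀ w ∈ E, u * w * u⁻¹ * w⁻¹ = 1 := fun w hw => by rw [h.central u hu w hw]; group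
      rw [h.comm_mul (mul_mem e.2 (h.le hu)) e'.2 (h.le hu'), h.comm_mul_left e.2 (h.le hu) e'.2,
        h.comm_mul_left e.2 (h.le hu) (h.le hu'), h1, h2 _ e'.2, h2 _ (h.le hu'), one_mul, mul_one,
        mul_one])
  have hf : ∀ e e' : E, f (mk e) (mk e') = (e : H) * e' * (e : H)⁻¹ * (e' : H)⁻¹ := fun e e' => rfl
  -- the range
  have hirr : ∀ X : Subgroup (E ⧸ U'), (∀ y ∈ ψ.range, ∀ w ∈ X, y w ∈ X) → X = ⊥ ∨ X = ⊤ := by
    intro X hX
    let X0 : Subgroup H := (X.comap mk).map E.subtype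
    have hX0n : X0.Normal := ⟨by
      rintro _ ⟨e, he', rfl⟩ y
      exact ⟨⟨y * e * y⁻¹, h.normE.conj_mem e e.2 y⟩, hX _ ⟨y, rfl⟩ _ he', rfl⟩⟩
    have hUX : U ≤ X0 := fun u hu => ⟨⟨u, h.le hu⟩, by
      show mk ⟨u, h.le hu⟩ ∈ X
      rw [(hmk1 _).2 hu]; exact one_mem X, rfl⟩
    rcases h.chief X0 hX0n hUX (Subgroup.map_subtype_le _) with hX0 | hX0
    · refine Or.inl ((Subgroup.eq_bot_iff_forall _).2 fun w hw => ?_)
      obtain ⟨e, rfl⟩ := hsurj w
      exact (hmk1 e).2 (hX0 ▸ ⟨e, hw, rfl⟩)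
    · refine Or.inr ((Subgroup.eq_top_iff' _).2 fun w => ?_)
      obtain ⟨e, rfl⟩ := hsurj w
      obtain ⟨e', he', hee⟩ : (e : H) ∈ X0 := hX0.symm ▸ e.2
      rwa [← Subtype.ext hee]
  have hSA : ∀ y ∈ (S : Subgroup H), ∀ al : E, (al : H) ∈ A → ψ y (mk al) = mk al := fun y hy al hal => by
    rw [hψ]
    exact congrArg mk (Subtype.ext (mul_inv_eq_iff_eq_mul.2 (he.cenS y hy al hal)))
  obtain ⟨al₀, hal₀, hal₀1⟩ := A.bot_or_exists_ne_one.resolve_left hA
  have hal₀W : mk ⟨al₀, hAE hal₀⟩ ≠ 1 := fun e => hal₀1 (hAU _ hal₀ ((hmk1 _).1 e))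
  -- normal three-subgroups of the range
  have hO3 : ∀ N : Subgroup ψ.range, N.Normal → IsPGroup 3 N → N = ⊥ := by
    intro N hN hN3
    haveI := hN
    let T := S.mapSurjective ψ.rangeRestrict_surjective
    have hle : N ≤ T := (le_sup_left (b := (T : Subgroup ψ.range))).trans
      (T.is_maximal' (hN3.to_sup_of_normal_left T.isPGroup') le_sup_right).le
    have hfixed : ∀ n ∈ N, (n : MulAut (E ⧸ U')) (mk ⟨al₀, hAE hal₀⟩) = mk ⟨al₀, hAE hal₀⟩ := by
      intro n hn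
      obtain ⟨y, hy, rfl⟩ := hle hn
      exact hSA y hy _ hal₀
    let NS : Set (MulAut (E ⧸ U')) := Subtype.val '' (N : Set ψ.range)
    have htop : fixBy NS = ⊤ := by
      refine (hirr _ fun y hy w hw => fixBy_apply ?_ hw).resolve_left fun hbot => hal₀W
        (Subgroup.mem_bot.1 (hbot ▸ (show mk ⟨al₀, hAE hal₀⟩ ∈ fixBy NS from by
          rintro _ ⟨n, hn, rfl⟩
          exact hfixed n hn)))
      rintro _ ⟨n, hn, rfl⟩
      exact ⟨⟨y, hy⟩⁻¹ * n * ⟨y, hy⟩, by simpa using hN.conj_mem n hn (⟨y, hy⟩ : ψ.range)⁻¹, rfl⟩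
    refine (Subgroup.eq_bot_iff_forall _).2 fun n hn => Subtype.ext (MulEquiv.ext fun w => ?_)
    exact (htop ▸ Subgroup.mem_top w : w ∈ fixBy NS) _ ⟨n, hn, rfl⟩
  -- an element of order three
  obtain ⟨k, hk⟩ := S.isPGroup' ⟨x, he.x_mem⟩
  have hxk : ψ x ^ 3 ^ k = 1 := by
    rw [← map_pow, show x ^ 3 ^ k = 1 by simpa using congrArg Subtype.val hk, map_one]
  have hψx : ψ x ≠ 1 := fun e => he.moved (Subgroup.mem_sup_right (by
    have h1 : ψ x (mk ⟨g, he.g_mem⟩) = mk ⟨g, he.g_mem⟩ := by rw [e, MulAut.one_apply]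
    rw [hψ] at h1
    have h2 := QuotientGroup.eq.1 h1.symm
    exact h2))
  obtain ⟨i, -, hi⟩ := (Nat.dvd_prime_pow Nat.prime_three).1 (orderOf_dvd_of_pow_eq_one hxk)
  obtain ⟨i, rfl⟩ : ∃ j, i = j + 1 := Nat.exists_eq_succ_of_ne_zero fun e => hψx
    (orderOf_eq_one_iff.1 (by rw [hi, e, pow_zero]))
  let x₁ := x ^ 3 ^ i
  have hx₁ : x₁ ∈ (S : Subgroup H) := pow_mem he.x_mem _
  have hx₁o : ψ x₁ ^ 3 = 1 := by
    rw [map_pow, ← pow_mul, ← pow_succ, ← hi, pow_orderOf_eq_one]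
  have hx₁1 : ψ x₁ ≠ 1 := by
    rw [map_pow]
    refine fun e => absurd (orderOf_dvd_of_pow_eq_one e) ?_
    rw [hi]
    intro hd
    have := Nat.le_of_dvd (pow_pos (by norm_num) i) hd
    have := Nat.pow_lt_pow_right (a := 3) (by norm_num) (show i < i + 1 by omega)
    omega
  obtain ⟨k₁, hk₁⟩ := S.isPGroup' ⟨x₁, hx₁⟩
  have hx₁pow : ∃ k : ℕ, x₁ ^ 3 ^ k = 1 := ⟨k₁, by simpa using congrArg Subtype.val hk₁⟩
  -- its displacement group
  let D : E ⧸ U' →* E ⧸ U' := MonoidHom.mk' (fun w => ψ x₁ w * w) fun p q => by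
    rw [map_mul]; exact mul_mul_mul_comm _ _ _ _
  let B' : Subgroup (E ⧸ U') := ((A ⊔ U).subgroupOf E).map mk
  have hxxx : ∀ w : E ⧸ U', ψ x₁ (ψ x₁ (ψ x₁ w)) = w := fun w => by
    have := congrArg (fun t : MulAut (E ⧸ U') => t w) hx₁o
    simpa [pow_succ, MulAut.mul_apply] using this
  have hmeet : ∀ p ∈ D.range, ψ x₁ p = p → p = 1 := by
    rintro _ ⟨w, rfl⟩ hw
    change ψ x₁ (ψ x₁ w * w) = ψ x₁ w * w at hw
    rw [map_mul, mul_comm (ψ x₁ w) w] at hw
    have h2 : ψ x₁ (ψ x₁ w) = w := mul_right_cancel hw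
    have h3 : ψ x₁ w = w := by
      conv_rhs => rw [← hxxx w, h2]
    show ψ x₁ w * w = 1
    rw [h3, hW2]
  have hB'fix : ∀ p ∈ B', ψ x₁ p = p := by
    rintro _ ⟨e, he', rfl⟩
    rw [hψ]
    refine congrArg mk (Subtype.ext (mul_inv_eq_iff_eq_mul.2 ?_))
    have hle : A ⊔ U ≤ Subgroup.centralizer ({x₁} : Set H) := sup_le
      (fun al hal => Subgroup.mem_centralizer_singleton_iff.2 (he.cenS x₁ hx₁ al hal).symm)
      (fun u hu => Subgroup.mem_centralizer_singleton_iff.2 (h.act x₁ hx₁pow u hu).symm)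
    exact (Subgroup.mem_centralizer_singleton_iff.1 (hle he')).symm
  have hclass : ∀ p ∈ D.range, ∃ c : Bool × Bool,
      p * (bif c.1 then mk ⟨g, he.g_mem⟩ else 1) *
        (bif c.2 then mk ⟨x * g * x⁻¹, h.normE.conj_mem g he.g_mem x⟩ else 1) ∈ B' := by
    rintro _ ⟨w, rfl⟩
    obtain ⟨e, rfl⟩ := hsurj w
    have hdE : (e : H)⁻¹ * (x₁ * e * x₁⁻¹) ∈ E := mul_mem (inv_mem e.2) (h.normE.conj_mem e e.2 x₁)
    have hDe : D (mk e) = mk ⟨_, hdE⟩ := by
      show ψ x₁ (mk e) * mk e = _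
      rw [hψ, mul_comm]
      conv_lhs => arg 1; rw [← inv_eq_of_mul_eq_one_right (hW2 (mk e)), ← map_inv]
      rw [← map_mul]
      rfl
    have hB'mem : ∀ (v : H) (hv : v ∈ E), v ∈ A ⊔ U → mk ⟨v, hv⟩ ∈ B' := fun v hv hvm =>
      ⟨⟨v, hv⟩, hvm, rfl⟩
    have hgx : x * g * x⁻¹ ∈ E := h.normE.conj_mem g he.g_mem x
    rcases he.classes _ hdE (fun al hal => h.diff_comm hx₁pow e.2 (hAE hal) (he.cenS x₁ hx₁ al hal))
      with c | c | c | c
    · exact ⟨(false, false), by simpa [hDe] using hB'mem _ hdE c⟩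
    · refine ⟨(true, false), ?_⟩
      have h1 := hB'mem _ (mul_mem he.g_mem hdE) c
      rw [show (⟨_, mul_mem he.g_mem hdE⟩ : E) = ⟨g, he.g_mem⟩ * ⟨_, hdE⟩ from rfl, map_mul,
        mul_comm] at h1
      simpa [hDe] using h1
    · refine ⟨(false, true), ?_⟩
      have h1 := hB'mem _ (mul_mem hgx hdE) c
      rw [show (⟨_, mul_mem hgx hdE⟩ : E) = ⟨_, hgx⟩ * ⟨_, hdE⟩ from rfl, map_mul,
        mul_comm] at h1
      simpa [hDe] using h1
    · refine ⟨(true, true), ?_⟩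
      have h1 := hB'mem _ (mul_mem (mul_mem he.g_mem hgx) hdE) c
      rw [show (⟨_, mul_mem (mul_mem he.g_mem hgx) hdE⟩ : E) = ⟨g, he.g_mem⟩ * ⟨_, hgx⟩ * ⟨_, hdE⟩
        from rfl, map_mul, map_mul, mul_comm, ← mul_assoc] at h1
      simpa [hDe] using h1
  choose cls hcls using hclass
  have hcard : Nat.card D.range ≤ 4 := by
    refine le_trans (Nat.card_le_card_of_injective (fun p : D.range => cls p p.2) ?_) (by simp)
    intro p q hpq
    have h1 := hcls p p.2
    have h2 := hcls q q.2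
    simp only at hpq
    rw [← hpq] at h2
    have h3 := mul_mem h1 h2
    rw [mul_mul_mul_comm, hW2, mul_one, mul_mul_mul_comm, hW2, mul_one] at h3
    have h4 := hmeet _ (mul_mem p.2 q.2) (hB'fix _ h3)
    refine Subtype.ext ?_
    calc (p : E ⧸ U') = p * ((q : E ⧸ U') * q) := by rw [hW2, mul_one]
      _ = q := by rw [← mul_assoc, h4, one_mul]
  have hval : ∀ p q, f p q = 1 ∨ f p q = z := fun p q => by
    obtain ⟨e, rfl⟩ := hsurj p
    obtain ⟨e', rfl⟩ := hsurj q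
    rw [hf]
    obtain ⟨j, hj⟩ := h.mem_zpowers_z hz hz2 hz1 (h.comm e e.2 e' e'.2) (h.comm_pow e.2 e'.2)
    rw [hj]
    rcases Nat.even_or_odd j with ⟨t, rfl⟩ | ⟨t, rfl⟩
    · exact Or.inl (by rw [← two_mul, pow_mul, hz2, one_pow])
    · exact Or.inr (by rw [pow_succ, pow_mul, hz2, one_pow, one_mul])
  haveI : Group.IsSolvable ψ.range := solvable_of_surjective ψ.rangeRestrict_surjective
  refine no_reflection_three hW2 ψ.range hirr f z hval (by rw [← pow_two, hz2]) ?_ ?_ ?_ ?_ ?_ hO3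
    (ψ x₁) ⟨x₁, rfl⟩ hx₁o hx₁1 D.range (fun w => ⟨w, rfl⟩) hcard
  · intro p p' q
    obtain ⟨e, rfl⟩ := hsurj p
    obtain ⟨e', rfl⟩ := hsurj p'
    obtain ⟨d, rfl⟩ := hsurj q
    rw [← map_mul, hf, hf, hf, Subgroup.coe_mul]
    exact h.comm_mul_left e.2 e'.2 d.2
  · intro p q q'
    obtain ⟨e, rfl⟩ := hsurj p
    obtain ⟨d, rfl⟩ := hsurj q
    obtain ⟨d', rfl⟩ := hsurj q'
    rw [← map_mul, hf, hf, hf, Subgroup.coe_mul]
    exact h.comm_mul e.2 d.2 d'.2
  · intro p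
    obtain ⟨e, rfl⟩ := hsurj p
    rw [hf]; group
  · intro p hp
    obtain ⟨e, rfl⟩ := hsurj p
    rw [hmk1]
    refine h.center e e.2 fun w hw => ?_
    have := hp (mk ⟨w, hw⟩)
    rwa [hf, mul_inv_eq_one, mul_inv_eq_iff_eq_mul] at this
  · rintro _ ⟨y, rfl⟩ p q
    obtain ⟨e, rfl⟩ := hsurj p
    obtain ⟨d, rfl⟩ := hsurj q
    rw [hψ, hψ, hf, hf]
    show y * (e : H) * y⁻¹ * (y * (d : H) * y⁻¹) * (y * (e : H) * y⁻¹)⁻¹ * (y * (d : H) * y⁻¹)⁻¹ =
      (e : H) * d * (e : H)⁻¹ * (d : H)⁻¹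
    rcases hval (mk e) (mk d) with hv | hv <;> rw [hf] at hv
    · calc _ = y * ((e : H) * d * (e : H)⁻¹ * (d : H)⁻¹) * y⁻¹ := by group
        _ = _ := by rw [hv, mul_one, mul_inv_cancel]
    · have hyz : y * z * y⁻¹ = z := by
        obtain ⟨j, hj⟩ := h.mem_zpowers_z hz hz2 hz1 (h.normU.conj_mem z hz y)
          (by rw [conj_pow, hz2, mul_one, mul_inv_cancel])
        rcases Nat.even_or_odd j with ⟨t, rfl⟩ | ⟨t, rfl⟩
        · rw [← two_mul, pow_mul, hz2, one_pow, mul_inv_eq_one, mul_eq_left] at hj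
          exact absurd hj hz1
        · rw [hj, pow_succ, pow_mul, hz2, one_pow, one_mul]
      calc _ = y * ((e : H) * d * (e : H)⁻¹ * (d : H)⁻¹) * y⁻¹ := by group
        _ = _ := by rw [hv, hyz]

omit [Finite V] in
/-- An element of prime power order lies in a normal subgroup of prime to that prime index. -/
theorem mem_of_not_dvd_index {C : Subgroup H} [C.Normal] {a : ℕ} (ha : a.Prime)
    (hC : ¬ a ∣ C.index) {x : H} (hx : ∃ k : ℕ, x ^ a ^ k = 1) : x ∈ C := by
  obtain ⟨k, hk⟩ := hx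
  have h1 : orderOf ((x : H) : H ⧸ C) ∣ a ^ k := orderOf_dvd_of_pow_eq_one (by
    rw [← QuotientGroup.mk_pow, hk, QuotientGroup.mk_one])
  have h2 : orderOf ((x : H) : H ⧸ C) ∣ C.index := by
    rw [Subgroup.index_eq_card]; exact orderOf_dvd_natCard _
  have h3 := Nat.dvd_gcd h1 h2
  rw [(Nat.Coprime.pow_left k (ha.coprime_iff_not_dvd.2 hC)), Nat.dvd_one, orderOf_eq_one_iff] at h3
  exact (QuotientGroup.eq_one_iff x).1 h3

/-- The main lemma for one prime whose elements centralise a maximal normal abelian subgroup. -/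
theorem key_false [Group.IsSolvable H] [Nontrivial V] (hfaith : Function.Injective φ)
    (U : Subgroup H) [U.Normal] (hab : ∀ u ∈ U, ∀ v ∈ U, u * v = v * u)
    (hmax : ∀ Z : Subgroup H, Z.Normal → (∀ u ∈ Z, ∀ v ∈ Z, u * v = v * u) → U ≤ Z → Z = U)
    (hcyc : IsCyclic U) (hfpf : ∀ x ∈ U, x ≠ 1 → ∀ v : V, φ x v = v → v = 1)
    (a b : ℕ) [ha : Fact a.Prime] [hb : Fact b.Prime] (hab' : a ≠ b) (had : a ∣ Nat.card H)
    (hsa : Spread a φ) (hdeg : ¬ DvdDeg (a * b) H)
    (hidx : ¬ a ∣ (Subgroup.centralizer (U : Set H)).index)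
    (hexc : a = 3 → b ∣ (Subgroup.centralizer (U : Set H)).index) : False := by
  classical
  set C := Subgroup.centralizer (U : Set H) with hC
  haveI hCn : C.Normal := inferInstance
  let P : Set H := {x | ∃ k : ℕ, x ^ a ^ k = 1}
  have hPC : Subgroup.closure P ≤ C := (Subgroup.closure_le C).2 fun x hx =>
    mem_of_not_dvd_index ha.out hidx hx
  haveI hPn : (Subgroup.closure P).Normal := ⟨fun n hn y => by
    have : (Subgroup.closure P).map (MulAut.conj y).toMonoidHom ≤ Subgroup.closure P := by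
      rw [MonoidHom.map_closure, Subgroup.closure_le]
      rintro _ ⟨x, ⟨k, hk⟩, rfl⟩
      refine Subgroup.subset_closure ⟨k, ?_⟩
      rw [← map_pow, hk, map_one]
    simpa using this ⟨n, hn, rfl⟩⟩
  let D := U ⊔ Subgroup.closure P
  have hUC : U ≤ C := fun u hu v hv => hab v hv u hu
  have hDC : D ≤ C := sup_le hUC hPC
  have haU : ¬ a ∣ Nat.card U := by
    letI : CommGroup U :=
      { (inferInstance : Group U) with mul_comm := fun u v => Subtype.ext (hab u u.2 v v.2) }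
    exact not_dvd_of_nilpotent hfaith hsa U CommGroup.isNilpotent
  have hDU : U < D := by
    refine lt_of_le_of_ne le_sup_left fun e => haU ?_
    obtain ⟨x, hx⟩ := exists_prime_orderOf_dvd_card' (G := H) a had
    rw [← hx]
    refine Subgroup.orderOf_dvd_natCard U ?_
    rw [e]
    exact Subgroup.mem_sup_right (Subgroup.subset_closure
      ⟨1, by rw [pow_one, ← hx, pow_orderOf_eq_one]⟩)
  obtain ⟨E, ⟨hEn, hUE, hED⟩, hEmin⟩ := (Set.toFinite
    {X : Subgroup H | X.Normal ∧ U < X ∧ X ≤ D}).exists_minimal ⟨D, inferInstance, hDU, le_rfl⟩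
  haveI := hEn
  have hchief : ∀ X : Subgroup H, X.Normal → U ≤ X → X ≤ E → X = U ∨ X = E := fun X hX h1 h2 =>
    or_iff_not_imp_left.2 fun hne => le_antisymm h2
      (hEmin (y := X) ⟨hX, lt_of_le_of_ne h1 (Ne.symm hne), h2.trans hED⟩ h2)
  let mk := QuotientGroup.mk' U
  have hmk : Function.Surjective mk := QuotientGroup.mk'_surjective U
  let E' : Subgroup (H ⧸ U) := E.map mk
  have hback : E'.comap mk = E :=
    Subgroup.comap_map_eq_self (by rw [QuotientGroup.ker_mk']; exact hUE.le)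
  have hE' : Core.IsMinNormal E' := by
    refine ⟨hEn.map _ hmk, fun e => hUE.ne ?_, fun M hM hle => ?_⟩
    · rw [← hback, e, MonoidHom.comap_bot, QuotientGroup.ker_mk']
    · rcases hchief (M.comap mk) (hM.comap _) (fun u hu => by
        rw [Subgroup.mem_comap, QuotientGroup.mk'_apply, (QuotientGroup.eq_one_iff u).2 hu]
        exact one_mem M) (hback ▸ Subgroup.comap_mono hle) with h1 | h1
      · exact Or.inl (Subgroup.comap_injective hmk (by
          rw [h1, MonoidHom.comap_bot, QuotientGroup.ker_mk']))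
      · exact Or.inr (Subgroup.comap_injective hmk (by rw [h1, hback]))
  haveI := hE'.isMulCommutative
  obtain ⟨s, hs, hspow⟩ := hE'.exists_prime_pow_eq_one
  have hcomm : ∀ e ∈ E, ∀ f ∈ E, e * f * e⁻¹ * f⁻¹ ∈ U := fun e he f hf => by
    rw [← QuotientGroup.eq_one_iff (N := U)]
    have h1 : mk e * mk f = mk f * mk e := by
      open scoped IsMulCommutative in
      exact congrArg Subtype.val (mul_comm (⟨mk e, e, he, rfl⟩ : E') ⟨mk f, f, hf, rfl⟩)
    show mk (e * f * e⁻¹ * f⁻¹) = 1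
    rw [map_mul, map_mul, map_mul, h1, map_inv, map_inv]
    group
  have hcentral : ∀ u ∈ U, ∀ e ∈ E, u * e = e * u := fun u hu e he => hDC (hED he) u hu
  have hcenter : ∀ e ∈ E, (∀ f ∈ E, e * f = f * e) → e ∈ U := fun e he hc => by
    have hZ := hmax (E ⊓ Subgroup.centralizer (E : Set H)) inferInstance
      (fun u hu v hv => hv.2 u hu.1) (fun u hu => ⟨hUE.le hu, fun f hf => (hcentral u hu f hf).symm⟩)
    exact hZ ▸ (show e ∈ E ⊓ Subgroup.centralizer (E : Set H) from ⟨he, fun f hf => (hc f hf).symm⟩)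
  have hnil : Group.IsNilpotent E := by
    letI : CommGroup (E ⧸ U.subgroupOf E) :=
      { (inferInstance : Group (E ⧸ U.subgroupOf E)) with
        mul_comm := fun p q => Quotient.inductionOn₂' p q fun e f => by
          refine QuotientGroup.eq.2 ?_
          show (((e * f : E) : H))⁻¹ * ((f * e : E) : H) ∈ U
          push_cast
          rw [show ((e : H) * f)⁻¹ * (f * e) = (f : H)⁻¹ * (e : H)⁻¹ * (f : H)⁻¹⁻¹ * (e : H)⁻¹⁻¹ by
            group]
          exact hcomm _ (inv_mem f.2) _ (inv_mem e.2) }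
    haveI : Group.IsNilpotent (E ⧸ U.subgroupOf E) := CommGroup.isNilpotent
    refine Subgroup.isNilpotent_of_ker_le_center (QuotientGroup.mk' (U.subgroupOf E)) ?_
    rw [QuotientGroup.ker_mk']
    exact fun u hu => Subgroup.mem_center_iff.2 fun e => Subtype.ext (hcentral u hu e e.2).symm
  have hctx : Ctx φ a s U E :=
    { normU := inferInstance
      normE := hEn
      le := hUE.le
      ne := hUE.ne'
      cyc := hcyc
      fpf := hfpf
      central := hcentral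
      comm := hcomm
      center := hcenter
      powU := fun e he => (QuotientGroup.eq_one_iff _).1 (by
        rw [QuotientGroup.mk_pow]; exact hspow _ ⟨e, he, rfl⟩)
      chief := hchief
      hs := hs
      ha := ha.out
      notdvd := not_dvd_of_nilpotent hfaith hsa E hnil
      act := fun x hx u hu => (mem_of_not_dvd_index ha.out hidx hx u hu).symm }
  rcases hctx.centralize hsa with hall | ⟨ha3, A, S, x, g, he⟩
  · have hDE : D ≤ Subgroup.centralizer (E : Set H) := sup_le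
      (fun u hu f hf => (hcentral u hu f hf).symm)
      ((Subgroup.closure_le _).2 fun x hx f hf => (hall x hx f hf).symm)
    exact hUE.not_ge fun e he => hcenter e he fun f hf => (hDE (hED he) f hf).symm
  · subst ha3
    obtain rfl := he.s_eq
    rcases eq_or_ne A ⊥ with hA | hA
    · exact hdeg (exc_bot hctx he hA hb.out (Ne.symm hab') (hexc rfl))
    · exact exc_ne_bot hctx he hA

/-- Two primes with spreading Sylow subgroups. -/
theorem spread_false [Group.IsSolvable H] [Nontrivial V] (hfaith : Function.Injective φ)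
    (hirr : ∀ W : Subgroup V, (∀ h : H, ∀ w ∈ W, φ h w ∈ W) → W = ⊥ ∨ W = ⊤)
    (q r : ℕ) [hq : Fact q.Prime] [hr : Fact r.Prime] (hqr : q ≠ r) (hr2 : r ≠ 2)
    (hqd : q ∣ Nat.card H) (hrd : r ∣ Nat.card H) (hsq : Spread q φ) (hsr : Spread r φ)
    (hdeg : ¬ DvdDeg (q * r) H) : False := by
  classical
  obtain ⟨U, ⟨hUn, hUab⟩, hUmax⟩ := (Set.toFinite
    {X : Subgroup H | X.Normal ∧ ∀ u ∈ X, ∀ v ∈ X, u * v = v * u}).exists_maximal
    ⟨⊥, inferInstance, fun u hu v hv => by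
      rw [Subgroup.mem_bot] at hu hv
      rw [hu, hv]⟩
  haveI := hUn
  have hmax : ∀ Z : Subgroup H, Z.Normal → (∀ u ∈ Z, ∀ v ∈ Z, u * v = v * u) → U ≤ Z → Z = U :=
    fun Z h1 h2 h3 => le_antisymm (hUmax (y := Z) ⟨h1, h2⟩ h3) h3
  have hfpf := fpf_of_abelian (t := r) hr2 hfaith hirr hrd hsr U hUab
  have hcyc : IsCyclic U := by
    have hF : Core.IsFPF (φ.comp U.subtype) := fun u hu v hv =>
      hfpf u u.2 (fun e => hu (Subtype.ext e)) v hv
    exact hF.isCyclic_of_comm ⟨⟨fun u v => Subtype.ext (hUab u u.2 v v.2)⟩⟩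
  -- both indices cannot be divisible
  have hboth : q ∣ (Subgroup.centralizer (U : Set H)).index →
      ¬ r ∣ (Subgroup.centralizer (U : Set H)).index := by
    intro h1 h2
    obtain ⟨l, hl⟩ := exists_injective_hom hcyc
    have hle : inertia (RelDeg.lf U l) ≤ Subgroup.centralizer (U : Set H) := by
      intro y hy u hu
      have h3 := congrFun (mem_inertia.1 hy) ⟨u, hu⟩
      have h4 : y * u * y⁻¹ = u := congrArg Subtype.val (hl (Units.ext h3))
      exact (mul_inv_eq_iff_eq_mul.1 h4).symm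
    refine hdeg ((dvdDeg_inertia U (θ := RelDeg.lf U l) (isIrrCharacter_hom l) (d := 1)
      (by simp [RelDeg.lf])).of_dvd ?_)
    rw [mul_one]
    exact (((Nat.coprime_primes hq.out hr.out).2 hqr).mul_dvd_of_dvd_of_dvd h1 h2).trans
      (Subgroup.index_dvd_of_le hle)
  have hdeg' : ¬ DvdDeg (r * q) H := by rwa [mul_comm]
  by_cases hqi : q ∣ (Subgroup.centralizer (U : Set H)).index
  · exact key_false hfaith U hUab hmax hcyc hfpf r q hqr.symm hrd hsr hdeg' (hboth hqi) fun _ => hqi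
  · by_cases hbad : q = 3 ∧ ¬ r ∣ (Subgroup.centralizer (U : Set H)).index
    · exact key_false hfaith U hUab hmax hcyc hfpf r q hqr.symm hrd hsr hdeg' hbad.2
        fun e => absurd (hbad.1.trans e.symm) hqr
    · exact key_false hfaith U hUab hmax hcyc hfpf q r hqr hqd hsq hdeg hqi
        fun e => not_not.1 fun h => hbad ⟨e, h⟩

end Cfsg.Agent.Palfy
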