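import Mathlib
import Cfsg.Agent.Palfy.Contra
import Cfsg.Agent.CharNoDiv.Orbit

/-!
# From inertia groups to spreading Sylow subgroups
-/

set_option autoImplicit false
set_option linter.style.haveILetI false

namespace Cfsg.Agent.Palfy

open Cfsg.Agent.Char

universe u

noncomputable local instance (priority := 100000) linGroupT {H : Type*} [Group H] {K : Subgroup H} :
    CommGroup (K →* ℂˣ) := MonoidHom.instCommGroup

variable {G : Type u} [Group G] [Finite G]

/-- A Sylow subgroup inside `I`, normal abelian modulo `N`. -/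
def Good (t : ℕ) (N I : Subgroup G) : Prop :=
  ∃ S : Sylow t G, (S : Subgroup G) ≤ I ∧
    (∀ g ∈ I, ∀ x ∈ (S : Subgroup G), g * x * g⁻¹ ∈ (S : Subgroup G) ⊔ N) ∧
    ∀ x ∈ (S : Subgroup G), ∀ y ∈ (S : Subgroup G), x * y * x⁻¹ * y⁻¹ ∈ N

/-- A pair of primes without a common degree gives a good Sylow subgroup. -/
theorem good_of_pair [Group.IsSolvable G] (N : Subgroup G) [N.Normal] {θ : N → ℂ}
    (hθ : Cfsg.IsIrrCharacter N θ) {d : ℕ} (hd : θ 1 = d) {η : inertia θ → ℂ}
    (hη : Cfsg.IsIrrCharacter (inertia θ) η)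
    (hres : ∀ (n : N) (h : (n : G) ∈ inertia θ), η ⟨n, h⟩ = θ n) {s t : ℕ} (hs : s.Prime)
    [ht : Fact t.Prime] (hst : s ≠ t) (hsd : s ∣ (inertia θ).index * d)
    (hno : ¬ DvdDeg (s * t) G) : Good t N (inertia θ) := by
  classical
  set N' := N.subgroupOf (inertia θ)
  have hcop : s.Coprime t := (Nat.coprime_primes hs ht.out).2 hst
  have hti : ¬ t ∣ (inertia θ).index := fun h => hno ((dvdDeg_inertia N hθ hd).of_dvd
    (hcop.mul_dvd_of_dvd_of_dvd hsd (h.mul_right d)))
  have hq : ¬ DvdDeg t (inertia θ ⧸ N') := fun h => by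
    refine hno ((dvdDeg_of_extension N hθ hd hη hres h).of_dvd ?_)
    rw [mul_left_comm]
    exact hcop.mul_dvd_of_dvd_of_dvd (hsd.mul_left t) (dvd_mul_right t _)
  obtain ⟨T⟩ : Nonempty (Sylow t (inertia θ)) := inferInstance
  have hTi : ¬ t ∣ ((T : Subgroup (inertia θ)).map (inertia θ).subtype).index := by
    rw [Subgroup.index_map_subtype]
    exact fun h => ((ht.out.dvd_mul).1 h).elim T.not_dvd_index hti
  obtain ⟨hn, hab⟩ := sylow_of_not_dvdDeg hq (T.mapSurjective (QuotientGroup.mk'_surjective N'))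
  refine ⟨(T.isPGroup'.map _).toSylow hTi, Subgroup.map_subtype_le _, ?_, ?_⟩
  · rintro g hg _ ⟨x, hx, rfl⟩
    obtain ⟨y, hy, hyx⟩ := hn.conj_mem (QuotientGroup.mk' N' x) ⟨x, hx, rfl⟩
      (QuotientGroup.mk' N' ⟨g, hg⟩)
    rw [← map_inv, ← map_mul, ← map_mul] at hyx
    have h0 : ((y : inertia θ) : inertia θ ⧸ N') =
        (((⟨g, hg⟩ : inertia θ) * x * (⟨g, hg⟩ : inertia θ)⁻¹ : inertia θ) : inertia θ ⧸ N') := hyx
    have h1 : (y : G)⁻¹ * (g * x * g⁻¹) ∈ N := by have h0q := QuotientGroup.eq.1 h0; exact h0q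
    show g * (x : G) * g⁻¹ ∈ _
    rw [show g * (x : G) * g⁻¹ = (y : G) * ((y : G)⁻¹ * (g * x * g⁻¹)) by group]
    exact mul_mem (Subgroup.mem_sup_left ⟨y, hy, rfl⟩) (Subgroup.mem_sup_right h1)
  · rintro _ ⟨x, hx, rfl⟩ _ ⟨y, hy, rfl⟩
    have h1 := hab _ ⟨x, hx, rfl⟩ _ ⟨y, hy, rfl⟩
    have h2 : QuotientGroup.mk' N' (x * y * x⁻¹ * y⁻¹) = 1 := by
      rw [map_mul, map_mul, map_mul, h1, map_inv, map_inv]
      group
    exact (QuotientGroup.eq_one_iff (N := N') (x * y * x⁻¹ * y⁻¹)).1 h2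

/-- A subgroup of `t`-power order inside `I` lies in the good one modulo `N`. -/
theorem le_of_good {t : ℕ} [Fact t.Prime] {N I : Subgroup G} [N.Normal] {S : Sylow t G}
    (hSn : ∀ g ∈ I, ∀ x ∈ (S : Subgroup G), g * x * g⁻¹ ∈ (S : Subgroup G) ⊔ N)
    {X : Subgroup G} (hX : IsPGroup t X) (hXI : X ≤ I) : X ≤ (S : Subgroup G) ⊔ N := by
  let mk := QuotientGroup.mk' N
  let T := S.mapSurjective (QuotientGroup.mk'_surjective N)
  have hback : Subgroup.comap mk (T : Subgroup (G ⧸ N)) = (S : Subgroup G) ⊔ N := by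
    rw [Sylow.coe_mapSurjective, Subgroup.comap_map_eq, QuotientGroup.ker_mk']
  have hnorm : X.map mk ≤ Subgroup.normalizer ((T : Subgroup (G ⧸ N)) : Set (G ⧸ N)) := by
    refine le_normalizer_of_forall ?_
    rintro _ ⟨g, hg, rfl⟩ w hw
    obtain ⟨x, hx, rfl⟩ := hw
    rw [← map_inv, ← map_mul, ← map_mul, ← Subgroup.mem_comap, hback]
    exact hSn g (hXI hg) x hx
  have h2 := (hX.map mk).to_sup_of_normal_right' T.isPGroup' hnorm
  have h3 : X.map mk ≤ (T : Subgroup (G ⧸ N)) :=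
    (le_sup_left (b := (T : Subgroup (G ⧸ N)))).trans (T.is_maximal' h2 le_sup_right).le
  rw [← hback]
  exact fun x hx => h3 ⟨x, hx, rfl⟩

/-- A good Sylow subgroup inside a normal subgroup of the inertia group. -/
theorem sup_normal_of_good {t : ℕ} [Fact t.Prime] {N I K : Subgroup G} [N.Normal] [hK : K.Normal]
    (hKI : K ≤ I) {S : Sylow t G} (hSK : (S : Subgroup G) ≤ K)
    (hSn : ∀ g ∈ I, ∀ x ∈ (S : Subgroup G), g * x * g⁻¹ ∈ (S : Subgroup G) ⊔ N) :
    ((S : Subgroup G) ⊔ N).Normal := by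
  refine ⟨fun n hn y => ?_⟩
  have hle : ((S : Subgroup G) ⊔ N).map (MulAut.conj y).toMonoidHom ≤ (S : Subgroup G) ⊔ N := by
    rw [Subgroup.map_sup]
    refine sup_le (le_of_good hSn (S.isPGroup'.map _) ?_) ?_
    · rintro _ ⟨x, hx, rfl⟩
      exact hKI (hK.conj_mem x (hSK hx) y)
    · rintro _ ⟨x, hx, rfl⟩
      exact Subgroup.mem_sup_right ((inferInstance : N.Normal).conj_mem x hx y)
  simpa using hle ⟨n, hn, rfl⟩

/-- The action on the linear characters. -/
def linAct (M : Subgroup G) [M.Normal] : G →* MulAut (M →* ℂˣ) :=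
  MonoidHom.mk' (fun g =>
    { toFun := RelDeg.cj g⁻¹
      invFun := RelDeg.cj g
      left_inv := fun l => by rw [CharNoDiv.cj_cj, inv_mul_cancel, CharNoDiv.cj_one']
      right_inv := fun l => by rw [CharNoDiv.cj_cj, mul_inv_cancel, CharNoDiv.cj_one']
      map_mul' := fun a b => CharNoDiv.cj_mul' g⁻¹ a b }) fun g h =>
    MulEquiv.ext fun l => by
      show RelDeg.cj (g * h)⁻¹ l = RelDeg.cj g⁻¹ (RelDeg.cj h⁻¹ l)
      rw [CharNoDiv.cj_cj, mul_inv_rev]

omit [Finite G] in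
theorem linAct_fix {M : Subgroup G} [M.Normal] {g : G} {l : M →* ℂˣ} :
    linAct M g l = l ↔ g ∈ inertia (RelDeg.lf M l) := by
  show RelDeg.cj g⁻¹ l = l ↔ _
  rw [← CharNoDiv.mem_inertia_lf, inv_mem_iff]

omit [Finite G] in
theorem le_inertia_lin {M : Subgroup G} [M.Normal] (l : M →* ℂˣ) :
    (linAct M).ker ≤ inertia (RelDeg.lf M l) := fun g hg =>
  linAct_fix.1 (by rw [MonoidHom.mem_ker.1 hg]; rfl)

/-- The characters of a finite abelian group separate its points. -/
theorem exists_lin_ne_one {M : Subgroup G} (hM : ∀ a ∈ M, ∀ b ∈ M, a * b = b * a) {m : M}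
    (hm : m ≠ 1) : ∃ l : M →* ℂˣ, l m ≠ 1 := by
  letI : CommGroup M :=
    { (inferInstance : Group M) with mul_comm := fun a b => Subtype.ext (hM a a.2 b b.2) }
  exact CommGroup.exists_apply_ne_one_of_hasEnoughRootsOfUnity M ℂ hm

theorem mem_ker_linAct {M : Subgroup G} [hMn : M.Normal] (hM : ∀ a ∈ M, ∀ b ∈ M, a * b = b * a)
    {g : G} : g ∈ (linAct M).ker ↔ ∀ m ∈ M, g * m = m * g := by
  constructor
  · intro hg m hm
    by_contra hne
    have hne' : (⟨g * m * g⁻¹, hMn.conj_mem m hm g⟩ : M) * (⟨m, hm⟩ : M)⁻¹ ≠ 1 := fun e => hne (by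
      have := congrArg Subtype.val (mul_inv_eq_one.1 e)
      exact mul_inv_eq_iff_eq_mul.1 this)
    obtain ⟨l, hl⟩ := exists_lin_ne_one hM hne'
    have h1 := congrFun (mem_inertia.1 (le_inertia_lin l hg)) ⟨m, hm⟩
    rw [map_mul, map_inv, Units.ext h1] at hl
    exact hl (mul_inv_cancel _)
  · intro h
    rw [MonoidHom.mem_ker]
    refine MulEquiv.ext fun l => ?_
    rw [MulAut.one_apply, linAct_fix, mem_inertia]
    funext m
    refine congrArg (fun w : M => ((l w : ℂˣ) : ℂ)) (Subtype.ext ?_)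
    show g * (m : G) * g⁻¹ = m
    rw [h m m.2, mul_inv_cancel_right]

/-- Good Sylow subgroups for both primes at all inertia groups are incompatible. -/
theorem false_of_good [Group.IsSolvable G] (M N : Subgroup G) [N.Normal] (hM : Core.IsMinNormal M)
    (hMab : ∀ a ∈ M, ∀ b ∈ M, a * b = b * a)
    (hNc : ∀ n ∈ N, ∀ m ∈ M, n * m = m * n) (q r : ℕ) [hq : Fact q.Prime] [hr : Fact r.Prime]
    (hqr : q ≠ r)
    (hgood : ∀ l : M →* ℂˣ, l ≠ 1 → haveI := hM.normal;
      Good q N (inertia (RelDeg.lf M l)) ∧ Good r N (inertia (RelDeg.lf M l)))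
    (hdeg : ¬ DvdDeg (q * r) G)
    (hqi : q ∣ (Subgroup.centralizer (M : Set G)).index)
    (hri : r ∣ (Subgroup.centralizer (M : Set G)).index) : False := by
  classical
  haveI := hM.normal
  letI : CommGroup M :=
    { (inferInstance : Group M) with mul_comm := fun a b => Subtype.ext (hMab a a.2 b b.2) }
  haveI : Nontrivial M := (Subgroup.nontrivial_iff_ne_bot M).2 hM.ne_bot
  set V := (M →* ℂˣ)
  haveI : Finite V := inferInstance
  haveI : Nontrivial V := by
    obtain ⟨m, hm⟩ := exists_ne (1 : M)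
    obtain ⟨l, hl⟩ := exists_lin_ne_one hMab hm
    exact ⟨⟨l, 1, fun e => hl (by rw [e]; rfl)⟩⟩
  set K := (linAct M).ker with hK
  have hKC : K = Subgroup.centralizer (M : Set G) := by
    ext g
    rw [hK, mem_ker_linAct hMab]
    exact ⟨fun h m hm => (h m hm).symm, fun h m hm => (h m hm).symm⟩
  have hNK : N ≤ K := fun n hn => (mem_ker_linAct hMab).2 (hNc n hn)
  let φ := QuotientGroup.kerLift (linAct M)
  have hfaith : Function.Injective φ := QuotientGroup.kerLift_injective _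
  have hirr : ∀ W : Subgroup V, (∀ h, ∀ w ∈ W, φ h w ∈ W) → W = ⊥ ∨ W = ⊤ := by
    intro W hW
    let e := CommGroup.subgroupOrderIsoSubgroupMonoidHom M ℂ
    let M0 : Subgroup M := e.symm (OrderDual.toDual W)
    have hM0 : ∀ m : M, m ∈ M0 ↔ ∀ l ∈ W, l m = 1 := fun m =>
      by
        simp only [M0, e]; exact CommGroup.mem_subgroupOrderIsoSubgroupMonoidHom_symm_iff ..
    have hn : (M0.map M.subtype).Normal := ⟨by
      rintro _ ⟨m, hm, rfl⟩ g
      refine ⟨⟨g * m * g⁻¹, hM.normal.conj_mem m m.2 g⟩, (hM0 _).2 fun l hl => ?_, rfl⟩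
      have h1 : RelDeg.cj g l ∈ W := by
        have := hW (QuotientGroup.mk g⁻¹) l hl
        rw [QuotientGroup.kerLift_mk] at this
        simpa [linAct] using this
      exact (hM0 m).1 hm _ h1⟩
    have he : OrderDual.toDual W = e M0 := (e.apply_symm_apply _).symm
    rcases hM.eq_of_le _ hn (Subgroup.map_subtype_le _) with h | h
    · right
      rw [Subgroup.map_eq_bot_iff_of_injective _ M.subtype_injective] at h
      rw [h, map_bot] at he
      exact congrArg OrderDual.ofDual he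
    · left
      have h' : M0 = ⊤ := Subgroup.map_injective M.subtype_injective
        (by rw [h, ← MonoidHom.range_eq_map, Subgroup.range_subtype])
      rw [h', map_top] at he
      exact congrArg OrderDual.ofDual he
  have hspread : ∀ t : ℕ, ∀ _ : Fact t.Prime,
      (∀ l : M →* ℂˣ, l ≠ 1 → Good t N (inertia (RelDeg.lf M l))) → Spread t φ := by
    intro t _ hg l hl
    obtain ⟨S, hSI, hSn, -⟩ := hg l hl
    refine ⟨S.mapSurjective (QuotientGroup.mk'_surjective K), ?_, ?_⟩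
    · rintro _ ⟨x, hx, rfl⟩
      rw [QuotientGroup.mk'_apply, QuotientGroup.kerLift_mk]
      exact linAct_fix.2 (hSI hx)
    · intro h hh
      obtain ⟨g, rfl⟩ := QuotientGroup.mk'_surjective K h
      rw [QuotientGroup.mk'_apply, QuotientGroup.kerLift_mk] at hh
      rintro _ ⟨x, hx, rfl⟩
      have h2 : ((S : Subgroup G) ⊔ N).map (QuotientGroup.mk' K) =
          (S : Subgroup G).map (QuotientGroup.mk' K) := by
        rw [Subgroup.map_sup, sup_eq_left]
        refine le_trans (Subgroup.map_mono hNK) ?_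
        rw [(Subgroup.map_eq_bot_iff _).2 (by rw [QuotientGroup.ker_mk'])]
        exact bot_le
      rw [← map_inv, ← map_mul, ← map_mul, Sylow.coe_mapSurjective, ← h2]
      exact ⟨_, hSn g (linAct_fix.1 hh) x hx, rfl⟩
  have hidx : ∀ {t : ℕ}, t ∣ (Subgroup.centralizer (M : Set G)).index → t ∣ Nat.card (G ⧸ K) :=
    fun {t} ht => by rwa [← Subgroup.index_eq_card, hKC]
  have hd : ¬ DvdDeg (q * r) (G ⧸ K) := fun h => hdeg (h.of_quotient K)
  have hsq := hspread q hq fun l hl => (hgood l hl).1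
  have hsr := hspread r hr fun l hl => (hgood l hl).2
  by_cases hr2 : r = 2
  · exact spread_false hfaith hirr r q hqr.symm (fun e => hqr (e.trans hr2.symm)) (hidx hri)
      (hidx hqi) hsr hsq (by rwa [mul_comm])
  · exact spread_false hfaith hirr q r hqr hr2 (hidx hqi) (hidx hri) hsq hsr hd

end Cfsg.Agent.Palfy
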