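import Mathlib
import Cfsg.Agent.Palfy.Transfer
import Cfsg.Agent.Char.DerivedPrime
import Cfsg.Agent.Char.FeitThompsonIneq
import Cfsg.Agent.Char.Glauberman.AboveSolvable

/-!
# Characters of a normal Sylow subgroup with small derived subgroup
-/

set_option autoImplicit false
set_option linter.style.haveILetI false

namespace Cfsg.Agent.Palfy

open Cfsg.Agent.Char

universe u

noncomputable local instance (priority := 100000) linGroupA {H : Type*} [Group H] {K : Subgroup H} :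
    CommGroup (K →* ℂˣ) := MonoidHom.instCommGroup

variable {G : Type u} [Group G] [Finite G] {p : ℕ} [hp : Fact p.Prime]

/-- A subgroup containing a normal Sylow subgroup has coprime index over it. -/
theorem coprime_index {P : Sylow p G} [(P : Subgroup G).Normal] {I : Subgroup G}
    (hPI : (P : Subgroup G) ≤ I) :
    (Nat.card ((P : Subgroup G).subgroupOf I)).Coprime ((P : Subgroup G).subgroupOf I).index := by
  rw [Nat.card_congr (Subgroup.subgroupOfEquivOfLe hPI).toEquiv]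
  obtain ⟨a, ha⟩ := IsPGroup.iff_card.1 P.isPGroup'
  rw [ha]
  refine Nat.Coprime.pow_left a ((hp.out.coprime_iff_not_dvd).2 fun h => P.not_dvd_index ?_)
  rw [← Subgroup.relIndex_mul_index hPI]
  exact h.mul_right _

/-- Characters of a normal Sylow subgroup extend to their inertia groups. -/
theorem exists_inertia_extension {P : Sylow p G} [(P : Subgroup G).Normal] {θ : ↥(P : Subgroup G) → ℂ}
    (hθ : Cfsg.IsIrrCharacter (P : Subgroup G) θ) :
    ∃ η : inertia θ → ℂ, Cfsg.IsIrrCharacter (inertia θ) η ∧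
      ∀ (n : ↥(P : Subgroup G)) (h : (n : G) ∈ inertia θ), η ⟨n, h⟩ = θ n := by
  haveI := Fintype.ofFinite G
  have hPI : (P : Subgroup G) ≤ inertia θ := le_inertia (isClassFunction_of_isIrr hθ)
  let e := Subgroup.subgroupOfEquivOfLe hPI
  obtain ⟨η, hη, hres⟩ := exists_coprime_extension ((P : Subgroup G).subgroupOf (inertia θ))
    ((isIrrCharacter_comp_equiv e).2 hθ) (coprime_index hPI) (fun g n => by
      have := congrFun (mem_inertia.1 g.2) (e n)
      exact this)
  exact ⟨η, hη, fun n h => hres ⟨⟨n, h⟩, n.2⟩⟩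

omit [Finite G] in
/-- A subgroup generated by a Sylow subgroup and a normal one meets all Sylow subgroups. -/
theorem le_of_not_dvd_index [Finite G] {q : ℕ} [hq : Fact q.Prime] {N : Subgroup G} [N.Normal]
    {S : Sylow q G} (hL : ((S : Subgroup G) ⊔ N).Normal) {J : Subgroup G} (hNJ : N ≤ J)
    (hJ : ¬ q ∣ J.index) : (S : Subgroup G) ≤ J := by
  haveI := hL
  obtain ⟨T⟩ : Nonempty (Sylow q J) := inferInstance
  have hTi : ¬ q ∣ ((T : Subgroup J).map J.subtype).index := by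
    rw [Subgroup.index_map_subtype]
    exact fun h => ((hq.out.dvd_mul).1 h).elim T.not_dvd_index hJ
  let S' : Sylow q G := (T.isPGroup'.map J.subtype).toSylow hTi
  obtain ⟨y, hy⟩ := MulAction.exists_smul_eq G S S'
  have hle : (S : Subgroup G) ≤ (S : Subgroup G) ⊔ N := le_sup_left
  have hle' : (S' : Subgroup G) ≤ (S : Subgroup G) ⊔ N := by
    rw [← hy, Sylow.coe_subgroup_smul]
    rintro _ ⟨x, hx, rfl⟩
    exact hL.conj_mem x (hle hx) y
  obtain ⟨z, hz⟩ := MulAction.exists_smul_eq ((S : Subgroup G) ⊔ N : Subgroup G)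
    (S.subtype hle) (S'.subtype hle')
  have hz2 := z.2
  rw [← SetLike.mem_coe, Subgroup.mul_normal (S : Subgroup G) N] at hz2
  obtain ⟨s, hs, n, hn, hsn⟩ := hz2
  change s * n = (z : G) at hsn
  intro x hx
  have hx1 : s⁻¹ * x * s ∈ (S : Subgroup G) := mul_mem (mul_mem (inv_mem hs) hx) hs
  have hn2 : n ∈ N := hn
  have hsN : s * n * s⁻¹ ∈ N := (inferInstance : N.Normal).conj_mem n hn2 s
  have h1 : z * (⟨s⁻¹ * x * s, hle hx1⟩ : ((S : Subgroup G) ⊔ N : Subgroup G)) * z⁻¹ ∈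
      ((z • S.subtype hle : Sylow q ((S : Subgroup G) ⊔ N : Subgroup G)) : Subgroup _) := by
    rw [Sylow.coe_subgroup_smul]
    exact ⟨⟨s⁻¹ * x * s, hle hx1⟩, hx1, rfl⟩
  rw [hz] at h1
  have h2 : (z : G) * (s⁻¹ * x * s) * (z : G)⁻¹ ∈ J := Subgroup.map_subtype_le _ h1
  rw [← hsn, show s * n * (s⁻¹ * x * s) * (s * n)⁻¹ = s * n * s⁻¹ * x * (s * n * s⁻¹)⁻¹ by group] at h2
  have h3 := mul_mem (mul_mem (inv_mem (hNJ hsN)) h2) (hNJ hsN)
  rwa [show (s * n * s⁻¹)⁻¹ * (s * n * s⁻¹ * x * (s * n * s⁻¹)⁻¹) * (s * n * s⁻¹) = x by group] at h3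

variable {P M : Subgroup G}

/-- Irreducible characters of `P` are homogeneous on a central subgroup. -/
theorem exists_restrict_hom [M.Normal] (hMc : ∀ x ∈ P, ∀ m ∈ M, x * m = m * x) {θ : P → ℂ}
    (hθ : Cfsg.IsIrrCharacter P θ) :
    ∃ ω : M.subgroupOf P →* ℂˣ, ∀ z : M.subgroupOf P, θ z = θ 1 * (ω z : ℂ) := by
  haveI := Fintype.ofFinite P
  obtain ⟨ω, hω⟩ := Char.exists_central_hom hθ
  have hle : M.subgroupOf P ≤ Subgroup.center P := fun z hz =>
    Subgroup.mem_center_iff.2 fun x => Subtype.ext (hMc x x.2 z hz)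
  exact ⟨ω.comp (Subgroup.inclusion hle), fun z => hω ⟨z, hle z.2⟩⟩

/-- Over a non-trivial character of the derived subgroup. -/
theorem dvd_degree_of_over (hP : IsPGroup p P) (hgen : M ≤ ⁅P, P⁆) (hMP : M ≤ P)
    {l : M →* ℂˣ} (hl : l ≠ 1) {θ : P → ℂ} (hθ : Cfsg.IsIrrCharacter P θ) {d : ℕ} (hd : θ 1 = d)
    (hres : ∀ m : M, θ ⟨m, hMP m.2⟩ = d * (l m : ℂ)) : p ∣ d := by
  haveI := Fintype.ofFinite P
  obtain ⟨a, ha⟩ := IsPGroup.iff_card.1 hP
  obtain ⟨k, -, hk⟩ := (Nat.dvd_prime_pow hp.out).1 (ha ▸ IsIrr.degree_dvd_card hθ hd)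
  rcases Nat.eq_zero_or_pos k with rfl | hk0
  · exfalso
    rw [pow_zero] at hk
    subst hk
    refine hl (MonoidHom.ext fun m => Units.ext ?_)
    have hm : (⟨m, hMP m.2⟩ : P) ∈ commutator P := by
      have h1 := hgen m.2
      rw [← Subgroup.map_subtype_commutator] at h1
      obtain ⟨w, hw, hwm⟩ := h1
      rwa [show (⟨m, hMP m.2⟩ : P) = w from Subtype.ext hwm.symm]
    have h2 := apply_commutator_of_linear (IsIrr.isCharacter hθ) (by simpa using hd) hm
    rw [hres, Nat.cast_one, one_mul] at h2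
    simpa using h2
  · exact hk ▸ dvd_pow_self p hk0.ne'

/-- A stable character over each character of the derived subgroup. -/
theorem exists_stable {P : Sylow p G} [hPn : (P : Subgroup G).Normal] [hMn : M.Normal]
    (hMP : M ≤ (P : Subgroup G)) (hMc : ∀ x ∈ (P : Subgroup G), ∀ m ∈ M, x * m = m * x)
    (l : M →* ℂˣ) :
    ∃ (θ : ↥(P : Subgroup G) → ℂ) (d : ℕ), Cfsg.IsIrrCharacter (P : Subgroup G) θ ∧ θ 1 = d ∧
      inertia θ = inertia (RelDeg.lf M l) ∧
      ∀ m : M, θ ⟨m, hMP m.2⟩ = d * (l m : ℂ) := by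
  classical
  set P' : Subgroup G := (P : Subgroup G)
  set I := inertia (RelDeg.lf M l) with hI
  haveI := Fintype.ofFinite G
  haveI := Fintype.ofFinite P'
  have hPI : P' ≤ I := fun x hx => by
    rw [hI, mem_inertia]
    funext m
    refine congrArg (fun w : M => ((l w : ℂˣ) : ℂ)) (Subtype.ext ?_)
    show x * (m : G) * x⁻¹ = m
    rw [hMc x hx m m.2, mul_inv_cancel_right]
  obtain ⟨T, hT⟩ := Subgroup.exists_right_complement'_of_coprime (coprime_index hPI)
  let a : T →* MulAut P' := (MulAut.conjNormal (H := P')).comp (I.subtype.comp T.subtype)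
  let M' := M.subgroupOf P'
  haveI := Fintype.ofFinite M'
  let e : M' ≃* M := Subgroup.subgroupOfEquivOfLe hMP
  let l' : M' →* ℂˣ := l.comp e.toMonoidHom
  have hinv : ∀ (t : T), ∀ x ∈ M', a t x ∈ M' := fun t x hx => hMn.conj_mem _ hx _
  have hcop : M'.index.Coprime (Nat.card T) := by
    have h1 : Nat.card T = (P'.subgroupOf I).index := hT.symm.index_eq_card.symm
    have h2 := coprime_index (P := P) hPI
    rw [Nat.card_congr (Subgroup.subgroupOfEquivOfLe hPI).toEquiv] at h2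
    rw [h1]
    exact h2.coprime_dvd_left (Subgroup.index_dvd_card M')
  haveI : Group.IsSolvable (P' ⧸ M') := by
    haveI := (P.isPGroup'.isNilpotent)
    infer_instance
  obtain ⟨θ, hθinv, hθm⟩ := Glauberman.exists_inv_over _ a M' hinv ⟨_, isIrrCharacter_hom l'⟩ rfl hcop
    inferInstance (fun t n => by
      refine congrArg (fun w : M => ((l w : ℂˣ) : ℂ)) ?_ |>.trans
        (congrFun (mem_inertia.1 (t : I).2) (e n))
      exact Subtype.ext rfl)
  obtain ⟨d, -, hd⟩ := IsIrr.degree θ.2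
  obtain ⟨ω, hω⟩ := exists_restrict_hom hMc θ.2
  have hωl : ω = l' := by
    by_contra hne
    refine hθm ?_
    have h1 := Glauberman.mult_spec M' θ ⟨_, isIrrCharacter_hom l'⟩
    have h2 : (fun n : M' => (θ : P' → ℂ) n) = (θ : P' → ℂ) 1 • fun n => (ω n : ℂ) := funext hω
    rw [h2, classInner_smul_left, classInner_irr_ne (isIrrCharacter_hom ω) (isIrrCharacter_hom l')
      (fun he => hne (MonoidHom.ext fun x => Units.ext (congrFun he x))), mul_zero] at h1
    exact_mod_cast h1.symm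
  have hres : ∀ m : M, (θ : P' → ℂ) ⟨m, hMP m.2⟩ = d * (l m : ℂ) := fun m => by
    have h1 := hω ⟨⟨m, hMP m.2⟩, m.2⟩
    rw [hωl, hd] at h1
    exact h1
  refine ⟨θ, d, θ.2, hd, le_antisymm (fun g hg => ?_) (fun g hg => ?_), hres⟩
  · rw [hI, mem_inertia]
    funext m
    have h1 := congrFun (mem_inertia.1 hg) ⟨m, hMP m.2⟩
    have h2 := hres ⟨g * m * g⁻¹, hMn.conj_mem m m.2 g⟩
    have h3 := hres m
    have hd0 : (d : ℂ) ≠ 0 := hd ▸ IsIrr.one_ne_zero θ.2
    refine mul_left_cancel₀ hd0 ?_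
    show (d : ℂ) * (l _ : ℂ) = d * (l m : ℂ)
    rw [← h2, ← h3]
    exact h1
  · have hT' : ∀ t : T, ((t : I) : G) ∈ inertia (θ : P' → ℂ) := fun t => by
      rw [mem_inertia]
      funext x
      exact hθinv t x
    obtain ⟨⟨x, t⟩, hxt⟩ := hT.2 ⟨g, hg⟩
    have : g = ((x : I) : G) * ((t : I) : G) := (congrArg Subtype.val hxt).symm
    rw [this]
    exact mul_mem (le_inertia (isClassFunction_of_isIrr θ.2) x.2) (hT' t)

end Cfsg.Agent.Palfy
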