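import Mathlib
import Cfsg.Agent.Palfy.Transfer

/-!
# Counting the fixed point spaces of spreading Sylow subgroups
-/

set_option autoImplicit false
set_option linter.style.haveILetI false

namespace Cfsg.Agent.Palfy

universe u v

variable {G : Type u} [Group G] [Finite G] {V : Type u} [CommGroup V] [Finite V]

/-- The fixed point spaces of the Sylow subgroups modulo `N` partition the module. -/
theorem count_fixed (φ : G →* MulAut V) (N : Subgroup G) [hNn : N.Normal]
    (hNfix : ∀ n ∈ N, φ n = 1) (t : ℕ) [Fact t.Prime]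
    (hg : ∀ v : V, v ≠ 1 → Good t N (stb φ v)) (S₀ : Sylow t G) :
    Nat.card V - 1 = Nat.card {L : Subgroup G // ∃ S : Sylow t G, L = (S : Subgroup G) ⊔ N} *
      (Nat.card (fixed φ ((S₀ : Subgroup G) ⊔ N)) - 1) := by
  classical
  set 𝓛 := {L : Subgroup G // ∃ S : Sylow t G, L = (S : Subgroup G) ⊔ N}
  haveI : Fintype 𝓛 := Fintype.ofFinite _
  haveI : Fintype V := Fintype.ofFinite _
  set L₀ := (S₀ : Subgroup G) ⊔ N with hL₀
  have hconj : ∀ L : 𝓛, ∃ y : G, L₀.map (MulAut.conj y).toMonoidHom = L.1 := by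
    rintro ⟨L, S, rfl⟩
    obtain ⟨y, hy⟩ := MulAction.exists_smul_eq G S₀ S
    refine ⟨y, ?_⟩
    rw [hL₀, Subgroup.map_sup]
    congr 1
    · rw [← hy, Sylow.coe_subgroup_smul]
      rfl
    · refine le_antisymm ?_ fun x hx => ⟨y⁻¹ * x * y, ?_, by simp [mul_assoc]⟩
      · rintro _ ⟨x, hx, rfl⟩
        exact hNn.conj_mem x hx y
      · simpa using hNn.conj_mem x hx y⁻¹
  have hcard : ∀ L : 𝓛, Nat.card {v : fixed φ L.1 // v ≠ 1} = Nat.card (fixed φ L₀) - 1 := by
    intro L
    obtain ⟨y, hy⟩ := hconj L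
    have hiff : ∀ v : V, φ y v ∈ fixed φ L.1 ↔ v ∈ fixed φ L₀ := by
      intro v
      constructor
      · intro h k hk
        have h1 := h (y * k * y⁻¹) (hy ▸ ⟨k, hk, rfl⟩)
        rw [← MulAut.mul_apply, ← map_mul, inv_mul_cancel_right, map_mul, MulAut.mul_apply] at h1
        exact (φ y).injective h1
      · intro h
        refine fixed_conj (fun k hk => ?_) h
        rw [← hy] at hk
        obtain ⟨a, ha, rfl⟩ := hk
        simpa [mul_assoc] using ha
    have e : Nat.card (fixed φ L.1) = Nat.card (fixed φ L₀) :=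
      (Nat.card_congr ((φ y).toEquiv.subtypeEquiv fun v => (hiff v).symm)).symm
    rw [← e]
    haveI : Fintype (fixed φ L.1) := Fintype.ofFinite _
    rw [Nat.card_eq_fintype_card, Nat.card_eq_fintype_card, Fintype.card_subtype_compl,
      Fintype.card_subtype_eq]
  let F : (Σ L : 𝓛, {v : fixed φ L.1 // v ≠ 1}) → {v : V // v ≠ 1} := fun x =>
    ⟨((x.2.1 : fixed φ x.1.1) : V), fun e => x.2.2 (Subtype.ext e)⟩
  have hbij : Function.Bijective F := by
    constructor
    · rintro ⟨L, ⟨⟨v, hv⟩, hv1⟩⟩ ⟨L', ⟨⟨v', hv'⟩, hv1'⟩⟩ e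
      obtain rfl : v = v' := congrArg Subtype.val e
      obtain rfl : L = L' := by
        obtain ⟨Sv, -, hSn, -⟩ := hg v fun h => hv1 (Subtype.ext h)
        have huniq : ∀ K : 𝓛, v ∈ fixed φ K.1 → K.1 = (Sv : Subgroup G) ⊔ N := by
          intro K hK
          obtain ⟨S, hS⟩ := K.2
          have hle : (S : Subgroup G) ≤ (Sv : Subgroup G) ⊔ N := le_of_good hSn S.isPGroup' fun x hx =>
            hK x (hS ▸ Subgroup.mem_sup_left hx)
          have hcardL : ∀ K : 𝓛, Nat.card K.1 = Nat.card L₀ := fun K => by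
            obtain ⟨y, hy⟩ := hconj K
            rw [← hy]
            exact (Nat.card_congr (L₀.equivMapOfInjective _ (MulAut.conj y).injective).toEquiv).symm
          refine Subgroup.eq_of_le_of_card_ge (hS ▸ sup_le hle le_sup_right) ?_
          rw [hcardL K, ← hcardL ⟨_, Sv, rfl⟩]
        exact Subtype.ext ((huniq L hv).trans (huniq L' hv').symm)
      rfl
    · rintro ⟨v, hv⟩
      obtain ⟨S, hS, -, -⟩ := hg v hv
      have hfix : v ∈ fixed φ ((S : Subgroup G) ⊔ N) := fun k hk =>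
        (sup_le hS (fun n hn => show φ n v = v by rw [hNfix n hn, MulAut.one_apply]) :
          (S : Subgroup G) ⊔ N ≤ stb φ v) hk
      exact ⟨⟨⟨_, S, rfl⟩, ⟨⟨v, hfix⟩, fun e => hv (congrArg Subtype.val e)⟩⟩, rfl⟩
  have h1 := Nat.card_congr (Equiv.ofBijective F hbij)
  rw [Nat.card_sigma, Finset.sum_congr rfl fun L _ => hcard L, Finset.sum_const, Finset.card_univ,
    smul_eq_mul, ← Nat.card_eq_fintype_card] at h1
  rw [h1, Nat.card_eq_fintype_card, Nat.card_eq_fintype_card (α := {v : V // v ≠ 1}),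
    Fintype.card_subtype_compl, Fintype.card_subtype_eq]

/-- Two such partitions with the same number of parts have the same size. -/
theorem eq_of_partitions {p : ℕ} (hp : p.Prime) {n M c W w : ℕ} {d e a b : ℕ} (hM : M = p ^ d)
    (hc : c = p ^ e) (hW : W = p ^ a) (hw : w = p ^ b) (h1 : M - 1 = n * (c - 1))
    (h2 : W - 1 = n * (w - 1)) (he : 0 < e) (hed : e < d) (hW1 : 1 < W) : M = W := by
  obtain ⟨hM0, hc0, hW0, hw0⟩ : 0 < M ∧ 0 < c ∧ 0 < W ∧ 0 < w := by
    subst hM hc hW hw
    exact ⟨pow_pos hp.pos _, pow_pos hp.pos _, pow_pos hp.pos _, pow_pos hp.pos _⟩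
  have hc2 : 2 ≤ c := hc ▸ Nat.one_lt_pow he.ne' hp.one_lt
  have hcM : c < M := hM ▸ hc ▸ Nat.pow_lt_pow_right hp.one_lt hed
  have hn2 : 2 ≤ n := by
    rcases Nat.lt_or_ge n 2 with h | h
    · interval_cases n <;> omega
    · exact h
  have hw2 : 2 ≤ w := by
    by_contra h
    rw [show w - 1 = 0 by omega, mul_zero] at h2
    omega
  have hwW : w < W := by
    have : 2 * (w - 1) ≤ n * (w - 1) := Nat.mul_le_mul_right _ hn2
    omega
  have key : ∀ {X x : ℕ} {i j : ℕ}, X = p ^ i → x = p ^ j → 0 < j → x < X → X - 1 = n * (x - 1) →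
      x ∣ n - 1 ∧ ¬ p * x ∣ n - 1 := by
    intro X x i j hX hx hj hlt heq
    have hx2 : 2 ≤ x := hx ▸ Nat.one_lt_pow hj.ne' hp.one_lt
    have h3 : (n - 1) * (x - 1) = X - x := by
      rw [Nat.sub_mul, one_mul, ← heq]
      omega
    have hji : j < i := by
      by_contra h
      have := Nat.pow_le_pow_right hp.pos (not_lt.1 h)
      omega
    have hdvd : p * x ∣ X := by
      rw [hX, hx, ← pow_succ']
      exact Nat.pow_dvd_pow p hji
    constructor
    · have hd : x ∣ (n - 1) * (x - 1) := h3 ▸ Nat.dvd_sub ((dvd_mul_left x p).trans hdvd) dvd_rfl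
      refine (Nat.Coprime.dvd_mul_right ?_).1 hd
      rw [Nat.coprime_comm, Nat.coprime_self_sub_left (by omega)]
      exact Nat.coprime_one_left x
    · intro hd
      have h4 : p * x ∣ X - x := h3 ▸ hd.mul_right _
      have h5 : p * x ∣ x := by
        have h6 := Nat.dvd_sub hdvd h4
        rwa [Nat.sub_sub_self hlt.le] at h6
      have := Nat.le_of_dvd (by omega) h5
      have := Nat.mul_le_mul_right x hp.two_le
      omega
  have hb : 0 < b := by
    rcases Nat.eq_zero_or_pos b with rfl | h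
    · rw [pow_zero] at hw; omega
    · exact h
  obtain ⟨hc1, hc3⟩ := key hM hc he hcM h1
  obtain ⟨hw1, hw3⟩ := key hW hw hb hwW h2
  have heb : e = b := by
    rcases lt_trichotomy e b with h | h | h
    · exact absurd (Nat.dvd_trans (by rw [hc, hw, ← pow_succ']; exact Nat.pow_dvd_pow p h) hw1) hc3
    · exact h
    · exact absurd (Nat.dvd_trans (by rw [hc, hw, ← pow_succ']; exact Nat.pow_dvd_pow p h) hc1) hw3
  subst heb
  rw [hw, ← hc] at h2
  omega

end Cfsg.Agent.Palfy
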