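import Mathlib
import Cfsg.Agent.Palfy.CaseATools
import Cfsg.Agent.Palfy.Count

/-!
# Palfy's condition when the Sylow subgroup is not abelian
-/

set_option autoImplicit false
set_option linter.style.haveILetI false

namespace Cfsg.Agent.Palfy

open Cfsg.Agent.Char

universe u

noncomputable local instance (priority := 100000) linGroupA' {H : Type*} [Group H] {K : Subgroup H} :
    CommGroup (K →* ℂˣ) := MonoidHom.instCommGroup

variable {G : Type u} [Group G] [Finite G]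

section Setup

variable {p t : ℕ} [hp : Fact p.Prime] [ht : Fact t.Prime] {P : Sylow p G}
  [hPn : (P : Subgroup G).Normal] {M : Subgroup G} [hMn : M.Normal] {S : Sylow t G}

omit hMn in
/-- An element of prime to `p` order stabilising a chain modulo a subgroup. -/
theorem mem_of_chain {x d : G} {k : ℕ} (hk : x ^ t ^ k = 1) (hpt : p ≠ t) (hdP : d ∈ (P : Subgroup G))
    {N : Subgroup G} [N.Normal] {z : G} (hd : x * d * x⁻¹ * d⁻¹ ∈ N)
    (hz : z⁻¹ * (x * z * x⁻¹) * d⁻¹ ∈ N) : d ∈ N := by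
  let mk := QuotientGroup.mk' N
  have hker : ∀ {a : G}, a ∈ N → mk a = 1 := fun h => (QuotientGroup.eq_one_iff _).2 h
  have h1 : mk x * mk d * (mk x)⁻¹ = mk d := by
    have := hker hd
    rwa [map_mul, map_mul, map_mul, map_inv, map_inv, mul_inv_eq_one] at this
  have h2 : mk x * mk z * (mk x)⁻¹ = mk z * mk d := by
    have := hker hz
    rwa [map_mul, map_mul, map_mul, map_mul, map_inv, map_inv, map_inv, mul_inv_eq_one,
      inv_mul_eq_iff_eq_mul] at this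
  have hn : ∀ n : ℕ, mk x ^ n * mk z * (mk x ^ n)⁻¹ = mk z * mk d ^ n := fun n => by
    induction n with
    | zero => simp
    | succ n ih =>
      calc mk x ^ (n + 1) * mk z * (mk x ^ (n + 1))⁻¹
          = mk x * (mk x ^ n * mk z * (mk x ^ n)⁻¹) * (mk x)⁻¹ := by rw [pow_succ']; group
        _ = (mk x * mk z * (mk x)⁻¹) * (mk x * mk d ^ n * (mk x)⁻¹) := by rw [ih]; group
        _ = mk z * mk d ^ (n + 1) := by rw [h2, ← conj_pow, h1, pow_succ', mul_assoc]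
  have h3 := hn (t ^ k)
  rw [← map_pow mk x, hk, map_one, one_mul, inv_one, mul_one] at h3
  have h4 := left_eq_mul.1 h3
  obtain ⟨i, hi⟩ := P.isPGroup' ⟨d, hdP⟩
  have h5 : mk d ^ p ^ i = 1 := by
    rw [← map_pow, show d ^ p ^ i = 1 by simpa using congrArg Subtype.val hi, map_one]
  have h6 := Nat.dvd_gcd (orderOf_dvd_of_pow_eq_one h5) (orderOf_dvd_of_pow_eq_one h4)
  rw [Nat.Coprime.pow i k ((Nat.coprime_primes hp.out ht.out).2 hpt), Nat.dvd_one,
    orderOf_eq_one_iff] at h6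
  exact (QuotientGroup.eq_one_iff _).1 h6

/-- A Sylow subgroup centralising the quotient and the derived subgroup centralises everything. -/
theorem not_centralising (hpt : p ≠ t) (hnorm : ((S : Subgroup G) ⊔ (P : Subgroup G)).Normal)
    (hSc : ∀ x ∈ (S : Subgroup G), ∀ y ∈ (S : Subgroup G), x * y * x⁻¹ * y⁻¹ ∈ (P : Subgroup G))
    (hdt : DvdDeg t G) (hSM : ∀ x ∈ (S : Subgroup G), ∀ m ∈ M, x * m = m * x) :
    ∃ y ∈ (P : Subgroup G), ∃ x ∈ (S : Subgroup G), x * y * x⁻¹ * y⁻¹ ∉ M := by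
  by_contra! hall
  have hdisj : (S : Subgroup G) ⊓ (P : Subgroup G) = ⊥ :=
    disjoint_iff.1 (IsPGroup.disjoint_of_ne t p hpt.symm _ _ S.isPGroup' P.isPGroup')
  have hcen : ∀ x ∈ (S : Subgroup G), ∀ y ∈ (P : Subgroup G), x * y = y * x := by
    intro x hx y hy
    obtain ⟨k, hk⟩ := S.isPGroup' ⟨x, hx⟩
    set d := y⁻¹ * (x * y * x⁻¹) with hd
    have hdM : d ∈ M := by
      rw [hd, show y⁻¹ * (x * y * x⁻¹) = y⁻¹ * (x * y * x⁻¹ * y⁻¹) * y⁻¹⁻¹ by group]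
      exact hMn.conj_mem _ (hall y hy x hx) y⁻¹
    have h1 : d ∈ (⊥ : Subgroup G) := mem_of_chain (P := P) (z := y) (k := k)
      (by simpa using congrArg Subtype.val hk) hpt
      (mul_mem (inv_mem hy) (hPn.conj_mem y hy x)) (by
        rw [Subgroup.mem_bot, hSM x hx d hdM, mul_inv_cancel_right, mul_inv_cancel]) (by
        rw [Subgroup.mem_bot]; exact mul_inv_cancel _)
    rw [Subgroup.mem_bot, hd, inv_mul_eq_one] at h1
    exact (mul_inv_eq_iff_eq_mul.1 h1.symm)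
  refine not_dvdDeg_of_sylow S ?_ (fun x hx y hy => ?_) hdt
  · haveI := hnorm
    have hle : (S : Subgroup G) ≤ (S : Subgroup G) ⊔ (P : Subgroup G) := le_sup_left
    let S' := S.subtype hle
    have hS'n : (S' : Subgroup ↥((S : Subgroup G) ⊔ (P : Subgroup G))).Normal := by
      rw [Sylow.coe_subtype, Subgroup.normal_subgroupOf_iff_le_normalizer hle]
      refine sup_le Subgroup.le_normalizer fun y hy => ?_
      rw [Subgroup.mem_normalizer_iff]
      intro x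
      constructor
      · intro hx
        rwa [← hcen x hx y hy, mul_inv_cancel_right]
      · intro hx
        have := hcen _ hx y hy
        rwa [show x = y⁻¹ * (y * x * y⁻¹) * y by group, mul_assoc, this, inv_mul_cancel_left]
    haveI := S'.characteristic_of_normal hS'n
    have : ((S' : Subgroup ↥((S : Subgroup G) ⊔ (P : Subgroup G))).map
        ((S : Subgroup G) ⊔ (P : Subgroup G)).subtype).Normal := inferInstance
    rwa [Sylow.coe_subtype, Subgroup.map_subgroupOf_eq_of_le hle] at this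
  · have h1 : x * y * x⁻¹ * y⁻¹ ∈ (S : Subgroup G) ⊓ (P : Subgroup G) :=
      ⟨(S : Subgroup G).mul_mem ((S : Subgroup G).mul_mem ((S : Subgroup G).mul_mem hx hy)
        ((S : Subgroup G).inv_mem hx)) ((S : Subgroup G).inv_mem hy), hSc x hx y hy⟩
    rw [hdisj, Subgroup.mem_bot, mul_inv_eq_one, mul_inv_eq_iff_eq_mul] at h1
    exact h1

/-- The Sylow subgroup moves some linear character. -/
theorem exists_moved (hM : ∀ x ∈ (P : Subgroup G), ∀ y ∈ (P : Subgroup G), x * y * x⁻¹ * y⁻¹ ∈ M)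
    (hex : ∃ y ∈ (P : Subgroup G), ∃ x ∈ (S : Subgroup G), x * y * x⁻¹ * y⁻¹ ∉ M) :
    ∃ μ : ↥(P : Subgroup G) →* ℂˣ,
      ¬ (S : Subgroup G) ≤ inertia (RelDeg.lf (P : Subgroup G) μ) := by
  obtain ⟨y, hy, x, hx, hne⟩ := hex
  let P' : Subgroup G := (P : Subgroup G)
  let M' := M.subgroupOf P'
  letI : CommGroup (P' ⧸ M') :=
    { (inferInstance : Group (P' ⧸ M')) with
      mul_comm := fun a b => Quotient.inductionOn₂' a b fun e f => by
        refine QuotientGroup.eq.2 ?_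
        show (((e * f : P') : G))⁻¹ * ((f * e : P') : G) ∈ M
        push_cast
        rw [show ((e : G) * f)⁻¹ * (f * e) = (f : G)⁻¹ * (e : G)⁻¹ * (f : G)⁻¹⁻¹ * (e : G)⁻¹⁻¹ by
          group]
        exact hM _ (inv_mem f.2) _ (inv_mem e.2) }
  let w : P' := ⟨x * y * x⁻¹, hPn.conj_mem y hy x⟩ * ⟨y, hy⟩⁻¹
  obtain ⟨ν, hν⟩ := CommGroup.exists_apply_ne_one_of_hasEnoughRootsOfUnity (P' ⧸ M') ℂ
    (a := (w : P' ⧸ M')) fun e => hne ((QuotientGroup.eq_one_iff w).1 e)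
  refine ⟨ν.comp (QuotientGroup.mk' M'), fun hle => hν ?_⟩
  have h1 : (ν.comp (QuotientGroup.mk' M')) ⟨x * y * x⁻¹, hPn.conj_mem y hy x⟩ =
      (ν.comp (QuotientGroup.mk' M')) ⟨y, hy⟩ :=
    Units.ext (congrFun (mem_inertia.1 (hle hx)) ⟨y, hy⟩)
  show (ν.comp (QuotientGroup.mk' M')) w = 1
  rw [map_mul, map_inv, h1, mul_inv_cancel]

/-- An element acting without moving a nonlinear character. -/
theorem apply_ne_zero {Q : Subgroup G} (hMc : ∀ x ∈ Q, ∀ m ∈ M, x * m = m * x)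
    {θ : Q → ℂ} (hθ : Cfsg.IsIrrCharacter Q θ) {y : Q}
    (hy : ∀ x : Q, θ (x * y * x⁻¹ * y⁻¹) = θ 1) : θ y ≠ 0 := by
  haveI := Fintype.ofFinite Q
  set K := kerSubgroup (IsIrr.isCharacter hθ) with hK
  haveI : K.Normal := ⟨fun n hn g => by
    show θ (g * n * g⁻¹) = θ 1
    rw [(isClassFunction_of_isIrr hθ) n g]
    exact hn⟩
  haveI := Fintype.ofFinite (Q ⧸ K)
  obtain ⟨φ, hφ, he⟩ := IsIrr.exists_quotient K hθ fun n hn => hn
  have hc : (y : Q ⧸ K) ∈ Subgroup.center (Q ⧸ K) := Subgroup.mem_center_iff.2 fun g => by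
    obtain ⟨x, rfl⟩ := QuotientGroup.mk_surjective g
    have hxy : ((x * y * x⁻¹ * y⁻¹ : Q) : Q ⧸ K) = 1 := (QuotientGroup.eq_one_iff _).2 (hy x)
    rw [QuotientGroup.mk_mul, QuotientGroup.mk_mul, QuotientGroup.mk_mul, QuotientGroup.mk_inv,
      QuotientGroup.mk_inv, mul_inv_eq_one, mul_inv_eq_iff_eq_mul] at hxy
    exact hxy
  obtain ⟨c, hc1, hcv⟩ := exists_scalar_of_center hφ hc
  rw [he, show φ (y : Q ⧸ K) = c * φ 1 by simpa using hcv 1]
  refine mul_ne_zero (fun e => ?_) (IsIrr.one_ne_zero hφ)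
  rw [e, norm_zero] at hc1
  exact zero_ne_one hc1

end Setup

/-- The linear characters of `P` killing a normal subgroup, as a module. -/
def killed (P C : Subgroup G) : Subgroup (P →* ℂˣ) where
  carrier := {μ | ∀ x : P, (x : G) ∈ C → μ x = 1}
  one_mem' := fun _ _ => rfl
  mul_mem' := fun {a b} ha hb x hx => by rw [MonoidHom.mul_apply, ha x hx, hb x hx, one_mul]
  inv_mem' := fun {a} ha x hx => by rw [MonoidHom.inv_apply, ha x hx, inv_one]

theorem linAct_killed {P C : Subgroup G} [hPn : P.Normal] [hC : C.Normal] (g : G) {μ : P →* ℂˣ}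
    (hμ : μ ∈ killed P C) : linAct P g μ ∈ killed P C := fun x hx => by
  show RelDeg.cj g⁻¹ μ x = 1
  exact hμ _ (hC.conj_mem _ hx g⁻¹)


/-- Both primes centralise the derived subgroup. -/
theorem two_central [Group.IsSolvable G] {p q r : ℕ} [hp : Fact p.Prime] [hq : Fact q.Prime]
    [hr : Fact r.Prime] {M : Subgroup G} [M.Normal] {P : Sylow p G} [hPn : (P : Subgroup G).Normal]
    (hder : ∀ x ∈ (P : Subgroup G), ∀ y ∈ (P : Subgroup G), x * y * x⁻¹ * y⁻¹ ∈ M)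
    {Q : Sylow q G} {R : Sylow r G} (hQn : ((Q : Subgroup G) ⊔ (P : Subgroup G)).Normal)
    (hRn : ((R : Subgroup G) ⊔ (P : Subgroup G)).Normal)
    (hQex : ∃ y ∈ (P : Subgroup G), ∃ x ∈ (Q : Subgroup G), x * y * x⁻¹ * y⁻¹ ∉ M)
    (hRex : ∃ y ∈ (P : Subgroup G), ∃ x ∈ (R : Subgroup G), x * y * x⁻¹ * y⁻¹ ∉ M)
    (hqr : q ≠ r) (h3 : ¬ DvdDeg (q * r) G) : False := by
  classical
  obtain ⟨μ, hμ⟩ := exists_moved hder hQex
  obtain ⟨ν, hν⟩ := exists_moved hder hRex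
  have hmul : ∀ {T : Subgroup G} {a b : ↥(P : Subgroup G) →* ℂˣ},
      T ≤ inertia (RelDeg.lf (P : Subgroup G) a) → T ≤ inertia (RelDeg.lf (P : Subgroup G) (a * b)) →
      T ≤ inertia (RelDeg.lf (P : Subgroup G) b) := by
    intro T a b ha hab x hx
    have h1 := CharNoDiv.mem_inertia_lf.1 (ha hx)
    have h2 := CharNoDiv.mem_inertia_lf.1 (hab hx)
    rw [CharNoDiv.cj_mul', h1] at h2
    exact CharNoDiv.mem_inertia_lf.2 (mul_left_cancel h2)
  obtain ⟨κ, hκq, hκr⟩ : ∃ κ : ↥(P : Subgroup G) →* ℂˣ,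
      ¬ (Q : Subgroup G) ≤ inertia (RelDeg.lf (P : Subgroup G) κ) ∧
      ¬ (R : Subgroup G) ≤ inertia (RelDeg.lf (P : Subgroup G) κ) := by
    by_cases hμr : (R : Subgroup G) ≤ inertia (RelDeg.lf (P : Subgroup G) μ)
    swap
    · exact ⟨μ, hμ, hμr⟩
    by_cases hνq : (Q : Subgroup G) ≤ inertia (RelDeg.lf (P : Subgroup G) ν)
    swap
    · exact ⟨ν, hνq, hν⟩
    exact ⟨μ * ν, fun h => hμ (hmul hνq (by rwa [mul_comm])), fun h => hν (hmul hμr h)⟩
  have hPI : (P : Subgroup G) ≤ inertia (RelDeg.lf (P : Subgroup G) κ) :=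
    le_inertia (CharNoDiv.lf_classFun κ)
  refine h3 ((dvdDeg_inertia (P : Subgroup G) (θ := RelDeg.lf (P : Subgroup G) κ)
    (isIrrCharacter_hom κ) (d := 1) (by simp [RelDeg.lf])).of_dvd ?_)
  rw [mul_one]
  exact ((Nat.coprime_primes hq.out hr.out).2 hqr).mul_dvd_of_dvd_of_dvd
    (by_contra fun hn => hκq (le_of_not_dvd_index hQn hPI hn))
    (by_contra fun hn => hκr (le_of_not_dvd_index hRn hPI hn))

set_option maxHeartbeats 1000000 in
/-- Exactly one prime centralises the derived subgroup. -/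
theorem one_prime [Group.IsSolvable G] {p q r : ℕ} [hp : Fact p.Prime] [hq : Fact q.Prime]
    [hr : Fact r.Prime] (M : Subgroup G) (hM : Core.IsMinNormal M)
    (hMab : ∀ a ∈ M, ∀ b ∈ M, a * b = b * a) {P : Sylow p G} [hPn : (P : Subgroup G).Normal]
    (hMP : M ≤ (P : Subgroup G)) (hMc : ∀ x ∈ (P : Subgroup G), ∀ m ∈ M, x * m = m * x)
    (hder : ∀ x ∈ (P : Subgroup G), ∀ y ∈ (P : Subgroup G), x * y * x⁻¹ * y⁻¹ ∈ M)
    (hgen : M ≤ ⁅(P : Subgroup G), (P : Subgroup G)⁆)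
    (hpq : p ≠ q) (hpr : p ≠ r) (hqr : q ≠ r) (Q : Sylow q G)
    (hQn : ((Q : Subgroup G) ⊔ (P : Subgroup G)).Normal)
    (hQM : ∀ x ∈ (Q : Subgroup G), ∀ m ∈ M, x * m = m * x)
    (hQex : ∃ y ∈ (P : Subgroup G), ∃ x ∈ (Q : Subgroup G), x * y * x⁻¹ * y⁻¹ ∉ M)
    (hgood : ∀ (t : ℕ) (_ : Fact t.Prime), p ≠ t → ¬ DvdDeg (p * t) G → ∀ l : M →* ℂˣ, l ≠ 1 →
      haveI := hM.normal; Good t (P : Subgroup G) (inertia (RelDeg.lf M l)))
    (hri : r ∣ (Subgroup.centralizer (M : Set G)).index)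
    (h1 : ¬ DvdDeg (p * q) G) (h2 : ¬ DvdDeg (p * r) G) (h3 : ¬ DvdDeg (q * r) G) : False := by
  classical
  haveI hMn := hM.normal
  haveI := Fintype.ofFinite G
  haveI := Fintype.ofFinite (P : Subgroup G)
  set P' : Subgroup G := (P : Subgroup G) with hP'
  have hcomm : ∀ {a b : G}, a ∈ P' → b ∈ P' → a * b * a⁻¹ * b⁻¹ ∈ M := fun ha hb => hder _ ha _ hb
  -- the elements fixed modulo `M`
  let C0 : Subgroup G :=
    { carrier := {x | x ∈ P' ∧ ∀ s ∈ (Q : Subgroup G), s * x * s⁻¹ * x⁻¹ ∈ M}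
      one_mem' := ⟨one_mem _, fun s _ => by simp⟩
      mul_mem' := fun {a b} ha hb => ⟨mul_mem ha.1 hb.1, fun s hs => by
        rw [show s * (a * b) * s⁻¹ * (a * b)⁻¹ =
          (s * a * s⁻¹ * a⁻¹) * (a * (s * b * s⁻¹ * b⁻¹) * a⁻¹) by group]
        exact mul_mem (ha.2 s hs) (hMn.conj_mem _ (hb.2 s hs) a)⟩
      inv_mem' := fun {a} ha => ⟨inv_mem ha.1, fun s hs => by
        rw [show s * a⁻¹ * s⁻¹ * a⁻¹⁻¹ = a⁻¹ * (s * a * s⁻¹ * a⁻¹)⁻¹ * a⁻¹⁻¹ by group]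
        exact hMn.conj_mem _ (inv_mem (ha.2 s hs)) a⁻¹⟩ }
  haveI hC0n : C0.Normal := ⟨fun x hx g => ⟨hPn.conj_mem x hx.1 g, fun s hs => by
    have hs' : g⁻¹ * s * g ∈ (Q : Subgroup G) ⊔ P' := by
      simpa using hQn.conj_mem s (Subgroup.mem_sup_left hs) g⁻¹
    rw [← SetLike.mem_coe, Subgroup.mul_normal (Q : Subgroup G) P'] at hs'
    obtain ⟨v, hv, z, hz, hvz⟩ := hs'
    change v * z = g⁻¹ * s * g at hvz
    rw [show s * (g * x * g⁻¹) * s⁻¹ * (g * x * g⁻¹)⁻¹ =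
      g * ((g⁻¹ * s * g) * x * (g⁻¹ * s * g)⁻¹ * x⁻¹) * g⁻¹ by group]
    refine hMn.conj_mem _ ?_ g
    rw [← hvz, show v * z * x * (v * z)⁻¹ * x⁻¹ =
      v * (z * x * z⁻¹ * x⁻¹) * v⁻¹ * (v * x * v⁻¹ * x⁻¹) by group]
    exact mul_mem (hMn.conj_mem _ (hcomm hz hx.1) v) (hx.2 v hv)⟩⟩
  have hMC0 : M ≤ C0 := fun m hm => ⟨hMP hm, fun s hs => by
    rw [hQM s hs m hm, mul_inv_cancel_right, mul_inv_cancel]; exact one_mem M⟩
  -- the module of linear characters killing `C0`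
  set W := killed P' C0 with hW
  let φW : G →* MulAut W := MonoidHom.mk' (fun g =>
    { toFun := fun μ => ⟨linAct P' g μ, linAct_killed g μ.2⟩
      invFun := fun μ => ⟨linAct P' g⁻¹ μ, linAct_killed g⁻¹ μ.2⟩
      left_inv := fun μ => Subtype.ext (by
        show linAct P' g⁻¹ (linAct P' g μ) = μ
        rw [← MulAut.mul_apply, ← map_mul, inv_mul_cancel, map_one, MulAut.one_apply])
      right_inv := fun μ => Subtype.ext (by
        show linAct P' g (linAct P' g⁻¹ μ) = μ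
        rw [← MulAut.mul_apply, ← map_mul, mul_inv_cancel, map_one, MulAut.one_apply])
      map_mul' := fun a b => Subtype.ext (map_mul (linAct P' g) (a : P' →* ℂˣ) b) }) fun g h =>
    MulEquiv.ext fun μ => Subtype.ext (by
      show linAct P' (g * h) μ = linAct P' g (linAct P' h μ)
      rw [map_mul, MulAut.mul_apply])
  have hstbW : ∀ μ : W, stb φW μ = inertia (RelDeg.lf P' μ) := fun μ => by
    ext g
    exact Subtype.ext_iff.trans linAct_fix
  -- the characters in `W` moved by `Q`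
  let M' := M.subgroupOf P'
  letI : CommGroup (P' ⧸ M') :=
    { (inferInstance : Group (P' ⧸ M')) with
      mul_comm := fun a b => Quotient.inductionOn₂' a b fun e f => by
        refine QuotientGroup.eq.2 ?_
        show (((e * f : P') : G))⁻¹ * ((f * e : P') : G) ∈ M
        push_cast
        rw [show ((e : G) * f)⁻¹ * (f * e) = (f : G)⁻¹ * (e : G)⁻¹ * (f : G)⁻¹⁻¹ * (e : G)⁻¹⁻¹ by
          group]
        exact hcomm (inv_mem f.2) (inv_mem e.2) }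
  have hpw : ∀ x : P', ∃ k, x ^ p ^ k = 1 := fun x => P.isPGroup' x
  have hmoved : ∀ μ : W, μ ≠ 1 → ¬ (Q : Subgroup G) ≤ inertia (RelDeg.lf P' μ) := by
    intro μ hμ hle
    refine hμ (Subtype.ext (MonoidHom.ext fun x => ?_))
    haveI : Fintype (Q : Subgroup G) := Fintype.ofFinite _
    let cjs : ↥(Q : Subgroup G) → P' := fun s => ⟨s * x * (s : G)⁻¹, hPn.conj_mem x x.2 s⟩
    obtain ⟨z, hz⟩ := QuotientGroup.mk_surjective (∏ s : (Q : Subgroup G), (cjs s : P' ⧸ M'))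
    have hzC : (z : G) ∈ C0 := by
      refine ⟨z.2, fun s hs => ?_⟩
      let σ : P' →* P' := (MulAut.conjNormal (H := P') s).toMonoidHom
      let σq : P' ⧸ M' →* P' ⧸ M' := QuotientGroup.map M' M' σ fun a ha => hMn.conj_mem _ ha s
      have h1 : σq (z : P' ⧸ M') = z := by
        rw [hz, map_prod]
        refine Fintype.prod_equiv (Equiv.mulLeft (⟨s, hs⟩ : (Q : Subgroup G))) _ _ fun w => ?_
        refine congrArg (fun a : P' => (a : P' ⧸ M')) (Subtype.ext ?_)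
        show s * ((w : G) * x * (w : G)⁻¹) * s⁻¹ = s * (w : G) * x * (s * (w : G))⁻¹
        group
      have h2 : ((σ z : P') : P' ⧸ M') = (z : P' ⧸ M') := h1
      have h3 := QuotientGroup.eq.1 h2.symm
      have h4 : (z : G)⁻¹ * (s * z * s⁻¹) ∈ M := h3
      rw [show s * (z : G) * s⁻¹ * (z : G)⁻¹ = (z : G) * ((z : G)⁻¹ * (s * z * s⁻¹)) * (z : G)⁻¹ by group]
      exact hMn.conj_mem _ h4 z
    have hμM : M' ≤ (μ : P' →* ℂˣ).ker := fun a ha => μ.2 a (hMC0 ha)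
    let μq : P' ⧸ M' →* ℂˣ := QuotientGroup.lift M' μ hμM
    have h5 : ∀ s : (Q : Subgroup G), μq (cjs s : P' ⧸ M') = (μ : P' →* ℂˣ) x := fun s =>
      Units.ext (congrFun (mem_inertia.1 (hle s.2)) x)
    have h6 : μq (z : P' ⧸ M') = 1 := μ.2 z hzC
    rw [hz, map_prod, Finset.prod_congr rfl fun s _ => h5 s, Finset.prod_const, Finset.card_univ,
      ← Nat.card_eq_fintype_card] at h6
    obtain ⟨k, hk⟩ := hpw x
    have h7 : (μ : P' →* ℂˣ) x ^ p ^ k = 1 := by rw [← map_pow, hk, map_one]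
    obtain ⟨j, hj⟩ := IsPGroup.iff_card.1 Q.isPGroup'
    rw [hj] at h6
    have h8 := Nat.dvd_gcd (orderOf_dvd_of_pow_eq_one h7) (orderOf_dvd_of_pow_eq_one h6)
    rw [Nat.Coprime.pow k j ((Nat.coprime_primes hp.out hq.out).2 hpq), Nat.dvd_one,
      orderOf_eq_one_iff] at h8
    exact h8
  have hgoodW : ∀ μ : W, μ ≠ 1 → Good r P' (stb φW μ) := by
    intro μ hμ
    rw [hstbW]
    obtain ⟨η, hη, hres⟩ := exists_inertia_extension (P := P)
      (θ := RelDeg.lf P' (μ : P' →* ℂˣ)) (isIrrCharacter_hom _)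
    refine good_of_pair P' (isIrrCharacter_hom _) (d := 1) (by simp [RelDeg.lf]) hη hres hq.out hqr
      ?_ h3
    rw [mul_one]
    exact by_contra fun hn => hmoved μ hμ (le_of_not_dvd_index hQn
      (le_inertia (CharNoDiv.lf_classFun _)) hn)
  -- the element defining the embedding
  obtain ⟨x₁, hx₁, s₁, hs₁, hy₁⟩ : ∃ x ∈ P', ∃ s ∈ (Q : Subgroup G), s * x * s⁻¹ * x⁻¹ ∉ C0 := by
    by_contra! hall
    obtain ⟨x, hx, s, hs, hne⟩ := hQex
    obtain ⟨k, hk⟩ := Q.isPGroup' ⟨s, hs⟩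
    set d := x⁻¹ * (s * x * s⁻¹) with hd
    have hdP : d ∈ P' := mul_mem (inv_mem hx) (hPn.conj_mem x hx s)
    have hdC : d ∈ C0 := by
      rw [hd, show x⁻¹ * (s * x * s⁻¹) = x⁻¹ * (s * x * s⁻¹ * x⁻¹) * x⁻¹⁻¹ by group]
      exact hC0n.conj_mem _ (hall x hx s hs) x⁻¹
    have hdM : d ∈ M := mem_of_chain (P := P) (z := x) (k := k)
      (by simpa using congrArg Subtype.val hk) hpq hdP (hdC.2 s hs) (by
        rw [hd, mul_inv_cancel]; exact one_mem M)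
    refine hne ?_
    rw [show s * x * s⁻¹ * x⁻¹ = x * d * x⁻¹ by rw [hd]; group]
    exact hMn.conj_mem _ hdM x
  set y := s₁ * x₁ * s₁⁻¹ * x₁⁻¹ with hy
  have hyP : y ∈ P' := mul_mem (hPn.conj_mem x₁ hx₁ s₁) (inv_mem hx₁)
  -- the commutator maps
  have hbr : ∀ (l : M →* ℂˣ) {a b c : G} (ha : a ∈ P') (hb : b ∈ P') (hc : c ∈ P'),
      l ⟨a * b * c * (a * b)⁻¹ * c⁻¹, hcomm (mul_mem ha hb) hc⟩ =
        l ⟨a * c * a⁻¹ * c⁻¹, hcomm ha hc⟩ * l ⟨b * c * b⁻¹ * c⁻¹, hcomm hb hc⟩ := by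
    intro l a b c ha hb hc
    rw [← map_mul]
    refine congrArg l (Subtype.ext ?_)
    show _ = a * c * a⁻¹ * c⁻¹ * (b * c * b⁻¹ * c⁻¹)
    have hzc := hMc a ha _ (hcomm hb hc)
    have hzc2 := hMc _ (mul_mem (mul_mem (mul_mem ha hc) (inv_mem ha)) (inv_mem hc)) _ (hcomm hb hc)
    calc a * b * c * (a * b)⁻¹ * c⁻¹ = a * (b * c * b⁻¹ * c⁻¹) * (c * a⁻¹ * c⁻¹) := by group
      _ = (b * c * b⁻¹ * c⁻¹) * a * (c * a⁻¹ * c⁻¹) := by rw [hzc]
      _ = (b * c * b⁻¹ * c⁻¹) * (a * c * a⁻¹ * c⁻¹) := by group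
      _ = _ := hzc2.symm
  have hsymm : ∀ (l : M →* ℂˣ) {a b : G} (ha : a ∈ P') (hb : b ∈ P'),
      l ⟨b * a * b⁻¹ * a⁻¹, hcomm hb ha⟩ = (l ⟨a * b * a⁻¹ * b⁻¹, hcomm ha hb⟩)⁻¹ := by
    intro l a b ha hb
    rw [← map_inv]
    exact congrArg l (Subtype.ext (by show _ = (a * b * a⁻¹ * b⁻¹)⁻¹; group))
  let Fy : (M →* ℂˣ) → (P' →* ℂˣ) := fun l =>
    MonoidHom.mk' (fun x => l ⟨(x : G) * y * (x : G)⁻¹ * y⁻¹, hcomm x.2 hyP⟩)
      fun a b => hbr l a.2 b.2 hyP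
  have hFC : ∀ l, Fy l ∈ W := by
    intro l c hc
    -- the pairing with a fixed element is invariant
    show l ⟨(c : G) * y * (c : G)⁻¹ * y⁻¹, hcomm c.2 hyP⟩ = 1
    have hinvar : l ⟨(c : G) * (s₁ * x₁ * s₁⁻¹) * (c : G)⁻¹ * (s₁ * x₁ * s₁⁻¹)⁻¹,
        hcomm c.2 (hPn.conj_mem x₁ hx₁ s₁)⟩ = l ⟨(c : G) * x₁ * (c : G)⁻¹ * x₁⁻¹, hcomm c.2 hx₁⟩ := by
      refine congrArg l (Subtype.ext ?_)
      show (c : G) * (s₁ * x₁ * s₁⁻¹) * (c : G)⁻¹ * (s₁ * x₁ * s₁⁻¹)⁻¹ =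
        (c : G) * x₁ * (c : G)⁻¹ * x₁⁻¹
      have hcm := hc.2 s₁ hs₁
      set u := s₁ * (c : G) * s₁⁻¹ * (c : G)⁻¹
      have hsc : s₁ * (c : G) * s₁⁻¹ = u * c := by simp only [u]; group
      have hfix : s₁ * ((c : G) * x₁ * (c : G)⁻¹ * x₁⁻¹) * s₁⁻¹ = (c : G) * x₁ * (c : G)⁻¹ * x₁⁻¹ := by
        rw [hQM s₁ hs₁ _ (hcomm c.2 hx₁), mul_inv_cancel_right]
      have hu : ∀ a ∈ P', a * u = u * a := fun a ha => hMc a ha u hcm
      calc (c : G) * (s₁ * x₁ * s₁⁻¹) * (c : G)⁻¹ * (s₁ * x₁ * s₁⁻¹)⁻¹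
          = (u * c) * (s₁ * x₁ * s₁⁻¹) * (u * c)⁻¹ * (s₁ * x₁ * s₁⁻¹)⁻¹ := by
            have e := hu _ (mul_mem (mul_mem (c.2 : (c : G) ∈ P') (hPn.conj_mem x₁ hx₁ s₁)) (inv_mem c.2))
            calc _ = (c : G) * (s₁ * x₁ * s₁⁻¹) * (c : G)⁻¹ * u * u⁻¹ * (s₁ * x₁ * s₁⁻¹)⁻¹ := by group
              _ = _ := by rw [e]; group
        _ = s₁ * ((c : G) * x₁ * (c : G)⁻¹ * x₁⁻¹) * s₁⁻¹ := by rw [← hsc]; group
        _ = _ := hfix
    have hsplit : l ⟨(c : G) * y * (c : G)⁻¹ * y⁻¹, hcomm c.2 hyP⟩ =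
        l ⟨(c : G) * (s₁ * x₁ * s₁⁻¹) * (c : G)⁻¹ * (s₁ * x₁ * s₁⁻¹)⁻¹,
          hcomm c.2 (hPn.conj_mem x₁ hx₁ s₁)⟩ *
        l ⟨(c : G) * x₁⁻¹ * (c : G)⁻¹ * x₁⁻¹⁻¹, hcomm c.2 (inv_mem hx₁)⟩ := by
      have e1 := hbr l (hPn.conj_mem x₁ hx₁ s₁) (inv_mem hx₁) (c.2 : (c : G) ∈ P')
      rw [hsymm l (mul_mem (hPn.conj_mem x₁ hx₁ s₁) (inv_mem hx₁)) (c.2 : (c : G) ∈ P'), e1,
        mul_inv, ← hsymm l (hPn.conj_mem x₁ hx₁ s₁) (c.2 : (c : G) ∈ P'),
        ← hsymm l (inv_mem hx₁) (c.2 : (c : G) ∈ P')]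
    rw [hsplit, hinvar]
    have e2 := hbr l hx₁ (inv_mem hx₁) (c.2 : (c : G) ∈ P')
    have e3 : l ⟨x₁ * x₁⁻¹ * c * (x₁ * x₁⁻¹)⁻¹ * (c : G)⁻¹, hcomm (mul_mem hx₁ (inv_mem hx₁)) c.2⟩ = 1 := by
      rw [← map_one l]
      exact congrArg l (Subtype.ext (by show _ = (1 : G); group))
    rw [hsymm l hx₁ (c.2 : (c : G) ∈ P'), hsymm l (inv_mem hx₁) (c.2 : (c : G) ∈ P'), ← mul_inv,
      ← e2, e3, inv_one]
  have hFinj : ∀ l : M →* ℂˣ, Fy l = 1 → l = 1 := by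
    intro l hFl
    by_contra hl
    obtain ⟨θ, d, hθ, hd, -, hres⟩ := exists_stable hMP hMc l
    have hpd := dvd_degree_of_over P.isPGroup' hgen hMP hl hθ hd hres
    have hne : θ ⟨y, hyP⟩ ≠ 0 := apply_ne_zero (M := M) hMc hθ fun x => by
      have := hres ⟨(x : G) * y * (x : G)⁻¹ * y⁻¹, hcomm x.2 hyP⟩
      rw [show l ⟨(x : G) * y * (x : G)⁻¹ * y⁻¹, hcomm x.2 hyP⟩ = 1 from
        DFunLike.congr_fun hFl x, Units.val_one, mul_one, ← hd] at this
      rw [← this]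
      exact congrArg θ (Subtype.ext rfl)
    have hfix : ∀ (θ' : P' → ℂ), Cfsg.IsIrrCharacter P' θ' → θ' 1 = d →
        (Q : Subgroup G) ≤ inertia θ' := fun θ' hθ' hd' => by
      refine le_of_not_dvd_index hQn (le_inertia (isClassFunction_of_isIrr hθ')) fun hdiv => h1 ?_
      exact (dvdDeg_inertia P' hθ' hd').of_dvd (((Nat.coprime_primes hp.out hq.out).2 hpq).mul_dvd_of_dvd_of_dvd
        (hpd.mul_left _) (hdiv.mul_right _))
    refine hy₁ ⟨hyP, fun s hs => ?_⟩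
    by_contra hne'
    let w : P' := ⟨s * y * s⁻¹, hPn.conj_mem y hyP s⟩ * ⟨y, hyP⟩⁻¹
    obtain ⟨ν, hν⟩ := CommGroup.exists_apply_ne_one_of_hasEnoughRootsOfUnity (P' ⧸ M') ℂ
      (a := (w : P' ⧸ M')) fun e => hne' ((QuotientGroup.eq_one_iff w).1 e)
    let μ : P' →* ℂˣ := ν.comp (QuotientGroup.mk' M')
    have h4 := congrFun (mem_inertia.1 (hfix θ hθ hd hs)) ⟨y, hyP⟩
    have h5 := congrFun (mem_inertia.1 (hfix (θ * RelDeg.lf P' μ) (RelDeg.isIrr_mul_lf hθ μ)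
      (by simp [RelDeg.lf, hd]) hs)) ⟨y, hyP⟩
    simp only [conjFun, Pi.mul_apply] at h4 h5
    rw [h4] at h5
    have h6 := mul_left_cancel₀ hne h5
    refine hν ?_
    show μ w = 1
    rw [map_mul, map_inv, Units.ext h6, mul_inv_cancel]
  let F : (M →* ℂˣ) →* W := MonoidHom.mk' (fun l => ⟨Fy l, hFC l⟩) fun a b =>
    Subtype.ext (MonoidHom.ext fun x => rfl)
  have hFi : Function.Injective F := (injective_iff_map_eq_one F).2 fun l h =>
    hFinj l (congrArg Subtype.val h)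
  -- some member of `W` is outside the image
  letI : CommGroup M :=
    { (inferInstance : Group M) with mul_comm := fun a b => Subtype.ext (hMab a a.2 b b.2) }
  haveI : Finite (M →* ℂˣ) := inferInstance
  haveI : Finite (P' →* ℂˣ) :=
    Nat.finite_of_card_ne_zero (by rw [CharNoDiv.card_hom_eq_index]; exact Subgroup.index_ne_zero_of_finite)
  obtain ⟨wit, hwit⟩ : ∃ w : W, ∀ l, F l ≠ w := by
    letI : CommGroup (P' ⧸ C0.subgroupOf P') :=
      { (inferInstance : Group (P' ⧸ C0.subgroupOf P')) with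
        mul_comm := fun a b => Quotient.inductionOn₂' a b fun e f => by
          refine QuotientGroup.eq.2 ?_
          show (((e * f : P') : G))⁻¹ * ((f * e : P') : G) ∈ C0
          push_cast
          rw [show ((e : G) * f)⁻¹ * (f * e) = (f : G)⁻¹ * (e : G)⁻¹ * (f : G)⁻¹⁻¹ * (e : G)⁻¹⁻¹ by
            group]
          exact hMC0 (hcomm (inv_mem f.2) (inv_mem e.2)) }
    obtain ⟨ν, hν⟩ := CommGroup.exists_apply_ne_one_of_hasEnoughRootsOfUnity (P' ⧸ C0.subgroupOf P') ℂ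
      (a := ((⟨y, hyP⟩ : P') : P' ⧸ C0.subgroupOf P')) fun e =>
        hy₁ ((QuotientGroup.eq_one_iff (⟨y, hyP⟩ : P')).1 e)
    refine ⟨⟨ν.comp (QuotientGroup.mk' _), fun x hx => ?_⟩, fun l h => hν ?_⟩
    · show ν (x : P' ⧸ C0.subgroupOf P') = 1
      rw [(QuotientGroup.eq_one_iff x).2 hx, map_one]
    · have h4 := DFunLike.congr_fun (congrArg Subtype.val h) ⟨y, hyP⟩
      change l _ = ν ((⟨y, hyP⟩ : P') : P' ⧸ C0.subgroupOf P') at h4
      rw [← h4, ← map_one l]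
      exact congrArg l (Subtype.ext (by show y * y * y⁻¹ * y⁻¹ = 1; group))
  have hlt : Nat.card (M →* ℂˣ) < Nat.card W :=
    lt_of_le_of_ne (Nat.card_le_card_of_injective F hFi) fun e => by
      obtain ⟨l, hl⟩ := ((Nat.bijective_iff_injective_and_card F).2 ⟨hFi, e⟩).2 wit
      exact hwit l hl
  -- the two partitions
  let φM := linAct M
  have hstbM : ∀ l : M →* ℂˣ, stb φM l = inertia (RelDeg.lf M l) := fun l => by
    ext g
    exact linAct_fix
  obtain ⟨S₀⟩ : Nonempty (Sylow r G) := inferInstance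
  have hPM : ∀ n ∈ P', φM n = 1 := fun n hn => MonoidHom.mem_ker.1 ((mem_ker_linAct hMab).2 (hMc n hn))
  have hPW : ∀ n ∈ P', φW n = 1 := fun n hn => MulEquiv.ext fun μ => Subtype.ext (by
    show linAct P' n μ = μ
    exact linAct_fix.2 (le_inertia (CharNoDiv.lf_classFun _) hn))
  have cM := count_fixed φM P' hPM r (fun l hl => hstbM l ▸ hgood r hr hpr h2 l hl) S₀
  have cW := count_fixed φW P' hPW r hgoodW S₀
  set n := Nat.card {L : Subgroup G // ∃ S : Sylow r G, L = (S : Subgroup G) ⊔ P'}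
  obtain ⟨a₀, ha₀⟩ := IsPGroup.iff_card.1 P.isPGroup'
  have hMp : IsPGroup p M := P.isPGroup'.to_le hMP
  have hpowM : ∀ l : M →* ℂˣ, ∃ k : ℕ, l ^ p ^ k = 1 := fun l => by
    obtain ⟨k, hk⟩ := IsPGroup.iff_card.1 hMp
    refine ⟨k, MonoidHom.ext fun m => ?_⟩
    rw [MonoidHom.pow_apply, ← map_pow, ← hk, pow_card_eq_one', map_one, MonoidHom.one_apply]
  have hVp : IsPGroup p (M →* ℂˣ) := hpowM
  have hWp : IsPGroup p W := fun μ => by
    refine ⟨a₀, Subtype.ext (MonoidHom.ext fun x => ?_)⟩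
    rw [SubgroupClass.coe_pow, MonoidHom.pow_apply, ← map_pow, ← ha₀]
    show (μ : P' →* ℂˣ) (x ^ Nat.card P') = 1
    rw [pow_card_eq_one', map_one]
  obtain ⟨dM, hdM⟩ := IsPGroup.iff_card.1 hVp
  obtain ⟨dW, hdW⟩ := IsPGroup.iff_card.1 hWp
  obtain ⟨eM, heM⟩ := IsPGroup.iff_card.1 (hVp.to_subgroup (fixed φM ((S₀ : Subgroup G) ⊔ P')))
  obtain ⟨eW, heW⟩ := IsPGroup.iff_card.1 (hWp.to_subgroup (fixed φW ((S₀ : Subgroup G) ⊔ P')))
  obtain ⟨m₀, hm₀, hm₀1⟩ := M.bot_or_exists_ne_one.resolve_left hM.ne_bot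
  obtain ⟨l₀, hl₀⟩ := exists_lin_ne_one hMab (m := ⟨m₀, hm₀⟩) fun e => hm₀1 (congrArg Subtype.val e)
  haveI : Nontrivial (M →* ℂˣ) := ⟨⟨l₀, 1, fun e => hl₀ (by rw [e]; rfl)⟩⟩
  have hV2 : 1 < Nat.card (M →* ℂˣ) := Finite.one_lt_card
  have hcM : fixed φM ((S₀ : Subgroup G) ⊔ P') ≠ ⊤ := by
    intro htop
    have hle : (S₀ : Subgroup G) ≤ Subgroup.centralizer (M : Set G) := fun x hx => by
      have : x ∈ φM.ker := MonoidHom.mem_ker.2 (MulEquiv.ext fun l =>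
        (htop ▸ Subgroup.mem_top l : l ∈ fixed φM ((S₀ : Subgroup G) ⊔ P')) x (Subgroup.mem_sup_left hx))
      exact fun m hm => ((mem_ker_linAct hMab).1 this m hm).symm
    exact S₀.not_dvd_index (hri.trans (Subgroup.index_dvd_of_le hle))
  have he0 : 0 < eM := by
    rcases Nat.eq_zero_or_pos eM with rfl | h
    · rw [heM, pow_zero, Nat.sub_self, mul_zero] at cM
      omega
    · exact h
  have hed : eM < dM := (Nat.pow_lt_pow_iff_right hp.out.one_lt).1 (by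
    rw [← heM, ← hdM]
    exact lt_of_le_of_ne (Subgroup.card_le_card_group _) fun e => hcM (Subgroup.eq_top_of_card_eq _ e))
  have := eq_of_partitions hp.out hdM heM hdW heW cM cW he0 hed (by omega)
  omega


set_option maxHeartbeats 1000000 in
/-- The case of a non-abelian normal Sylow subgroup. -/
theorem caseA [Group.IsSolvable G] (M : Subgroup G) (hM : Core.IsMinNormal M)
    (hMab : ∀ a ∈ M, ∀ b ∈ M, a * b = b * a) (p q r : ℕ)
    [hp : Fact p.Prime] [hq : Fact q.Prime] [hr : Fact r.Prime]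
    (hpq : p ≠ q) (hpr : p ≠ r) (hqr : q ≠ r) (P : Sylow p G) [hPn : (P : Subgroup G).Normal]
    (hMP : M ≤ (P : Subgroup G))
    (hder : ∀ x ∈ (P : Subgroup G), ∀ y ∈ (P : Subgroup G), x * y * x⁻¹ * y⁻¹ ∈ M)
    (hPna : ∃ x ∈ (P : Subgroup G), ∃ y ∈ (P : Subgroup G), x * y ≠ y * x)
    (hq' : DvdDeg q G) (hr' : DvdDeg r G)
    (h1 : ¬ DvdDeg (p * q) G) (h2 : ¬ DvdDeg (p * r) G) (h3 : ¬ DvdDeg (q * r) G) : False := by
  classical
  haveI := hM.normal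
  haveI := Fintype.ofFinite G
  haveI := Fintype.ofFinite (P : Subgroup G)
  -- `M` is the derived subgroup and is central
  have hgen : M ≤ ⁅(P : Subgroup G), (P : Subgroup G)⁆ := by
    refine ((hM.eq_of_le _ inferInstance (Subgroup.commutator_le.2 hder)).resolve_left fun e => ?_).ge
    obtain ⟨x, hx, y, hy, hne⟩ := hPna
    exact hne ((Subgroup.commutator_eq_bot_iff_le_centralizer.1 e) hx y hy).symm
  have hMc : ∀ x ∈ (P : Subgroup G), ∀ m ∈ M, x * m = m * x := by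
    let C := M ⊓ Subgroup.centralizer ((P : Subgroup G) : Set G)
    rcases hM.eq_of_le C inferInstance inf_le_left with hC | hC
    · exfalso
      letI : MulAction (P : Subgroup G) M :=
        MulAction.compHom M ((MulAut.conjNormal (H := M)).comp (P : Subgroup G).subtype)
      obtain ⟨m, hm, hm1⟩ := P.isPGroup'.exists_fixed_point_of_prime_dvd_card_of_fixed_point M
        (by
          obtain ⟨a, ha⟩ := IsPGroup.iff_card.1 (P.isPGroup'.to_le hMP)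
          rw [ha]
          refine dvd_pow_self p fun e => hM.ne_bot (Subgroup.card_eq_one.1 ?_)
          rw [ha, e, pow_zero]) (a := (1 : M)) fun x => map_one (MulAut.conjNormal (H := M) (x : G))
      have hmc : (m : G) ∈ C := ⟨m.2, fun x hx => by
        have := congrArg Subtype.val (hm ⟨x, hx⟩)
        exact mul_inv_eq_iff_eq_mul.1 this⟩
      rw [hC, Subgroup.mem_bot] at hmc
      exact hm1 (Subtype.ext hmc.symm)
    · exact fun x hx m hm => ((hC.symm ▸ hm : m ∈ C).2 x hx)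
  -- good Sylow subgroups
  have hgood : ∀ (t : ℕ) (_ : Fact t.Prime), p ≠ t → ¬ DvdDeg (p * t) G → ∀ l : M →* ℂˣ, l ≠ 1 →
      Good t (P : Subgroup G) (inertia (RelDeg.lf M l)) := by
    intro t _ hpt hno l hl
    obtain ⟨θ, d, hθ, hd, hI, hres⟩ := exists_stable hMP hMc l
    obtain ⟨η, hη, hηres⟩ := exists_inertia_extension hθ
    rw [← hI]
    exact good_of_pair _ hθ hd hη hηres hp.out hpt
      ((dvd_degree_of_over P.isPGroup' hgen hMP hl hθ hd hres).mul_left _) hno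
  obtain ⟨m₀, hm₀, hm₀1⟩ := M.bot_or_exists_ne_one.resolve_left hM.ne_bot
  obtain ⟨l₀, hl₀⟩ := exists_lin_ne_one hMab (m := ⟨m₀, hm₀⟩) fun e => hm₀1 (congrArg Subtype.val e)
  have hl₀1 : l₀ ≠ 1 := fun e => hl₀ (by rw [e]; rfl)
  -- a prime not dividing the index of the centraliser
  have hcent : ∀ (t : ℕ) (_ : Fact t.Prime), p ≠ t → ¬ DvdDeg (p * t) G → DvdDeg t G →
      ¬ t ∣ (Subgroup.centralizer (M : Set G)).index → ∃ S : Sylow t G,
        ((S : Subgroup G) ⊔ (P : Subgroup G)).Normal ∧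
          (∀ x ∈ (S : Subgroup G), ∀ m ∈ M, x * m = m * x) ∧
          ∃ y ∈ (P : Subgroup G), ∃ x ∈ (S : Subgroup G), x * y * x⁻¹ * y⁻¹ ∉ M := by
    intro t htF hpt hno hdt hn
    haveI := htF
    obtain ⟨S, -, hSn, hSc⟩ := hgood t htF hpt hno l₀ hl₀1
    have hSK : (S : Subgroup G) ≤ Subgroup.centralizer (M : Set G) := fun x hx => by
      obtain ⟨k, hk⟩ := S.isPGroup' ⟨x, hx⟩
      exact mem_of_not_dvd_index htF.out hn ⟨k, by simpa using congrArg Subtype.val hk⟩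
    have hnorm := sup_normal_of_good (N := (P : Subgroup G))
      (K := Subgroup.centralizer (M : Set G)) (fun g hg => by
        rw [mem_inertia]
        funext m
        refine congrArg (fun w : M => ((l₀ w : ℂˣ) : ℂ)) (Subtype.ext ?_)
        show g * (m : G) * g⁻¹ = m
        rw [← hg m m.2, mul_inv_cancel_right]) hSK hSn
    have hSM : ∀ x ∈ (S : Subgroup G), ∀ m ∈ M, x * m = m * x := fun x hx m hm => (hSK hx m hm).symm
    exact ⟨S, hnorm, hSM, not_centralising hpt hnorm hSc hdt hSM⟩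
  by_cases hqi : q ∣ (Subgroup.centralizer (M : Set G)).index
  swap
  · obtain ⟨Q, hQn, hQM, hQex⟩ := hcent q hq hpq h1 hq' hqi
    by_cases hri : r ∣ (Subgroup.centralizer (M : Set G)).index
    · exact one_prime M hM hMab hMP hMc hder hgen hpq hpr hqr Q hQn hQM hQex hgood hri h1 h2 h3
    · obtain ⟨R, hRn, hRM, hRex⟩ := hcent r hr hpr h2 hr' hri
      exact two_central hder hQn hRn hQex hRex hqr h3
  by_cases hri : r ∣ (Subgroup.centralizer (M : Set G)).index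
  · exact false_of_good M (P : Subgroup G) hM hMab hMc q r hqr
      (fun l hl => ⟨hgood q hq hpq h1 l hl, hgood r hr hpr h2 l hl⟩) h3 hqi hri
  · obtain ⟨R, hRn, hRM, hRex⟩ := hcent r hr hpr h2 hr' hri
    exact one_prime M hM hMab hMP hMc hder hgen hpr hpq hqr.symm R hRn hRM hRex hgood hqi h2 h1
      (by rwa [mul_comm])

end Cfsg.Agent.Palfy
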