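import Mathlib
import Cfsg.Agent.Palfy.Transfer

/-!
# Palfy's condition when the Sylow subgroup is abelian
-/

set_option autoImplicit false
set_option linter.style.haveILetI false

namespace Cfsg.Agent.Palfy

open Cfsg.Agent.Char

universe u

noncomputable local instance (priority := 100000) linGroupB {H : Type*} [Group H] {K : Subgroup H} :
    CommGroup (K →* ℂˣ) := MonoidHom.instCommGroup

variable {G : Type u} [Group G] [Finite G]

/-- A non-trivial linear character has a good Sylow subgroup for every partner prime. -/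
theorem caseB [Group.IsSolvable G] (M : Subgroup G) (hM : Core.IsMinNormal M) {m : ℕ}
    (hMab : ∀ a ∈ M, ∀ b ∈ M, a * b = b * a) (hMm : IsPGroup m M) (p q r : ℕ)
    [hp : Fact p.Prime] [hq : Fact q.Prime] [hr : Fact r.Prime]
    (hm : m.Prime) (hpm : p ≠ m) (hpq : p ≠ q) (hpr : p ≠ r) (hqr : q ≠ r) (P : Sylow p G)
    (hPM : ((P : Subgroup G) ⊔ M).Normal) (hPn : ¬ (P : Subgroup G).Normal)
    (hq' : DvdDeg q G) (hr' : DvdDeg r G)
    (h1 : ¬ DvdDeg (p * q) G) (h2 : ¬ DvdDeg (p * r) G) (h3 : ¬ DvdDeg (q * r) G) : False := by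
  classical
  haveI := hM.normal
  haveI := hPM
  haveI := Fact.mk hm
  have hdisj : (P : Subgroup G) ⊓ M = ⊥ :=
    disjoint_iff.1 (IsPGroup.disjoint_of_ne p m hpm _ _ P.isPGroup' hMm)
  set H := Subgroup.normalizer ((P : Subgroup G) : Set G) with hH
  have hfrat : ∀ g : G, ∃ h ∈ H, ∃ n ∈ M, g = n * h := by
    intro g
    haveI : Finite (Sylow p ((P : Subgroup G) ⊔ M : Subgroup G)) := inferInstance
    have htop := (P.subtype (le_sup_left : (P : Subgroup G) ≤ (P : Subgroup G) ⊔ M)).normalizer_sup_eq_top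
    rw [Sylow.coe_subtype, Subgroup.map_subgroupOf_eq_of_le le_sup_left] at htop
    have hle : Subgroup.normalizer ((P : Subgroup G) : Set G) ⊔ ((P : Subgroup G) ⊔ M) ≤ M ⊔ H :=
      sup_le le_sup_right (sup_le (le_sup_of_le_right Subgroup.le_normalizer) le_sup_left)
    have hg : g ∈ M ⊔ H := hle (htop.symm ▸ Subgroup.mem_top g)
    rw [← SetLike.mem_coe, Subgroup.normal_mul M H] at hg
    obtain ⟨n, hn, h, hh, rfl⟩ := hg
    exact ⟨h, hh, n, hn, rfl⟩
  have hnc : ∃ x ∈ M, ∃ y ∈ (P : Subgroup G), x * y * x⁻¹ * y⁻¹ ≠ 1 := by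
    by_contra! hall
    refine hPn ⟨fun y hy g => ?_⟩
    obtain ⟨h, hh, n, hn, rfl⟩ := hfrat g
    have hy' : h * y * h⁻¹ ∈ (P : Subgroup G) := (Subgroup.mem_normalizer_iff.1 hh y).1 hy
    have hc := hall n hn _ hy'
    rw [mul_inv_eq_one] at hc
    rw [show n * h * y * (n * h)⁻¹ = n * (h * y * h⁻¹) * n⁻¹ by group, hc]
    exact hy'
  -- `M` is generated by the commutators with `P`
  have hD : Subgroup.closure {w : G | ∃ x ∈ M, ∃ y ∈ (P : Subgroup G), w = x * y * x⁻¹ * y⁻¹} = M := by
    set D := Subgroup.closure {w : G | ∃ x ∈ M, ∃ y ∈ (P : Subgroup G), w = x * y * x⁻¹ * y⁻¹}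
    have hDM : D ≤ M := (Subgroup.closure_le M).2 (by
      rintro _ ⟨x, hx, y, -, rfl⟩
      rw [mul_assoc x y, mul_assoc]
      exact mul_mem hx (hM.normal.conj_mem _ (inv_mem hx) y))
    have hDn : D.Normal := by
      refine ⟨fun w hw g => ?_⟩
      obtain ⟨h, hh, n, hn, rfl⟩ := hfrat g
      have h1 : h * w * h⁻¹ ∈ D := by
        have : D ≤ D.comap (MulAut.conj h).toMonoidHom := (Subgroup.closure_le _).2 (by
          rintro _ ⟨x, hx, y, hy, rfl⟩
          refine Subgroup.subset_closure ⟨h * x * h⁻¹, hM.normal.conj_mem x hx h, h * y * h⁻¹,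
            (Subgroup.mem_normalizer_iff.1 hh y).1 hy, ?_⟩
          simp only [MulEquiv.coe_toMonoidHom, MulAut.conj_apply]
          group)
        exact this hw
      rw [show n * h * w * (n * h)⁻¹ = n * (h * w * h⁻¹) * n⁻¹ by group,
        hMab n hn _ (hDM h1), mul_inv_cancel_right]
      exact h1
    refine (hM.eq_of_le D hDn hDM).resolve_left fun e => ?_
    obtain ⟨x, hx, y, hy, hne⟩ := hnc
    exact hne (Subgroup.mem_bot.1 (e ▸ Subgroup.subset_closure ⟨x, hx, y, hy, rfl⟩))
  -- the complement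
  have hHM : ∀ n ∈ H, n ∈ M → n = 1 := by
    have hcen : ∀ n ∈ H, n ∈ M → ∀ y ∈ (P : Subgroup G), n * y = y * n := by
      intro n hn hnM y hy
      have h1 : n * y * n⁻¹ * y⁻¹ ∈ (P : Subgroup G) ⊓ M :=
        ⟨(P : Subgroup G).mul_mem ((Subgroup.mem_normalizer_iff.1 hn y).1 hy) ((P : Subgroup G).inv_mem hy), by
          rw [mul_assoc n y, mul_assoc]
          exact mul_mem hnM (hM.normal.conj_mem _ (inv_mem hnM) y)⟩
      rw [hdisj, Subgroup.mem_bot, mul_inv_eq_one, mul_inv_eq_iff_eq_mul] at h1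
      exact h1
    let C := M ⊓ Subgroup.centralizer ((P : Subgroup G) : Set G)
    have hCn : C.Normal := by
      refine ⟨fun w hw g => ?_⟩
      obtain ⟨h, hh, n, hn, rfl⟩ := hfrat g
      have h1 : h * w * h⁻¹ ∈ C := by
        refine ⟨hM.normal.conj_mem w hw.1 h, fun y hy => ?_⟩
        have hy' : h⁻¹ * y * h ∈ (P : Subgroup G) := (Subgroup.mem_normalizer_iff''.1 hh y).1 hy
        have := hw.2 _ hy'
        calc y * (h * w * h⁻¹) = h * (h⁻¹ * y * h * w) * h⁻¹ := by group
          _ = h * (w * (h⁻¹ * y * h)) * h⁻¹ := by rw [this]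
          _ = h * w * h⁻¹ * y := by group
      rw [show n * h * w * (n * h)⁻¹ = n * (h * w * h⁻¹) * n⁻¹ by group,
        hMab n hn _ h1.1, mul_inv_cancel_right]
      exact h1
    intro n hn hnM
    rcases hM.eq_of_le C hCn inf_le_left with hC | hC
    · exact Subgroup.mem_bot.1 (hC ▸ (show n ∈ C from ⟨hnM, fun y hy => (hcen n hn hnM y hy).symm⟩))
    · obtain ⟨x, hx, y, hy, hne⟩ := hnc
      refine absurd ?_ hne
      have := (hC.symm ▸ hx : x ∈ C).2 y hy
      rw [mul_inv_eq_one, mul_inv_eq_iff_eq_mul]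
      exact this.symm
  -- good Sylow subgroups
  have hgood : ∀ (t : ℕ) (_ : Fact t.Prime), p ≠ t → ¬ DvdDeg (p * t) G → ∀ l : M →* ℂˣ, l ≠ 1 →
      Good t M (inertia (RelDeg.lf M l)) := by
    intro t _ hpt hno l hl
    set I := inertia (RelDeg.lf M l) with hI
    have hMI : M ≤ I := le_inertia (CharNoDiv.lf_classFun l)
    have hpI : p ∣ I.index := by
      by_contra hn
      obtain ⟨T⟩ : Nonempty (Sylow p I) := inferInstance
      have hTi : ¬ p ∣ ((T : Subgroup I).map I.subtype).index := by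
        rw [Subgroup.index_map_subtype]
        exact fun h => ((hp.out.dvd_mul).1 h).elim T.not_dvd_index hn
      obtain ⟨y, hy⟩ := MulAction.exists_smul_eq G P ((T.isPGroup'.map I.subtype).toSylow hTi)
      obtain ⟨h, hh, n, hn', rfl⟩ := hfrat y
      refine hl ((MonoidHom.ext fun w => ?_) : l = 1)
      have hPI : ∀ x ∈ (P : Subgroup G), x ∈ I := by
        intro x hx
        have hx' : h⁻¹ * x * h ∈ (P : Subgroup G) := (Subgroup.mem_normalizer_iff''.1 hh x).1 hx
        have : (n * h) * (h⁻¹ * x * h) * (n * h)⁻¹ ∈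
            (((n * h) • P : Sylow p G) : Subgroup G) := by
          rw [Sylow.coe_subgroup_smul]
          exact ⟨_, hx', rfl⟩
        rw [hy] at this
        have h2 : n * x * n⁻¹ ∈ I := by
          have h3 := Subgroup.map_subtype_le _ this
          rwa [show (n * h) * (h⁻¹ * x * h) * (n * h)⁻¹ = n * x * n⁻¹ by group] at h3
        have h4 := mul_mem (mul_mem (inv_mem (hMI hn')) h2) (hMI hn')
        rwa [show n⁻¹ * (n * x * n⁻¹) * n = x by group] at h4
      have hw : (w : G) ∈ Subgroup.closure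
          {v : G | ∃ x ∈ M, ∃ y ∈ (P : Subgroup G), v = x * y * x⁻¹ * y⁻¹} := hD.symm ▸ w.2
      let L : Subgroup G := l.ker.map M.subtype
      have hle : Subgroup.closure
          {v : G | ∃ x ∈ M, ∃ y ∈ (P : Subgroup G), v = x * y * x⁻¹ * y⁻¹} ≤ L := by
        rw [Subgroup.closure_le]
        rintro _ ⟨x, hx, y, hy, rfl⟩
        refine ⟨⟨x, hx⟩ * ⟨y * x⁻¹ * y⁻¹, hM.normal.conj_mem _ (inv_mem hx) y⟩, ?_, ?_⟩
        · show l _ = 1
          have h5 := congrFun (mem_inertia.1 (hPI y hy)) ⟨x⁻¹, inv_mem hx⟩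
          rw [map_mul, show l ⟨y * x⁻¹ * y⁻¹, _⟩ = l ⟨x⁻¹, inv_mem hx⟩ from Units.ext h5, ← map_mul]
          rw [show (⟨x, hx⟩ : M) * ⟨x⁻¹, inv_mem hx⟩ = 1 from Subtype.ext (mul_inv_cancel x),
            map_one]
        · show x * (y * x⁻¹ * y⁻¹) = _
          group
      obtain ⟨w', hw', hww⟩ := hle hw
      rw [← Subtype.ext hww]
      exact hw'
    let C := H.subgroupOf I
    obtain ⟨μ, hμ⟩ := exists_hom_extension (M.subgroupOf I) C
      (fun a ha haN => Subtype.ext (hHM a ha haN))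
      (fun x => by
        obtain ⟨h, hh, n, hn, hx⟩ := hfrat (x : G)
        have hhI : h ∈ I := by
          rw [show h = n⁻¹ * x by rw [hx]; group]
          exact mul_mem (inv_mem (hMI hn)) x.2
        refine ⟨⟨h, hhI⟩, hh, ?_⟩
        show (x : G) * h⁻¹ ∈ M
        rw [hx, mul_inv_cancel_right]
        exact hn)
      (l.comp (Subgroup.subgroupOfEquivOfLe hMI).toMonoidHom) (fun g n => by
        have := congrFun (mem_inertia.1 g.2) (Subgroup.subgroupOfEquivOfLe hMI n)
        exact Units.ext this)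
    refine good_of_pair M (isIrrCharacter_hom l) (d := 1) (by simp)
      (η := fun x : I => (μ x : ℂ)) (isIrrCharacter_hom μ) (fun n h => ?_) hp.out hpt
      (by rw [mul_one]; exact hpI) hno
    show (μ ⟨n, h⟩ : ℂ) = (l n : ℂ)
    exact congrArg Units.val (hμ ⟨⟨n, h⟩, n.2⟩)
  -- one prime not dividing the index of the centraliser
  have hone : ∀ (t : ℕ) (_ : Fact t.Prime), p ≠ t → ¬ DvdDeg (p * t) G → DvdDeg t G →
      t ∣ (Subgroup.centralizer (M : Set G)).index := by
    intro t htF hpt hno hdt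
    haveI := htF
    by_contra hn
    obtain ⟨x₀, hx₀, hx₀1⟩ := M.bot_or_exists_ne_one.resolve_left hM.ne_bot
    obtain ⟨l, hl⟩ := exists_lin_ne_one hMab (m := ⟨x₀, hx₀⟩) fun e => hx₀1 (congrArg Subtype.val e)
    obtain ⟨S, -, hSn, hSc⟩ := hgood t htF hpt hno l fun e => hl (by rw [e]; rfl)
    have hSK : (S : Subgroup G) ≤ Subgroup.centralizer (M : Set G) := fun x hx => by
      obtain ⟨k, hk⟩ := S.isPGroup' ⟨x, hx⟩
      exact mem_of_not_dvd_index (Fact.out : t.Prime) hn ⟨k, by simpa using congrArg Subtype.val hk⟩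
    have hnorm := sup_normal_of_good (N := M) (K := Subgroup.centralizer (M : Set G))
      (fun g hg => by
        rw [mem_inertia]
        funext m
        refine congrArg (fun w : M => ((l w : ℂˣ) : ℂ)) (Subtype.ext ?_)
        show g * (m : G) * g⁻¹ = m
        rw [← hg m m.2, mul_inv_cancel_right]) hSK hSn
    refine not_dvdDeg_of_sylow S ?_ ?_ hdt
    · by_cases htm : t = m
      · subst htm
        have hMS : M ≤ (S : Subgroup G) :=
          (le_sup_left (b := (S : Subgroup G))).trans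
            (S.is_maximal' (hMm.to_sup_of_normal_left S.isPGroup') le_sup_right).le
        rwa [sup_eq_left.2 hMS] at hnorm
      · haveI := hnorm
        have hle : (S : Subgroup G) ≤ (S : Subgroup G) ⊔ M := le_sup_left
        let S' := S.subtype hle
        have hS'n : (S' : Subgroup ↥((S : Subgroup G) ⊔ M)).Normal := by
          rw [Sylow.coe_subtype, Subgroup.normal_subgroupOf_iff_le_normalizer hle]
          refine sup_le Subgroup.le_normalizer fun x hx => ?_
          rw [Subgroup.mem_normalizer_iff]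
          intro y
          constructor
          · intro hy
            rwa [hSK hy x hx, mul_inv_cancel_right]
          · intro hy
            have := hSK hy x hx
            rwa [show y = x⁻¹ * (x * y * x⁻¹) * x by group, mul_assoc, ← this,
              inv_mul_cancel_left]
        haveI := S'.characteristic_of_normal hS'n
        have : ((S' : Subgroup ↥((S : Subgroup G) ⊔ M)).map ((S : Subgroup G) ⊔ M).subtype).Normal :=
          inferInstance
        rwa [Sylow.coe_subtype, Subgroup.map_subgroupOf_eq_of_le hle] at this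
    · intro x hx y hy
      have h1 := hSc x hx y hy
      obtain ⟨hx', hhx, n1, hn1, rfl⟩ := hfrat x
      obtain ⟨hy', hhy, n2, hn2, rfl⟩ := hfrat y
      have hn1c : ∀ z ∈ (S : Subgroup G), n1 * z = z * n1 := fun z hz => hSK hz n1 hn1
      have hn2c : ∀ z ∈ (S : Subgroup G), n2 * z = z * n2 := fun z hz => hSK hz n2 hn2
      have hn12 := hMab n1 hn1 n2 hn2
      have hc1 : n1 * hy' = hy' * n1 := by
        have := hn1c _ hy
        rw [← mul_assoc, hn12, mul_assoc, mul_assoc] at this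
        exact mul_left_cancel this
      have hc2 : n2 * hx' = hx' * n2 := by
        have := hn2c _ hx
        rw [← mul_assoc, ← hn12, mul_assoc, mul_assoc] at this
        exact mul_left_cancel this
      have hhc : hx' * hy' = hy' * hx' := by
        have heq : n1 * hx' * (n2 * hy') * (n1 * hx')⁻¹ * (n2 * hy')⁻¹ =
            (n1 * n2) * (hx' * hy' * hx'⁻¹) * (n1⁻¹ * hy'⁻¹ * n2⁻¹) := by
          calc _ = n1 * (hx' * n2) * hy' * hx'⁻¹ * n1⁻¹ * hy'⁻¹ * n2⁻¹ := by group
            _ = _ := by rw [← hc2]; group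
        rw [heq] at h1
        have h2 : hx' * hy' * hx'⁻¹ * hy'⁻¹ ∈ M := by
          have h3 : n1⁻¹ * hy'⁻¹ = hy'⁻¹ * n1⁻¹ :=
            ((show Commute n1 hy' from hc1).inv_left.inv_right).eq
          rw [h3] at h1
          have h4 := mul_mem (mul_mem (inv_mem (mul_mem hn1 hn2)) h1) (mul_mem hn2 hn1)
          rwa [show (n1 * n2)⁻¹ * (n1 * n2 * (hx' * hy' * hx'⁻¹) * (hy'⁻¹ * n1⁻¹ * n2⁻¹)) * (n2 * n1) =
            hx' * hy' * hx'⁻¹ * hy'⁻¹ by group] at h4
        have := hHM _ (mul_mem (mul_mem (mul_mem hhx hhy) (inv_mem hhx)) (inv_mem hhy)) h2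
        rwa [mul_inv_eq_one, mul_inv_eq_iff_eq_mul] at this
      calc n1 * hx' * (n2 * hy') = n1 * (hx' * n2) * hy' := by simp only [mul_assoc]
        _ = n2 * n1 * (hx' * hy') := by rw [← hc2, ← hn12]; simp only [mul_assoc]
        _ = n2 * (n1 * hy') * hx' := by rw [hhc]; simp only [mul_assoc]
        _ = n2 * hy' * (n1 * hx') := by rw [hc1]; simp only [mul_assoc]
  refine false_of_good M M hM hMab hMab q r hqr (fun l hl => ⟨hgood q hq hpq h1 l hl, hgood r hr hpr h2 l hl⟩)
    h3 (hone q hq hpq h1 hq') (hone r hr hpr h2 hr')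

end Cfsg.Agent.Palfy
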