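import Mathlib
import Cfsg.Agent.Palfy.CaseA
import Cfsg.Agent.Palfy.CaseB

/-!
# Three primes in the degree graph of a solvable group
-/

set_option autoImplicit false
set_option linter.style.haveILetI false

namespace Cfsg.Agent.Palfy

universe u

/-- A prime that disappears from the degrees modulo a minimal normal subgroup. -/
theorem false_of_disappearing {G : Type u} [Group G] [Finite G] [Group.IsSolvable G]
    (M : Subgroup G) (hM : Core.IsMinNormal M) (s q r : ℕ) [hs : Fact s.Prime] [hq : Fact q.Prime]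
    [hr : Fact r.Prime] (hsq : s ≠ q) (hsr : s ≠ r) (hqr : q ≠ r)
    (hs' : DvdDeg s G) (hq' : DvdDeg q G) (hr' : DvdDeg r G)
    (h1 : ¬ DvdDeg (s * q) G) (h2 : ¬ DvdDeg (s * r) G) (h3 : ¬ DvdDeg (q * r) G)
    (hsM : haveI := hM.normal; ¬ DvdDeg s (G ⧸ M)) : False := by
  haveI := hM.normal
  have hMab : ∀ a ∈ M, ∀ b ∈ M, a * b = b * a := fun a ha b hb =>
    congrArg Subtype.val (hM.isMulCommutative.is_comm.comm (⟨a, ha⟩ : M) ⟨b, hb⟩)
  obtain ⟨m, hm, hMm, -⟩ := hM.exists_isPGroup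
  obtain ⟨P⟩ : Nonempty (Sylow s G) := inferInstance
  obtain ⟨hn, hab⟩ := sylow_of_not_dvdDeg hsM
    (P.mapSurjective (QuotientGroup.mk'_surjective M))
  rw [Sylow.coe_mapSurjective] at hn hab
  have hPM : ((P : Subgroup G) ⊔ M).Normal := by
    have := hn.comap (QuotientGroup.mk' M)
    rwa [Subgroup.comap_map_eq, QuotientGroup.ker_mk'] at this
  have hder : ∀ x ∈ (P : Subgroup G), ∀ y ∈ (P : Subgroup G), x * y * x⁻¹ * y⁻¹ ∈ M := by
    intro x hx y hy
    have := hab _ (Subgroup.mem_map_of_mem _ hx) _ (Subgroup.mem_map_of_mem _ hy)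
    refine (QuotientGroup.eq_one_iff _).1 ?_
    show QuotientGroup.mk' M (x * y * x⁻¹ * y⁻¹) = 1
    rw [map_mul, map_mul, map_mul, this, map_inv, map_inv, mul_inv_cancel_right, mul_inv_cancel]
  by_cases hms : m = s
  · subst hms
    have hMP : M ≤ (P : Subgroup G) := hMm.le_sylow_of_normal P
    haveI : (P : Subgroup G).Normal := sup_eq_left.2 hMP ▸ hPM
    refine caseA M hM hMab m q r hsq hsr hqr P hMP hder ?_ hq' hr' h1 h2 h3
    by_contra! hall
    exact not_dvdDeg_of_sylow P inferInstance hall hs'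
  · refine caseB M hM hMab hMm s q r hm (Ne.symm hms) hsq hsr hqr P hPM (fun hPn => ?_) hq' hr'
      h1 h2 h3
    haveI := Fact.mk hm
    refine not_dvdDeg_of_sylow P hPn (fun x hx y hy => ?_) hs'
    have h4 : x * y * x⁻¹ * y⁻¹ ∈ (P : Subgroup G) ⊓ M :=
      Subgroup.mem_inf.2 ⟨mul_mem (mul_mem (mul_mem hx hy) (inv_mem hx)) (inv_mem hy),
        hder x hx y hy⟩
    rw [disjoint_iff.1 (IsPGroup.disjoint_of_ne s m (Ne.symm hms) _ _ P.isPGroup' hMm),
      Subgroup.mem_bot, mul_inv_eq_one, mul_inv_eq_iff_eq_mul] at h4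
    exact h4

/-- Pálfy's condition. -/
theorem three_primes : ∀ (n : ℕ) (G : Type u) [Group G] [Finite G] [Group.IsSolvable G],
    Nat.card G = n → ∀ p q r : ℕ, p.Prime → q.Prime → r.Prime → p ≠ q → q ≠ r → p ≠ r →
      DvdDeg p G → DvdDeg q G → DvdDeg r G →
      DvdDeg (p * q) G ∨ DvdDeg (q * r) G ∨ DvdDeg (p * r) G := by
  intro n
  induction n using Nat.strong_induction_on with
  | _ n ih =>
    intro G _ _ _ hn p q r hp hq hr hpq hqr hpr hp' hq' hr'
    by_contra! hcon
    obtain ⟨h1, h3, h2⟩ := hcon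
    haveI := Fact.mk hp
    haveI := Fact.mk hq
    haveI := Fact.mk hr
    haveI : Nontrivial G := by
      by_contra hG
      haveI := not_nontrivial_iff_subsingleton.1 hG
      obtain ⟨S⟩ : Nonempty (Sylow p G) := inferInstance
      exact not_dvdDeg_of_sylow S ⟨fun x hx g => by rwa [Subsingleton.elim (g * x * g⁻¹) x]⟩
        (fun a _ b _ => Subsingleton.elim _ _) hp'
    obtain ⟨M, hM⟩ := Core.exists_isMinNormal (G := G)
    haveI := hM.normal
    by_cases hpM : DvdDeg p (G ⧸ M)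
    swap
    · exact false_of_disappearing M hM p q r hpq hpr hqr hp' hq' hr' h1 h2 h3 hpM
    by_cases hqM : DvdDeg q (G ⧸ M)
    swap
    · exact false_of_disappearing M hM q p r hpq.symm hqr hpr hq' hp' hr' (by rwa [mul_comm])
        h3 h2 hqM
    by_cases hrM : DvdDeg r (G ⧸ M)
    swap
    · exact false_of_disappearing M hM r p q hpr.symm hqr.symm hpq hr' hp' hq' (by rwa [mul_comm])
        (by rwa [mul_comm]) h1 hrM
    have hlt : Nat.card (G ⧸ M) < n := by
      rw [← hn, Subgroup.card_eq_card_quotient_mul_card_subgroup M]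
      exact lt_mul_of_one_lt_right Nat.card_pos (M.one_lt_card_iff_ne_bot.2 hM.ne_bot)
    rcases ih _ hlt (G ⧸ M) rfl p q r hp hq hr hpq hqr hpr hpM hqM hrM with h | h | h
    exacts [h1 (h.of_quotient M), h3 (h.of_quotient M), h2 (h.of_quotient M)]

end Cfsg.Agent.Palfy
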